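import Cfsg.Agent.Lib.Transfer.RankOne.SmallL

/-!
When `Q = Z₀` the group `V` is trivial.
-/

set_option autoImplicit false
set_option linter.unusedSectionVars false
set_option linter.style.haveILetI false

namespace Cfsg.Agent.Transfer.RankOne

open MulAction

universe u v

variable {G : Type u} {Ω : Type v} [Group G] [MulAction G Ω] [Finite G] [FaithfulSMul G Ω] [IsSimpleGroup G]
  {a : Ω} {t : G} {Q : Subgroup G}

/-- A subgroup containing `t` and invariant under the stabiliser of `a` is the whole group. -/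
theorem eq_top_of_invariant (H : Hyp G Ω a t Q) {L : Subgroup G} (ht : t ∈ L)
    (hinv : ∀ g ∈ stabilizer G a, ∀ x ∈ L, g * x * g⁻¹ ∈ L) : L = ⊤ := by
  have hn : L.Normal := by
    refine Subgroup.normalizer_eq_top_iff.1 (eq_top_iff.2 fun g _ => ?_)
    have hst : stabilizer G a ≤ Subgroup.normalizer (L : Set G) := fun g hg =>
      Subgroup.mem_normalizer_fintype (hinv g hg)
    by_cases hg : g ∈ stabilizer G a
    · exact hst hg
    · obtain ⟨x, hx, y, hy, rfl⟩ := Lie.RankOne.canon_exists H.setup hg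
      exact mul_mem (mul_mem (hst hx) (Subgroup.le_normalizer ht)) (hst (H.setup.le hy))
  exact (IsSimpleGroup.eq_bot_or_eq_top_of_normal L hn).resolve_left fun h =>
    H.setup.ne_one (Subgroup.mem_bot.1 (h ▸ ht))

theorem v_bot_of_small (H : Hyp G Ω a t Q) (hQ : Nat.card Q = Nat.card (zGrp G a)) : vGrp a t = ⊥ := by
  obtain ⟨n, F, i1, i2, -, -, -, ⟨E⟩⟩ := exists_env H
  have hQZ : zGrp G a = Q := Subgroup.eq_of_le_of_card_ge (zGrp_le H) hQ.le
  have hrz : E.r ∈ zGrp G a := hQZ ▸ E.hr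
  have htop : lGrp E hrz = ⊤ := by
    refine eq_top_of_invariant H (t_mem_lGrp E hrz) fun g hg x hx => ?_
    obtain ⟨q, hq, d, hd, rfl⟩ := Lie.RankOne.exists_qd H.setup hg
    obtain ⟨k, hk, w, hw, rfl⟩ := exists_decomp H hd
    have hqL : q ∈ lGrp E hrz := z_le_lGrp E hrz (hQZ ▸ hq)
    have hkL : k ∈ lGrp E hrz := k_le_lGrp E hrz hk
    have hwx : w * x * w⁻¹ ∈ lGrp E hrz := by
      have hwz : ∀ z ∈ zGrp G a, w * z * w⁻¹ ∈ zGrp G a := fun z hz => conj_zGrp H hw.1.1 hz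
      have hwk : ∀ c ∈ kGrp a t, w * c * w⁻¹ ∈ kGrp a t := fun c hc => conj_kGrp H hw.1 hc
      have hwt : w * t * w⁻¹ = t := by rw [(mem_vGrp.1 hw).2, mul_inv_cancel_right]
      rcases hx with ⟨z, hz, c, hc, rfl⟩ | ⟨z, hz, c, hc, z', hz', rfl⟩
      · rw [← conj_mul]
        exact mul_mem (z_le_lGrp E hrz (hwz z hz)) (k_le_lGrp E hrz (hwk c hc))
      · rw [← conj_mul, ← conj_mul, ← conj_mul, hwt]
        exact mul_mem (mul_mem (mul_mem (z_le_lGrp E hrz (hwz z hz)) (k_le_lGrp E hrz (hwk c hc)))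
          (t_mem_lGrp E hrz)) (z_le_lGrp E hrz (hwz z' hz'))
    rw [show q * (k * w) * x * (q * (k * w))⁻¹ = q * k * (w * x * w⁻¹) * k⁻¹ * q⁻¹ by group]
    exact mul_mem (mul_mem (mul_mem (mul_mem hqL hkL) hwx) (inv_mem hkL)) (inv_mem hqL)
  refine (Subgroup.eq_bot_iff_forall _).2 fun x hx => k_inter_v H ?_ hx
  exact lGrp_dGrp E hrz (htop ▸ Subgroup.mem_top x) hx.1

end Cfsg.Agent.Transfer.RankOne
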