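import Cfsg.Agent.Lib.Transfer.RankOne.QCoord
import Cfsg.Agent.Lib.Transfer.RankOne.VBot
import Cfsg.Agent.Lib.Grp.SuzIdent.Main

/-!
When `Q` is nonabelian of order `q ^ 2` the group `V` is trivial: the subgroup generated by `Q`, `K` and `t` acts as
the Suzuki group does.
-/

set_option autoImplicit false
set_option linter.unusedSectionVars false
set_option linter.style.haveILetI false

namespace Cfsg.Agent.Transfer.RankOne

open MulAction
open Cfsg.Agent.Grp.SuzIdent (mulP sclP Rules Coords IsSwap tauOf pt_tauOf phi_unique)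
open Cfsg.Agent.Lie.RankOne (b_ne q_fix t_smul_b exists_qd)

universe u v

/-- The Suzuki group with normalised coordinates. -/
theorem exists_model {K : Type} [Field K] [Fintype K] [CharP K 2] {m : ℕ} (hm : 1 ≤ m)
    (hK : Fintype.card K = 2 ^ (2 * m + 1)) {φ : K ≃+* K} (hB : ∀ c, φ (φ c) * φ (φ c) = c)
    (hnid : φ ≠ RingEquiv.refl K) (hinj : ∀ a : K, a * φ a = 1 → a = 1) :
    ∃ (G' : Type) (_ : Group G') (Ω' : Type) (_ : MulAction G' Ω') (_ : Finite G')
      (D' : Cfsg.Agent.Block.Zas.Frame G' Ω') (C' : Coords D' K φ) (t' : G'),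
      IsSwap D' t' ∧ Rules φ 1 0 (tauOf C' t') := by
  classical
  have hS : Suz.SzField K m := ⟨hm, hK⟩
  haveI : IsSimpleGroup ↥(Cfsg.Sz K m) := Suz.isSimple hS
  have hZ := Suz.isZassenhaus hS
  let a' : Cfsg.suzukiOvoid K m := ⟨Suz.pt m none, Suz.mem_ovoid_iff.2 ⟨_, rfl⟩⟩
  let b' : Cfsg.suzukiOvoid K m := ⟨Suz.pt m (some (0, 0)), Suz.mem_ovoid_iff.2 ⟨_, rfl⟩⟩
  have hab : a' ≠ b' := fun e =>
    Suz.pt_ne hS (o := none) (o' := some ((0 : K), 0)) (by simp) (congrArg Subtype.val e)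
  have hle : Suz.unip hS ≤ MulAction.stabilizer (↥(Cfsg.Sz K m)) a' := fun g hg =>
    Subtype.ext (Suz.unip_le_borel hS hg)
  have hnorm : ((Suz.unip hS).subgroupOf (MulAction.stabilizer (↥(Cfsg.Sz K m)) a')).Normal :=
    ⟨fun u hu g => (Subgroup.mem_normalizer_iff.1
      (Suz.borel_le_normalizer hS (congrArg Subtype.val g.2)) _).1 hu⟩
  have hreg : ∀ y z : Cfsg.suzukiOvoid K m, y ≠ a' → z ≠ a' → ∃! u : Suz.unip hS,
      (u : ↥(Cfsg.Sz K m)) • y = z := by
    have hex : ∀ y : Cfsg.suzukiOvoid K m, y ≠ a' → ∃ a b : K, Suz.uS hS a b • b' = y := fun y hy => by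
      obtain ⟨o, ho⟩ := Suz.mem_ovoid_iff.1 y.2
      rcases o with _ | ⟨a, b⟩
      · exact absurd (Subtype.ext ho.symm) hy
      · exact ⟨a, b, Subtype.ext ((Suz.uS_pt_zero hS a b).trans ho)⟩
    intro y z hy hz
    obtain ⟨a, b, rfl⟩ := hex y hy
    obtain ⟨c, d, rfl⟩ := hex z hz
    refine ⟨⟨Suz.uS hS c d * (Suz.uS hS a b)⁻¹, mul_mem ((Suz.mem_unip hS).2 ⟨_, _, rfl⟩)
      (inv_mem ((Suz.mem_unip hS).2 ⟨_, _, rfl⟩))⟩, ?_, fun u hu => Subtype.ext ?_⟩
    · show (Suz.uS hS c d * (Suz.uS hS a b)⁻¹) • Suz.uS hS a b • b' = _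
      rw [mul_smul, inv_smul_smul]
    · obtain ⟨x, y', hxy⟩ := (Suz.mem_unip hS).1 (mul_mem u.2 ((Suz.mem_unip hS).2 ⟨a, b, rfl⟩))
      have h : Suz.uS hS x y' • b' = Suz.uS hS c d • b' := by rw [← hxy, mul_smul]; exact hu
      have h' := congrArg Subtype.val h
      replace h' : Suz.uS hS x y' • Suz.pt m (some ((0 : K), 0)) =
          Suz.uS hS c d • Suz.pt m (some ((0 : K), 0)) := h'
      rw [Suz.uS_pt_zero, Suz.uS_pt_zero] at h'
      obtain ⟨rfl, rfl⟩ : x = c ∧ y' = d := by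
        have := Suz.pt_injective (m := m) h'
        simpa using this
      exact eq_mul_inv_of_mul_eq hxy
  let D' := Cfsg.Agent.Block.Zas.frameOf hZ hab (Suz.unip hS) hle hnorm hreg
  have hn' : 2 ≤ Nat.card D'.F := Cfsg.Agent.Block.Zas.Frame.two_le_F D' hZ
  have hF' : Nat.card D'.F = (2 ^ (2 * m + 1)) ^ 2 := Suz.card_unip hS
  have h2' : IsPGroup 2 D'.F := IsPGroup.of_card (n := (2 * m + 1) * 2) (by rw [hF', ← pow_mul])
  have hna' : ∃ x y : D'.F, x * y ≠ y * x := by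
    obtain ⟨w, hw0, hw1⟩ := Suz.exists_ne_zero_one hS
    refine ⟨⟨Suz.uS hS 1 0, (Suz.mem_unip hS).2 ⟨_, _, rfl⟩⟩, ⟨Suz.uS hS w 0, (Suz.mem_unip hS).2 ⟨_, _, rfl⟩⟩,
      fun e => ?_⟩
    have e' := congrArg Subtype.val e
    replace e' : Suz.uS hS 1 0 * Suz.uS hS w 0 = Suz.uS hS w 0 * Suz.uS hS 1 0 := e'
    rw [Suz.uS_mul, Suz.uS_mul] at e'
    have e2 : Suz.th m w = w := by
      simpa [Suz.th_one, eq_comm] using (Suz.uS_injective hS e').2
    have e3 := Suz.th_th hS w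
    rw [e2, e2] at e3
    exact hw1 (mul_left_cancel₀ hw0 (by linear_combination -e3))
  obtain ⟨n', K', iL, iL', φ', C', t', hno', hn1', hK', hF'', hHc', hchar', hB', S', hrel', R'⟩ :=
    Grp.SuzIdent.exists_normal D' hn' (D'.H_ne_bot hZ) h2' hna'
  haveI := hchar'
  have hnn : n' = 2 * m + 1 := by
    have h := hF''.symm.trans hF'
    rw [← pow_mul, ← pow_mul] at h
    have := Nat.pow_right_injective le_rfl h
    omega
  subst hnn
  let ψ : K ≃+* K' := FiniteField.ringEquivOfCardEq (hK.trans hK'.symm)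
  let φ'' : K ≃+* K := (ψ.trans φ').trans ψ.symm
  have hB'' : ∀ c, φ'' (φ'' c) * φ'' (φ'' c) = c := fun c => by
    simp only [φ'', RingEquiv.trans_apply, RingEquiv.apply_symm_apply]
    rw [← map_mul, hB', RingEquiv.symm_apply_apply]
  have hφ : φ = φ'' := phi_unique ⟨m, rfl⟩ hK hB hB''
  have hψ : ∀ x, ψ (φ x) = φ' (ψ x) := fun x => by
    rw [hφ]; simp [φ'']
  refine ⟨_, inferInstance, _, inferInstance, inferInstance, D', C'.congr ψ hψ, t', S', ?_⟩
  refine Grp.SuzIdent.rules (C'.congr ψ hψ) S' hnid hinj one_ne_zero ?_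
  show t' * C'.e (ψ 0, ψ 1) * t' = C'.e (ψ 1, ψ 0) * t' * (C'.e (ψ 1, ψ 0))⁻¹
  rw [map_one, map_zero]
  exact hrel'

variable {G : Type u} {Ω : Type v} [Group G] [MulAction G Ω] [Finite G] [FaithfulSMul G Ω] [IsSimpleGroup G]
  {a : Ω} {t : G} {Q : Subgroup G}

theorem v_bot_square (H : Hyp G Ω a t Q) (hQ2 : IsPGroup 2 Q) (hna : ∃ x ∈ Q, ∃ y ∈ Q, x * y ≠ y * x)
    (hsz : Nat.card Q = Nat.card (zGrp G a) ^ 2) : vGrp a t = ⊥ := by
  classical
  obtain ⟨n, F, i1, i2, -, -, -, ⟨E⟩⟩ := exists_env H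
  obtain ⟨m, K, iK, iK', φ, C, hm, hK, hchar, hB, R⟩ := exists_normal_q E hQ2 hna hsz
  haveI := hchar
  obtain ⟨G', iG, Ω', iΩ, iF, D', C', t', S', R'⟩ := exists_model hm hK hB R.nid R.inj
  let ptO : Option (K × K) → Ω := fun o => o.elim a C.pt
  let ptO' : Option (K × K) → Ω' := fun o => o.elim D'.a C'.pt
  have hptO : ∀ {o o'}, ptO o = ptO o' → o = o' := fun {o o'} h => by
    rcases o with _ | p <;> rcases o' with _ | q
    · rfl
    · exact absurd h.symm (C.pt_ne H q)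
    · exact absurd h (C.pt_ne H p)
    · exact congrArg some (C.pt_inj H h)
  have hptO' : ∀ {o o'}, ptO' o = ptO' o' → o = o' := fun {o o'} h => by
    rcases o with _ | p <;> rcases o' with _ | q
    · rfl
    · exact absurd h.symm (C'.pt_ne q)
    · exact absurd h (C'.pt_ne p)
    · exact congrArg some (C'.pt_inj h)
  let P : G → G' → Prop := fun g g' => ∀ o, ∃ o', g • ptO o = ptO o' ∧ g' • ptO' o = ptO' o'
  have Pone : P 1 1 := fun o => ⟨o, one_smul _ _, one_smul _ _⟩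
  have Pmul : ∀ {g h g' h'}, P g g' → P h h' → P (g * h) (g' * h') := fun hg hh o => by
    obtain ⟨o1, e1, e1'⟩ := hh o
    obtain ⟨o2, e2, e2'⟩ := hg o1
    exact ⟨o2, by rw [mul_smul, e1, e2], by rw [mul_smul, e1', e2']⟩
  have Pe : ∀ p, P (C.e p) (C'.e p) := fun p o => by
    rcases o with _ | q
    · exact ⟨none, q_fix H.setup (C.mem p), D'.F_fix _ (C'.mem p)⟩
    · exact ⟨some (mulP φ p q), C.e_smul_pt H p q, C'.e_smul_pt p q⟩
  have Ph : ∀ c, c ≠ 0 → P (C.h c) (C'.h c) := fun c hc o => by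
    rcases o with _ | q
    · exact ⟨none, mem_stabilizer_iff.1 (kGrp_le_dGrp H (C.h_mem c hc)).1, (C'.h_mem c hc).1⟩
    · exact ⟨some (sclP φ c q), C.h_smul_pt H hc q, C'.h_smul_pt hc q⟩
  have Pt : P t t' := fun o => by
    rcases o with _ | q
    · exact ⟨some 0, (C.pt_zero H).symm, S'.ta.trans C'.pt_zero.symm⟩
    · by_cases hq : q = 0
      · subst hq
        refine ⟨none, ?_, Grp.SuzIdent.smul_t_pt_zero C' S'⟩
        show t • C.pt 0 = a
        rw [C.pt_zero H, t_smul_b H.setup]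
      · refine ⟨some (C.tau q), (C.pt_tau H hq).symm, ?_⟩
        show t' • C'.pt q = C'.pt (C.tau q)
        rw [R.unique R' hq, pt_tauOf C' S' hq]
  set S : Set G := (Q : Set G) ∪ (kGrp a t : Set G) ∪ {t} with hS
  let M : Submonoid G :=
    { carrier := {g | ∃ g', P g g'}
      one_mem' := ⟨1, Pone⟩
      mul_mem' := fun ⟨_, hg⟩ ⟨_, hh⟩ => ⟨_, Pmul hg hh⟩ }
  have hSM : ∀ g ∈ S, g ∈ M := by
    rintro g ((hg | hg) | hg)
    · obtain ⟨p, rfl⟩ := C.surj g hg
      exact ⟨_, Pe p⟩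
    · obtain ⟨c, hc, rfl⟩ := C.h_surj g hg
      exact ⟨_, Ph c hc⟩
    · rw [Set.mem_singleton_iff] at hg
      exact hg ▸ ⟨_, Pt⟩
  have hclM : ∀ g ∈ Subgroup.closure S, g ∈ M := fun g hg => by
    induction hg using Subgroup.closure_induction with
    | mem x hx => exact hSM x hx
    | one => exact one_mem _
    | mul x y _ _ hx hy => exact mul_mem hx hy
    | inv x _ hx =>
      rw [show x⁻¹ = x ^ (orderOf x - 1) from inv_eq_of_mul_eq_one_right (by
        rw [← pow_succ', Nat.sub_add_cancel (orderOf_pos x), pow_orderOf_eq_one])]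
      exact pow_mem hx _
  have hQL : ∀ q ∈ Q, q ∈ Subgroup.closure S := fun q hq => Subgroup.subset_closure (Or.inl (Or.inl hq))
  have hKL : ∀ k ∈ kGrp a t, k ∈ Subgroup.closure S := fun k hk => Subgroup.subset_closure (Or.inl (Or.inr hk))
  have htop : Subgroup.closure S = ⊤ := by
    refine eq_top_of_invariant H (Subgroup.subset_closure (Or.inr rfl)) fun g hg x hx => ?_
    obtain ⟨q, hq, d, hd, rfl⟩ := exists_qd H.setup hg
    obtain ⟨k, hk, w, hw, rfl⟩ := exists_decomp H hd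
    have hwx : w * x * w⁻¹ ∈ Subgroup.closure S := by
      induction hx using Subgroup.closure_induction with
      | mem y hy =>
        rcases hy with (hy | hy) | hy
        · exact hQL _ (H.setup.conj_mem w hw.1.1 y hy)
        · exact hKL _ (conj_kGrp H hw.1 hy)
        · rw [Set.mem_singleton_iff] at hy
          subst hy
          rw [(mem_vGrp.1 hw).2, mul_inv_cancel_right]
          exact Subgroup.subset_closure (Or.inr rfl)
      | one => rw [mul_one, mul_inv_cancel]; exact one_mem _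
      | mul y z _ _ hy hz => rw [← conj_mul]; exact mul_mem hy hz
      | inv y _ hy => rw [← conj_inv]; exact inv_mem hy
    rw [show q * (k * w) * x * (q * (k * w))⁻¹ = q * k * (w * x * w⁻¹) * k⁻¹ * q⁻¹ by group]
    exact mul_mem (mul_mem (mul_mem (mul_mem (hQL q hq) (hKL k hk)) hwx) (inv_mem (hKL k hk))) (inv_mem (hQL q hq))
  refine (Subgroup.eq_bot_iff_forall _).2 fun x hx => k_inter_v H ?_ hx
  obtain ⟨g', hg'⟩ := hclM x (htop ▸ Subgroup.mem_top x)
  have ha' : g' • D'.a = D'.a := by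
    obtain ⟨o', e, e'⟩ := hg' none
    have ho : o' = none := hptO (e.symm.trans (mem_stabilizer_iff.1 hx.1.1))
    subst ho
    exact e'
  have hb' : g' • D'.b = D'.b := by
    obtain ⟨o', e, e'⟩ := hg' (some 0)
    have ho : o' = some 0 := hptO (e.symm.trans (by
      show x • C.pt 0 = C.pt 0
      rw [C.pt_zero H]
      exact mem_stabilizer_iff.1 hx.1.2))
    subst ho
    have e'' : g' • C'.pt 0 = C'.pt 0 := e'
    rwa [C'.pt_zero] at e''
  obtain ⟨c, hc, rfl⟩ := C'.h_surj g' ⟨ha', hb'⟩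
  suffices x = C.h c from this ▸ C.h_mem c hc
  refine FaithfulSMul.eq_of_smul_eq_smul (α := Ω) fun y => ?_
  by_cases hy : y = a
  · subst hy
    rw [mem_stabilizer_iff.1 hx.1.1, mem_stabilizer_iff.1 (kGrp_le_dGrp H (C.h_mem c hc)).1]
  obtain ⟨p, rfl⟩ := C.exists_pt H hy
  obtain ⟨o', e, e'⟩ := hg' (some p)
  have ho : o' = some (sclP φ c p) := hptO' (e'.symm.trans (C'.h_smul_pt hc p))
  subst ho
  rw [C.h_smul_pt H hc]
  exact e

end Cfsg.Agent.Transfer.RankOne
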