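import Cfsg.Agent.Lib.Transfer.RankOne.Sub

/-!
The structure of `Q` in the simple case, as a property passed through the induction, and what it gives for the
centraliser of an element of `V`.
-/

set_option autoImplicit false
set_option linter.unusedSectionVars false
set_option linter.style.haveILetI false

namespace Cfsg.Agent.Transfer.RankOne

open MulAction

universe u v

/-- The structure of the regular normal subgroup. -/
def StructP {G : Type u} {Ω : Type v} [Group G] [MulAction G Ω] (a : Ω) (t : G) (Q : Subgroup G) : Prop :=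
  IsPGroup 2 Q ∧ (Nat.card Q = Nat.card (zGrp G a) ∨ ((∃ x ∈ Q, ∃ y ∈ Q, x * y ≠ y * x) ∧
    (Nat.card Q = Nat.card (zGrp G a) ^ 2 ∨ (Nat.card Q = Nat.card (zGrp G a) ^ 3 ∧ wGrp a t ≠ ⊥))))

/-- The induction hypothesis: the structure holds in all smaller simple groups. -/
def Below (n : ℕ) : Prop :=
  ∀ (G' : Type v) (Ω' : Type v) [Group G'] [MulAction G' Ω'] [Finite G'] [FaithfulSMul G' Ω'] [IsSimpleGroup G']
    (a' : Ω') (t' : G') (Q' : Subgroup G'), Hyp G' Ω' a' t' Q' → Nat.card G' < n → StructP a' t' Q'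

variable {G : Type u} {Ω : Type v} [Group G] [MulAction G Ω] [Finite G] [FaithfulSMul G Ω]
  {a : Ω} {t : G} {Q : Subgroup G}

theorem card_zGrp_eq (H : Hyp G Ω a t Q) : Nat.card (zGrp G a) = Nat.card {z : Q // z * z = 1} :=
  Nat.card_congr
    { toFun := fun z => ⟨⟨z.1, zGrp_le H z.2⟩, Subtype.ext ((mem_zGrp H).1 z.2).2⟩
      invFun := fun z => ⟨z.1.1, (mem_zGrp' H).2 ⟨z.1.2, congrArg Subtype.val z.2⟩⟩
      left_inv := fun _ => rfl
      right_inv := fun _ => rfl }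

variable {x : G} (H : Hyp G Ω a t Q) (hx : x ∈ vGrp a t)
include H hx

theorem sub_struct {n : ℕ} (ih : Below.{v} n) (hn : Nat.card G ≤ n) (hx1 : x ≠ 1) {z z' : G}
    (hz : z ∈ zGrp G a) (hz' : z' ∈ zGrp G a) (hne : z ≠ z') (h1 : z ≠ 1) (h1' : z' ≠ 1)
    (hzx : z * x = x * z) (hzx' : z' * x = x * z') :
    IsPGroup 2 ↥(Q ⊓ Subgroup.centralizer ({x} : Set G)) ∧
    (Nat.card ↥(Q ⊓ Subgroup.centralizer ({x} : Set G)) =
        Nat.card ↥(zGrp G a ⊓ Subgroup.centralizer ({x} : Set G)) ∨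
      ((∃ p ∈ Q ⊓ Subgroup.centralizer ({x} : Set G), ∃ p' ∈ Q ⊓ Subgroup.centralizer ({x} : Set G),
          p * p' ≠ p' * p) ∧
        (Nat.card ↥(Q ⊓ Subgroup.centralizer ({x} : Set G)) =
            Nat.card ↥(zGrp G a ⊓ Subgroup.centralizer ({x} : Set G)) ^ 2 ∨
          (Nat.card ↥(Q ⊓ Subgroup.centralizer ({x} : Set G)) =
            Nat.card ↥(zGrp G a ⊓ Subgroup.centralizer ({x} : Set G)) ^ 3 ∧
            ∃ g ∈ vGrp a t, g * x = x * g ∧ (∀ k ∈ kGrp a t, k * x = x * k → k * g = g * k) ∧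
              ∃ c : Ω, x • c = c ∧ g • c ≠ c)))) := by
  have HB := sub_hyp H hx hz hz' hne h1 h1' hzx hzx'
  have HN := invGen_hyp HB
  haveI := invGen_simple HB
  have hlt : Nat.card (invGen (subG Ω x)) < n :=
    lt_of_le_of_lt (Subgroup.card_le_card_group _) ((centralizer_lt H hx hx1).trans_le hn)
  obtain ⟨hp, hQ⟩ := ih _ _ _ _ _ HN hlt
  let e : ↥((subQ Ω Q x).subgroupOf (invGen (subG Ω x))) ≃* ↥(Q ⊓ Subgroup.centralizer ({x} : Set G)) :=
    ((Subgroup.subgroupOfEquivOfLe (q_le_invGen HB)).trans (subQEquiv H hx).symm).trans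
      { toFun := fun g => ⟨g.1.1, g.2, g.1.2⟩
        invFun := fun g => ⟨⟨g.1, g.2.2⟩, g.2.1⟩
        left_inv := fun _ => rfl
        right_inv := fun _ => rfl
        map_mul' := fun _ _ => rfl }
  have hzc : Nat.card (zGrp (invGen (subG Ω x)) (subA H hx)) =
      Nat.card ↥(zGrp G a ⊓ Subgroup.centralizer ({x} : Set G)) := by
    rw [card_zGrp_eq HN]
    refine (Nat.card_congr (e.toEquiv.subtypeEquiv (q := fun g => g * g = 1) fun g => ?_)).trans (Nat.card_congr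
      { toFun := fun g => ⟨g.1.1, (mem_zGrp' H).2 ⟨g.1.2.1, congrArg Subtype.val g.2⟩, g.1.2.2⟩
        invFun := fun g => ⟨⟨g.1, zGrp_le H g.2.1, g.2.2⟩, Subtype.ext ((mem_zGrp H).1 g.2.1).2⟩
        left_inv := fun _ => rfl
        right_inv := fun _ => rfl })
    show g * g = 1 ↔ e g * e g = 1
    rw [← map_mul, MulEquiv.map_eq_one_iff]
  refine ⟨hp.of_equiv e, ?_⟩
  rw [← Nat.card_congr e.toEquiv, ← hzc]
  rcases hQ with h | ⟨hna, h⟩
  · exact Or.inl h
  refine Or.inr ⟨?_, ?_⟩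
  · obtain ⟨p, hp, p', hp', hne'⟩ := hna
    refine ⟨_, (e ⟨p, hp⟩).2, _, (e ⟨p', hp'⟩).2, fun he => hne' ?_⟩
    have : e ⟨p, hp⟩ * e ⟨p', hp'⟩ = e ⟨p', hp'⟩ * e ⟨p, hp⟩ := Subtype.ext he
    rw [← map_mul, ← map_mul] at this
    exact congrArg Subtype.val (e.injective this)
  rcases h with h | ⟨h, hW⟩
  · exact Or.inl h
  refine Or.inr ⟨h, ?_⟩
  obtain ⟨w, hw, hw1⟩ := (Subgroup.bot_or_exists_ne_one _).resolve_left hW
  obtain ⟨g, hg⟩ := toSub_surj x (w : subG Ω x)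
  obtain ⟨hwV, hwK⟩ := (mem_wGrp).1 hw
  obtain ⟨hwD, hwt⟩ := (mem_vGrp).1 hwV
  have hga : (g : G) ∈ stabilizer G a := (sub_stab H hx).1 (hg ▸ hwD.1)
  have hgb : (g : G) ∈ stabilizer G (t • a) := (sub_stab_b H hx).1 (hg ▸ hwD.2)
  have hgD : (g : G) ∈ dGrp a t := ⟨hga, hgb⟩
  let tc : Subgroup.centralizer ({x} : Set G) := ⟨t, t_mem_cent hx⟩
  have hker : toSub Ω x (g * tc * g⁻¹ * tc) = 1 := by
    have h1 : toSub Ω x g * toSub Ω x tc = toSub Ω x tc * toSub Ω x g := by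
      rw [hg]; exact congrArg Subtype.val hwt
    rw [map_mul, map_mul, map_mul, map_inv, h1, mul_inv_cancel_right, ← map_mul, ← map_one (toSub Ω x)]
    exact congrArg _ (Subtype.ext H.setup.mul_self)
  have hv := ker_le_vGrp H hx hker
  have hgV : (g : G) ∈ vGrp a t := by
    obtain ⟨k, hk, y, hy, e'⟩ := exists_decomp H hgD
    have h2 : (g : G) * t * (g : G)⁻¹ * t = k * k := by
      rw [e']
      calc k * y * t * (k * y)⁻¹ * t = k * (y * t * y⁻¹) * k⁻¹ * t := by group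
        _ = k * (t * k⁻¹ * t) := by rw [(mem_vGrp.1 hy).2, mul_inv_cancel_right]; group
        _ = k * k := by rw [t_k H (inv_mem hk), inv_inv]
    have h3 : k * k = 1 := k_inter_v H (mul_mem hk hk) (h2 ▸ hv)
    rw [e', Lie.RankOne.eq_one_of_sq H.setup.odd_card (kGrp_le_dGrp H hk) h3, one_mul]
    exact hy
  refine ⟨g, hgV, Subgroup.mem_centralizer_singleton_iff.1 g.2, fun k hk hkx => ?_, ?_⟩
  · let kc : Subgroup.centralizer ({x} : Set G) := ⟨k, Subgroup.mem_centralizer_singleton_iff.2 hkx⟩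
    have hkB : toSub Ω x kc ∈ kGrp (subA H hx) (subT (Ω := Ω) hx) := by
      refine Subgroup.subset_closure ⟨⟨(sub_stab H hx).2 (kGrp_le_dGrp H hk).1,
        (sub_stab_b H hx).2 (kGrp_le_dGrp H hk).2⟩, ?_⟩
      rw [subT, ← map_inv, ← map_inv, ← map_mul, ← map_mul]
      refine congrArg _ (Subtype.ext ?_)
      show t * k * t⁻¹ = k⁻¹
      rw [Lie.RankOne.inv_t H.setup, t_k H hk]
    have hkN := kGrp_le_invGen HB hkB
    have hkN' : (⟨toSub Ω x kc, hkN⟩ : invGen (subG Ω x)) ∈ kGrp (subA H hx)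
        (⟨subT (Ω := Ω) hx, t_mem_invGen HB⟩ : invGen (subG Ω x)) := by
      obtain ⟨hd, hi⟩ := (mem_kGrp HB).1 hkB
      exact Subgroup.subset_closure ⟨hd, Subtype.ext hi⟩
    have h1 : toSub Ω x kc * toSub Ω x g = toSub Ω x g * toSub Ω x kc := by
      rw [hg]; exact congrArg Subtype.val (hwK _ hkN')
    have hker' : toSub Ω x (g * kc * g⁻¹ * kc⁻¹) = 1 := by
      rw [map_mul, map_mul, map_mul, map_inv, map_inv, ← h1, mul_inv_cancel_right, mul_inv_cancel]
    have h2 := k_inter_v H (mul_mem (conj_kGrp H hgD hk) (inv_mem hk)) (ker_le_vGrp H hx hker')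
    rw [mul_inv_eq_one, mul_inv_eq_iff_eq_mul] at h2
    exact h2.symm
  · by_contra hcon
    push Not at hcon
    refine hw1 (Subtype.ext ?_)
    rw [← hg]
    refine Subtype.ext (Equiv.ext fun c => Subtype.ext ?_)
    exact hcon c c.2

end Cfsg.Agent.Transfer.RankOne
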