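import Cfsg.Agent.Lib.Transfer.RankOne.AbCount
import Cfsg.Agent.Lib.Transfer.RankOne.Struct

/-!
An abelian `2`-group `Q` with non-trivial `V` is generated by its involutions.
-/

set_option autoImplicit false
set_option linter.unusedSectionVars false
set_option linter.style.haveILetI false

namespace Cfsg.Agent.Transfer.RankOne

open MulAction

universe u v

variable {G : Type u} {Ω : Type v} [Group G] [MulAction G Ω] [Finite G] [FaithfulSMul G Ω]
  {a : Ω} {t : G} {Q : Subgroup G} {F : Type} [Field F] [Finite F] (E : Env a t Q F)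
include E

/-- An element commuting with `K` and with all of `Q` is trivial. -/
theorem d_eq_one {d : G} (hd : d ∈ dGrp a t) (h : ∀ y ∈ Q, d * y = y * d) : d = 1 := by
  refine FaithfulSMul.eq_of_smul_eq_smul (α := Ω) fun c => ?_
  rw [one_smul]
  by_cases hc : c = a
  · rw [hc]; exact mem_stabilizer_iff.1 hd.1
  obtain ⟨y, hy, rfl⟩ := Lie.RankOne.exists_q E.hyp.setup hc
  exact (fix_q_iff E.hyp hd hy).2 (h y hy)

theorem w_bot_abelian (hQ2 : IsPGroup 2 Q) (hab : ∀ y ∈ Q, ∀ z ∈ Q, y * z = z * y) : wGrp a t = ⊥ := by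
  have H := E.hyp
  refine (Subgroup.eq_bot_iff_forall _).2 fun w hw => d_eq_one E hw.1.1 fun y hy => ?_
  have hwa : w ∈ stabilizer G a := hw.1.1.1
  have hodd : Odd (orderOf w) :=
    (odd_vGrp H).of_dvd_nat (Subgroup.orderOf_dvd_natCard _ (wGrp_le_vGrp hw))
  have key : ∀ (k : ℕ) (y : G), y ∈ Q → y ^ 2 ^ k = 1 → w * y = y * w := by
    intro k
    induction k with
    | zero => intro y _ h; rw [pow_zero, pow_one] at h; simp [h]
    | succ k ih =>
      intro y hy h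
      set c := y⁻¹ * (w * y * w⁻¹) with hc
      have hwy : w * y * w⁻¹ ∈ Q := H.setup.conj_mem w hwa y hy
      have hcQ : c ∈ Q := mul_mem (inv_mem hy) hwy
      have hy2 : w * (y * y) = y * y * w := ih (y * y) (mul_mem hy hy) (by
        rw [← pow_two, ← pow_mul, ← pow_succ']; exact h)
      have hc2 : c * c = 1 := by
        rw [hc, show y⁻¹ * (w * y * w⁻¹) * (y⁻¹ * (w * y * w⁻¹)) = y⁻¹ * ((w * y * w⁻¹) * y⁻¹) * (w * y * w⁻¹) by group,
          hab _ hwy _ (inv_mem hy), show y⁻¹ * (y⁻¹ * (w * y * w⁻¹)) * (w * y * w⁻¹) = (y * y)⁻¹ * (w * (y * y) * w⁻¹) by group,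
          hy2, mul_inv_cancel_right, inv_mul_cancel]
      have hcw : c * w = w * c := by
        obtain ⟨y', hy'⟩ := E.C.e_surj c ((mem_zGrp' H).2 ⟨hcQ, hc2⟩)
        rw [← hy']
        exact (E.sig_fix (wGrp_le_vGrp hw)).2 (by rw [(E.sig_one_iff (wGrp_le_vGrp hw)).2 hw]; rfl)
      have hit : ∀ j : ℕ, w ^ j * y * (w ^ j)⁻¹ = y * c ^ j := by
        intro j
        induction j with
        | zero => simp
        | succ j ihj =>
          calc w ^ (j + 1) * y * (w ^ (j + 1))⁻¹ = w * (w ^ j * y * (w ^ j)⁻¹) * w⁻¹ := by rw [pow_succ']; group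
            _ = w * y * (c ^ j * w⁻¹) := by rw [ihj]; group
            _ = w * y * (w⁻¹ * c ^ j) := by rw [((show Commute c w from hcw).pow_left j).inv_right.eq]
            _ = y * c * c ^ j := by rw [hc]; group
            _ = _ := by rw [mul_assoc, ← pow_succ']
      have h1 := hit (orderOf w)
      rw [pow_orderOf_eq_one, one_mul, inv_one, mul_one, left_eq_mul] at h1
      obtain ⟨i, hi⟩ := hodd
      rw [hi, pow_succ, pow_mul, show c ^ 2 = 1 by rw [pow_two, hc2], one_pow, one_mul] at h1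
      rw [hc, inv_mul_eq_one] at h1
      exact (mul_inv_eq_iff_eq_mul.1 h1.symm)
  obtain ⟨k, hk⟩ := hQ2 ⟨y, hy⟩
  exact key k y hy (congrArg Subtype.val hk)

theorem abelian_eq_z [IsSimpleGroup G] {n : ℕ} (ih : Below.{v} n) (hn : Nat.card G ≤ n) (hQ2 : IsPGroup 2 Q)
    (hab : ∀ y ∈ Q, ∀ z ∈ Q, y * z = z * y) (hV : vGrp a t ≠ ⊥) : Nat.card Q = Nat.card (zGrp G a) := by
  classical
  by_contra hne
  have H := E.hyp
  have hWbot := w_bot_abelian E hQ2 hab
  haveI : Fact (Nat.Prime 2) := ⟨Nat.prime_two⟩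
  obtain ⟨v0, hv0, hv01⟩ := (Subgroup.bot_or_exists_ne_one _).resolve_left hV
  obtain ⟨p, hp, hpd⟩ := Nat.exists_prime_and_dvd (fun h => hv01 (orderOf_eq_one_iff.1 h) : orderOf v0 ≠ 1)
  haveI := Fact.mk hp
  set x := v0 ^ (orderOf v0 / p)
  have hord : orderOf x = p := orderOf_pow_orderOf_div (orderOf_pos v0).ne' hpd
  have hx : x ∈ vGrp a t := pow_mem hv0 _
  have hx1 : x ≠ 1 := fun h => by rw [h, orderOf_one] at hord; exact hp.one_lt.ne hord
  have hW : x ∉ wGrp a t := by rw [hWbot, Subgroup.mem_bot]; exact hx1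
  have hp2 : p ≠ 2 := fun h => by
    have h2 : p ∣ Nat.card (vGrp a t) := hord ▸ Subgroup.orderOf_dvd_natCard _ hx
    exact Nat.not_even_iff_odd.2 (odd_vGrp H) (even_iff_two_dvd.2 (h ▸ h2))
  have hpQ : ¬ p ∣ Nat.card Q := fun h =>
    hp.one_lt.ne' (Nat.dvd_one.1 ((Nat.dvd_add_right h).1 (E.dvd_card_succ hx hp hord hW)))
  have hQpow := E.card_pow hx hp hord hW hpQ
  have hs : E.s ∈ zGrp G a := Subgroup.subset_closure E.hs
  have hsx : E.s * x = x * E.s := s_comm E hx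
  set CZ := zGrp G a ⊓ Subgroup.centralizer ({x} : Set G) with hCZ
  have hq2 : Nat.card CZ = 2 := by
    have hsmem : E.s ∈ CZ := ⟨hs, Subgroup.mem_centralizer_singleton_iff.2 hsx⟩
    by_contra h2
    obtain ⟨z, hz, hz1, hzs⟩ : ∃ z ∈ CZ, z ≠ 1 ∧ z ≠ E.s := by
      by_contra hcon
      push Not at hcon
      refine h2 ?_
      have hset : (CZ : Set G) = {1, E.s} := by
        ext z
        refine ⟨fun h => or_iff_not_imp_left.2 (hcon z h), ?_⟩
        rintro (rfl | rfl)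
        · exact one_mem _
        · exact hsmem
      show Nat.card (CZ : Set G) = 2
      rw [Nat.card_coe_set_eq, hset, Set.ncard_pair (Ne.symm E.hs.2.1)]
    rcases (sub_struct H hx ih hn hx1 hz.1 hs hzs hz1 E.hs.2.1 (Subgroup.mem_centralizer_singleton_iff.1 hz.2)
      hsx).2 with h | ⟨⟨y, hy, y', hy', hne'⟩, -⟩
    · exact hne (by rw [hQpow, h, ← E.card_z_pow hx hp hord hW])
    · exact hne' (hab y hy.1 y' hy'.1)
  have hker : ∀ w ∈ wGrp a t, w * x = x * w → (∀ c : Ω, x • c = c → w • c = c) → w = 1 := fun w hw _ _ => by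
    rwa [hWbot, Subgroup.mem_bot] at hw
  obtain ⟨m, hm, ⟨R⟩⟩ := exists_reg E hx hp hord hW hq2 hker
  have hcyc : ∀ T : Subgroup G, T ≤ wGrp a t → IsPGroup p T → IsCyclic T := fun T hT _ => by
    rw [hWbot] at hT
    rw [le_bot_iff.1 hT]
    infer_instance
  have hWp : ¬ p ∣ Nat.card (wGrp a t) := by
    rw [hWbot, Subgroup.card_bot]
    exact fun h => hp.one_lt.ne' (Nat.dvd_one.1 h)
  obtain ⟨rfl, -⟩ := (local_main E hx hp hord hW hq2 R hker hcyc).2.2.2 hWp
  obtain ⟨P, Z, D⟩ := exists_pdata E hx hp hord hW hq2 R hWbot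
  have hdvd := succ_dvd_card E hx hp hord hW hq2 R hWbot P Z D
  obtain ⟨k, hk⟩ := (hQ2.to_le (inf_le_left : Q ⊓ Subgroup.centralizer ({x} : Set G) ≤ Q)).exists_card_eq
  have hpk : 2 ^ k + 1 = p := by
    have h1 := card_cq H hx
    rw [R.card_fix, pow_one, hk] at h1
    exact h1
  have hk1 : k ≠ 0 := fun h => by rw [h] at hpk; exact hp2 hpk.symm
  have hk1' : k ≠ 1 := by
    intro h
    refine hne ?_
    rw [hQpow, E.card_z_pow hx hp hord hW, hk, hq2, h, pow_one]
  have hkeven : Even k := by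
    by_contra ho
    obtain ⟨j, hj⟩ := Nat.not_even_iff_odd.1 ho
    have h3 : 3 ∣ p := by
      rw [← hpk, Nat.dvd_iff_mod_eq_zero, Nat.add_mod, Nat.pow_mod, hj, pow_succ, pow_mul]
      norm_num [Nat.pow_mod, Nat.mul_mod]
    have h4 := (Nat.prime_dvd_prime_iff_eq Nat.prime_three hp).1 h3
    have h5 : 2 ^ 2 ≤ 2 ^ k := Nat.pow_le_pow_right (by norm_num) (by omega)
    omega
  obtain ⟨j, hj⟩ := hkeven
  have hpmod : p % 3 = 2 := by
    rw [← hpk, hj, ← two_mul, pow_mul, Nat.add_mod, Nat.pow_mod]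
    norm_num
  have hG : Nat.card G = Nat.card Q * (Nat.card (kGrp a t) * p) * (Nat.card Q + 1) := by
    rw [Lie.RankOne.card_group H.setup, ← show Nat.card (dGrp a t) =
      Nat.card ↥(stabilizer G a ⊓ stabilizer G (t • a)) from rfl,
      card_dGrp H, card_sub_v E hx hp hord hW hq2 le_rfl hx, hWbot, inf_bot_eq, Subgroup.card_bot, mul_one]
  have hK : Nat.card (kGrp a t) + 1 = 2 ^ p := by
    rw [card_kGrp H, E.card_z_pow hx hp hord hW, hq2]
  have hQ' : Nat.card Q = (2 ^ k) ^ p := by rw [hQpow, hk]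
  have h3G : 3 ∣ Nat.card G := dvd_trans (by omega : 3 ∣ p + 1) hdvd
  obtain ⟨i, hi⟩ := hp.odd_of_ne_two hp2
  have h2p : 2 ^ p % 3 = 2 := by
    rw [hi, pow_succ, pow_mul, Nat.mul_mod, Nat.pow_mod]
    norm_num
  have hQ3 : Nat.card Q % 3 = 1 := by
    rw [hQ', hj, ← two_mul, pow_mul, ← pow_mul, Nat.pow_mod]
    norm_num
  have hK3 : Nat.card (kGrp a t) % 3 = 1 := by omega
  rw [Nat.dvd_iff_mod_eq_zero, hG, Nat.mul_mod, Nat.mul_mod (Nat.card Q), Nat.mul_mod (Nat.card (kGrp a t)),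
    Nat.add_mod (Nat.card Q) 1, hQ3, hK3, hpmod] at h3G
  norm_num at h3G

end Cfsg.Agent.Transfer.RankOne
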