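import Cfsg.Agent.Lib.Transfer.RankOne.LocalBound
import Cfsg.Agent.Lib.Transfer.RankOne.Struct

/-!
When `Q` has order `q ^ 3` and `V` is not trivial, `W` is not trivial.
-/

set_option autoImplicit false
set_option linter.unusedSectionVars false
set_option linter.style.haveILetI false

namespace Cfsg.Agent.Transfer.RankOne

open MulAction

universe u v

variable {G : Type u} {Ω : Type v} [Group G] [MulAction G Ω] [Finite G] [FaithfulSMul G Ω]
  {a : Ω} {t : G} {Q : Subgroup G} {F : Type} [Field F] [Finite F] (E : Env a t Q F)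
include E

/-- An automorphism fixing the fixed field of `σ` is a power of `σ`. -/
theorem mem_zpowers_of_fix {σ τ : F ≃+* F} (h : ∀ y : F, σ y = y → τ y = y) : τ ∈ Subgroup.zpowers σ := by
  classical
  haveI : Finite (F ≃+* F) := Finite.of_injective (fun f => (f : F → F)) DFunLike.coe_injective
  set S := Subgroup.zpowers σ
  let τ' : F ≃ₐ[FixedPoints.subfield S F] F := AlgEquiv.ofRingEquiv (f := τ) fun c =>
    h (c : F) (c.2 (⟨σ, Subgroup.mem_zpowers σ⟩ : S))
  obtain ⟨g, hg⟩ := FixedPoints.toAlgAut_surjective S F τ'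
  have e : (g : F ≃+* F) = τ := RingEquiv.ext fun y => congrArg (fun f : F ≃ₐ[FixedPoints.subfield S F] F => f y) hg
  exact e ▸ g.2

theorem cube_w_ne_bot [IsSimpleGroup G] {n : ℕ} (ih : Below.{v} n) (hn : Nat.card G ≤ n) (hQ2 : IsPGroup 2 Q)
    (hQ3 : Nat.card Q = Nat.card (zGrp G a) ^ 3) (hV : vGrp a t ≠ ⊥) : wGrp a t ≠ ⊥ := by
  classical
  intro hWbot
  have H := E.hyp
  obtain ⟨v0, hv0, hv01⟩ := (Subgroup.bot_or_exists_ne_one _).resolve_left hV
  obtain ⟨p, hp, hpd⟩ := Nat.exists_prime_and_dvd (fun h => hv01 (orderOf_eq_one_iff.1 h) : orderOf v0 ≠ 1)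
  haveI := Fact.mk hp
  set x := v0 ^ (orderOf v0 / p)
  have hord : orderOf x = p := orderOf_pow_orderOf_div (orderOf_pos v0).ne' hpd
  have hx : x ∈ vGrp a t := pow_mem hv0 _
  have hx1 : x ≠ 1 := fun h => by rw [h, orderOf_one] at hord; exact hp.one_lt.ne hord
  have hW : x ∉ wGrp a t := by rw [hWbot, Subgroup.mem_bot]; exact hx1
  have hpQ : ¬ p ∣ Nat.card Q := fun h =>
    hp.one_lt.ne' (Nat.dvd_one.1 ((Nat.dvd_add_right h).1 (E.dvd_card_succ hx hp hord hW)))
  have hQpow := E.card_pow hx hp hord hW hpQ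
  set CZ := zGrp G a ⊓ Subgroup.centralizer ({x} : Set G) with hCZ
  have hqpow : Nat.card (zGrp G a) = Nat.card CZ ^ p := E.card_z_pow hx hp hord hW
  set xc := Nat.card ↥(Q ⊓ Subgroup.centralizer ({x} : Set G))
  have hxc : xc = Nat.card CZ ^ 3 := by
    refine Nat.pow_left_injective hp.ne_zero ?_
    show xc ^ p = (Nat.card CZ ^ 3) ^ p
    rw [← hQpow, hQ3, hqpow, ← pow_mul, ← pow_mul, mul_comm]
  have hsmem : E.s ∈ CZ :=
    ⟨Subgroup.subset_closure E.hs, Subgroup.mem_centralizer_singleton_iff.2 (s_comm E hx)⟩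
  by_cases h2 : Nat.card CZ = 2
  · have hker : ∀ w ∈ wGrp a t, w * x = x * w → (∀ c : Ω, x • c = c → w • c = c) → w = 1 := fun w hw _ _ => by
      rwa [hWbot, Subgroup.mem_bot] at hw
    obtain ⟨m, hm, ⟨R⟩⟩ := exists_reg E hx hp hord hW h2 hker
    have hcyc : ∀ T : Subgroup G, T ≤ wGrp a t → IsPGroup p T → IsCyclic T := fun T hT _ => by
      rw [hWbot] at hT
      rw [le_bot_iff.1 hT]
      infer_instance
    obtain ⟨rfl, -⟩ := (local_main E hx hp hord hW h2 R hker hcyc).2.2.2 (by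
      rw [hWbot, Subgroup.card_bot]
      exact fun h => hp.one_lt.ne' (Nat.dvd_one.1 h))
    have h1 := card_cq H hx
    rw [R.card_fix, pow_one] at h1
    change xc + 1 = p at h1
    rw [hxc, h2] at h1
    subst h1
    norm_num at hp
  · obtain ⟨z, hz, hz1, hzs⟩ : ∃ z ∈ CZ, z ≠ 1 ∧ z ≠ E.s := by
      by_contra hcon
      push Not at hcon
      refine h2 ?_
      have hset : (CZ : Set G) = {1, E.s} := by
        ext z
        refine ⟨fun h => or_iff_not_imp_left.2 (hcon z h), ?_⟩
        rintro (rfl | rfl)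
        · exact one_mem _
        · exact hsmem
      show Nat.card (CZ : Set G) = 2
      rw [Nat.card_coe_set_eq, hset, Set.ncard_pair (Ne.symm E.hs.2.1)]
    have hCZ2 : 2 ≤ Nat.card CZ := by
      haveI : Nontrivial CZ := ⟨⟨⟨z, hz⟩, 1, fun h => hz1 (congrArg Subtype.val h)⟩⟩
      exact Finite.one_lt_card
    rcases (sub_struct H hx ih hn hx1 hz.1 (Subgroup.subset_closure E.hs) hzs hz1 E.hs.2.1
      (Subgroup.mem_centralizer_singleton_iff.1 hz.2) (s_comm E hx)).2 with h | ⟨-, h | ⟨-, g, hg, hgx, hgk, c, hxc', hgc⟩⟩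
    · change xc = Nat.card CZ at h
      rw [hxc] at h
      have := Nat.pow_lt_pow_right (show 1 < Nat.card CZ by omega) (show 1 < 3 by norm_num)
      rw [pow_one, h] at this
      exact lt_irrefl _ this
    · change xc = Nat.card CZ ^ 2 at h
      rw [hxc] at h
      exact absurd (Nat.pow_right_injective hCZ2 h) (by norm_num)
    · have hτ : E.sig hg ∈ Subgroup.zpowers (E.sig hx) := by
        refine mem_zpowers_of_fix E fun y hy => ?_
        by_cases hy0 : y = 0
        · rw [hy0, map_zero]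
        set u : Fˣ := Units.mk0 y hy0
        have hcomm : E.C.kap u * x = x * E.C.kap u := by
          have h := E.sig_kap hx u
          rw [show Units.map (E.sig hx).toRingHom.toMonoidHom u = u from Units.ext hy] at h
          exact (mul_inv_eq_iff_eq_mul.1 h).symm
        have h := E.sig_kap hg u
        rw [← hgk _ (E.C.kap_mem u) hcomm, mul_inv_cancel_right] at h
        exact (congrArg Units.val (E.C.kap_inj h)).symm
      obtain ⟨i, hi⟩ := Subgroup.mem_zpowers_iff.1 hτ
      have hzero : g * (x ^ i)⁻¹ ∈ wGrp a t := by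
        have hxi : x ^ i ∈ vGrp a t := Subgroup.zpow_mem _ hx i
        refine (E.sig_one_iff (mul_mem hg (inv_mem hxi))).1 ?_
        rw [Env.sig, show (⟨g * (x ^ i)⁻¹, (mul_mem hg (inv_mem hxi)).1.1⟩ : stabilizer G a) =
          ⟨g, hg.1.1⟩ * (⟨x, hx.1.1⟩ ^ i)⁻¹ from Subtype.ext (by
            rw [Subgroup.coe_mul, Subgroup.coe_inv, Subgroup.coe_zpow]), map_mul, map_inv, map_zpow]
        change E.sig hg * (E.sig hx ^ i)⁻¹ = 1
        rw [hi, mul_inv_cancel]
      rw [hWbot, Subgroup.mem_bot, mul_inv_eq_one] at hzero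
      refine hgc ?_
      rw [hzero]
      exact mem_stabilizer_iff.1 (Subgroup.zpow_mem _ (mem_stabilizer_iff.2 hxc' : x ∈ stabilizer G c) i)

end Cfsg.Agent.Transfer.RankOne
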