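import Cfsg.Agent.Lib.Transfer.RankOne.Struct
import Cfsg.Agent.Lib.Transfer.MaxSolvTI.Main
import Cfsg.Agent.Lib.Grp.ZasFeit
import Cfsg.Agent.Lib.Grp.ZasSuzuki

/-!
When `V` is trivial the group is a Zassenhaus group.
-/

set_option autoImplicit false
set_option linter.unusedSectionVars false
set_option linter.style.haveILetI false

namespace Cfsg.Agent.Transfer.RankOne

open MulAction Cfsg.Agent.Block.Zas
open Cfsg.Agent.Lie.RankOne (b_ne q_fix exists_q regular)

universe u v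

variable {G : Type u} {Ω : Type v} [Group G] [MulAction G Ω] [Finite G] [FaithfulSMul G Ω]
  {a : Ω} {t : G} {Q : Subgroup G}

theorem dGrp_eq_k (H : Hyp G Ω a t Q) (hV : vGrp a t = ⊥) {d : G} (hd : d ∈ dGrp a t) : d ∈ kGrp a t := by
  obtain ⟨k, hk, x, hx, rfl⟩ := exists_decomp H hd
  rw [hV, Subgroup.mem_bot] at hx
  rw [hx, mul_one]
  exact hk

theorem free_three (H : Hyp G Ω a t Q) (hV : vGrp a t = ⊥) (g : G) (x y z : Ω) (hxy : x ≠ y) (hyz : y ≠ z)
    (hxz : x ≠ z) (hx : g • x = x) (hy : g • y = y) (hz : g • z = z) : g = 1 := by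
  obtain ⟨h, h1, h2⟩ := is_two_pretransitive_iff.1 H.setup.two_transitive hxy (b_ne H.setup).symm
  have hg' : h * g * h⁻¹ ∈ dGrp a t := by
    refine ⟨mem_stabilizer_iff.2 ?_, mem_stabilizer_iff.2 ?_⟩
    · rw [mul_smul, mul_smul, ← h1, inv_smul_smul, hx]
    · rw [mul_smul, mul_smul, ← h2, inv_smul_smul, hy]
  have hz' : (h * g * h⁻¹) • (h • z) = h • z := by rw [mul_smul, mul_smul, inv_smul_smul, hz]
  refine conj_eq_one_iff.1 (k_fix_third H (dGrp_eq_k H hV hg') (fun e => hxz ?_) (fun e => hyz ?_) hz')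
  · exact (smul_left_cancel h (e.trans h1.symm)).symm
  · exact (smul_left_cancel h (e.trans h2.symm)).symm

/-- The frame of a Zassenhaus group. -/
def zFrame (H : Hyp G Ω a t Q) (hV : vGrp a t = ⊥) : Frame G Ω where
  a := a
  b := t • a
  F := Q
  hab := (b_ne H.setup).symm
  free3 := free_three H hV
  two := fun hxy hzw => is_two_pretransitive_iff.1 H.setup.two_transitive hxy hzw
  F_fix := fun _ hu => q_fix H.setup hu
  F_conj := fun g hg u hu => H.setup.conj_mem g (mem_stabilizer_iff.2 hg) u hu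
  F_reg := fun _ _ hy hz => regular H.setup hy hz

theorem zFrame_h (H : Hyp G Ω a t Q) (hV : vGrp a t = ⊥) : (zFrame H hV).H = kGrp a t :=
  le_antisymm (fun _ hd => dGrp_eq_k H hV hd) (kGrp_le_dGrp H)

variable [IsSimpleGroup G]

theorem isZassenhaus (H : Hyp G Ω a t Q) (hV : vGrp a t = ⊥) : Cfsg.IsZassenhausGroup G Ω := by
  obtain ⟨k, hk, hk1⟩ := exists_k_ne H
  refine ⟨inferInstance, H.setup.two_transitive, fun g x y z hxy hyz hxz hx hy hz =>
    free_three H hV g x y z hxy hyz hxz hx hy hz, ⟨k, hk1, a, t • a, (b_ne H.setup).symm,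
      mem_stabilizer_iff.1 (kGrp_le_dGrp H hk).1, mem_stabilizer_iff.1 (kGrp_le_dGrp H hk).2⟩, fun N hN hNt => ?_⟩
  rcases IsSimpleGroup.eq_bot_or_eq_top_of_normal N hN with h | h
  · exfalso
    obtain ⟨⟨g, hg⟩, hga⟩ := hNt.exists_smul_eq a (t • a)
    rw [h, Subgroup.mem_bot] at hg
    subst hg
    exact b_ne H.setup (hga.symm.trans (one_smul G a))
  · refine ⟨a, fun hbot => hk1 ?_⟩
    have hmem : (⟨k, h ▸ Subgroup.mem_top k⟩ : N) ∈ stabilizer N a :=
      mem_stabilizer_iff.2 (mem_stabilizer_iff.1 (kGrp_le_dGrp H hk).1)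
    rw [hbot, Subgroup.mem_bot] at hmem
    exact congrArg Subtype.val hmem

theorem odd_frame (H : Hyp G Ω a t Q) (hV : vGrp a t = ⊥) : Odd (Nat.card (zFrame H hV).H) := H.setup.odd_card

/-- The structure of `Q` when `V` is trivial. -/
theorem struct_of_v_bot (H : Hyp G Ω a t Q) (hQ2 : IsPGroup 2 Q) (hV : vGrp a t = ⊥) : StructP a t Q := by
  refine ⟨hQ2, ?_⟩
  set D := zFrame H hV
  have hDH : Nat.card D.H = Nat.card (kGrp a t) := by rw [zFrame_h H hV]
  have hK := card_kGrp H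
  have hq := four_le_q H
  rcases Grp.ZasS.feit_inequality _ G Ω D rfl (isZassenhaus H hV) (odd_frame H hV) with h | ⟨-, hna, -⟩
  · left
    obtain ⟨c, hc⟩ := Subgroup.card_dvd_of_le (zGrp_le H)
    have hc0 : c ≠ 0 := fun e => Nat.card_pos.ne' (by rw [hc, e, mul_zero] : Nat.card Q = 0)
    change Nat.card Q - 1 ≤ 2 * Nat.card D.H at h
    rw [hDH] at h
    rcases Nat.lt_or_ge c 2 with hc2 | hc2
    · rw [hc, show c = 1 by omega, mul_one]
    · exfalso
      have := Nat.mul_le_mul_left (Nat.card (zGrp G a)) hc2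
      omega
  · obtain ⟨y, hy, y', hy', hne⟩ := hna
    refine Or.inr ⟨⟨y, hy, y', hy', hne⟩, Or.inl ?_⟩
    obtain ⟨m, -, -, hcard, hH', -, -, -⟩ := Grp.ZasS.suzuki_structure D (D.two_le_F (isZassenhaus H hV))
      (D.H_ne_bot (isZassenhaus H hV)) hQ2
      ⟨⟨y, hy⟩, ⟨y', hy'⟩, fun e => hne (congrArg Subtype.val e)⟩
    change Nat.card Q = _ at hcard
    rw [hDH] at hH'
    have : 0 < 2 ^ m := pow_pos two_pos m
    rw [hcard, show Nat.card (zGrp G a) = 2 ^ m by omega]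

/-- The identification when `V` is trivial. -/
theorem iso_of_v_bot (H : Hyp G Ω a t Q) (hV : vGrp a t = ⊥) :
    (∃ (K : Type) (_ : Field K) (_ : Fintype K), (∃ n : ℕ, 2 ≤ n ∧ Fintype.card K = 2 ^ n) ∧
      Nonempty (G ≃* Matrix.SpecialLinearGroup (Fin 2) K)) ∨ Cfsg.Lie.IsoSuzuki G :=
  MaxSolvTI.zassenhaus_char_two (isZassenhaus H hV) (zFrame H hV) H.setup.even_card (odd_frame H hV)

end Cfsg.Agent.Transfer.RankOne
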