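import Cfsg.Agent.Lib.Transfer.RankOne.OddPart
import Cfsg.Agent.Lib.Transfer.RankOne.AbCase
import Cfsg.Agent.Lib.Transfer.RankOne.Cube
import Cfsg.Agent.Lib.Transfer.RankOne.VTrivial

/-!
The structure of `Q` in the simple case, by induction on the order of the group.
-/

set_option autoImplicit false
set_option linter.unusedSectionVars false
set_option linter.style.haveILetI false

namespace Cfsg.Agent.Transfer.RankOne

open MulAction

universe u v

variable {G : Type u} {Ω : Type v} [Group G] [MulAction G Ω] [Finite G] [FaithfulSMul G Ω] [IsSimpleGroup G]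
  {a : Ω} {t : G} {Q : Subgroup G}

/-- One step of the induction. -/
theorem struct_step (H : Hyp G Ω a t Q) {n : ℕ} (ih : Below.{v} n) (hn : Nat.card G ≤ n) : StructP a t Q := by
  classical
  obtain ⟨k, F, i1, i2, -, -, -, ⟨E⟩⟩ := exists_env H
  have hQ2 := isPGroup_q E ih hn
  by_cases hV : vGrp a t = ⊥
  · exact struct_of_v_bot H hQ2 hV
  refine ⟨hQ2, ?_⟩
  haveI : Group.IsNilpotent Q := Lie.RankOne.nilpotent_Q H.setup H.two
  obtain ⟨S, O, P, hmap⟩ := exists_split (Q := Q) inferInstance
  have hSQ : S = Q := le_antisymm P.s_le fun q hq => P.mem_s_iff.2 ⟨hq, by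
    obtain ⟨j, hj⟩ := hQ2 ⟨q, hq⟩
    exact ⟨j, congrArg Subtype.val hj⟩⟩
  subst hSQ
  rcases sylow_shape H P hmap with hab | ⟨hna, -, -, hcard, -⟩
  · exact Or.inl (abelian_eq_z E ih hn hQ2 hab hV)
  · refine Or.inr ⟨hna, hcard.imp_right fun h => ⟨h, cube_w_ne_bot E ih hn hQ2 h hV⟩⟩

omit G Ω in
theorem below_all (n : ℕ) : Below.{v} n := by
  induction n using Nat.strong_induction_on with
  | _ n ih =>
    intro G' Ω' _ _ _ _ _ a' t' Q' H' hlt
    exact struct_step H' (ih (Nat.card G') hlt) le_rfl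

/-- The structure of `Q` in the simple case. -/
theorem struct_all (H : Hyp G Ω a t Q) : StructP a t Q := struct_step H (below_all.{v} _) le_rfl

end Cfsg.Agent.Transfer.RankOne
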