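import Cfsg.Agent.Lib.Transfer.RankOne.CubeIdent
import Cfsg.Agent.Lib.Transfer.RankOne.Structure
import Cfsg.Agent.Lib.Transfer.RankOne.SquareCase
import Cfsg.Agent.Lib.Transfer.RankOne.VTrivial
import Cfsg.Agent.Lib.Fus.CTSimpleLinear

/-!
The classification of the rank-one groups with commuting involutions.
-/

set_option autoImplicit false
set_option linter.unusedSectionVars false
set_option linter.style.haveILetI false

namespace Cfsg.Agent.Transfer.RankOne

open MulAction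

universe u v

variable {G : Type u} {Ω : Type v} [Group G] [MulAction G Ω] [Finite G] [FaithfulSMul G Ω] [IsSimpleGroup G]
  {a : Ω} {t : G} {Q : Subgroup G}

/-- The simple rank-one groups with commuting involutions. -/
theorem simple_classification (H : Hyp G Ω a t Q) :
    (∃ (F : Type) (_ : Field F) (_ : Fintype F), (∃ n : ℕ, 2 ≤ n ∧ Fintype.card F = 2 ^ n) ∧
        Nonempty (G ≃* Matrix.ProjectiveSpecialLinearGroup (Fin 2) F)) ∨
      Cfsg.Lie.IsoSuzuki G ∨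
      (∃ (F : Type) (_ : Field F) (_ : Fintype F) (n : ℕ), 2 ≤ n ∧ Fintype.card F = (2 ^ n) ^ 2 ∧
        Nonempty (G ≃* Cfsg.PSU 3 F (2 ^ n))) := by
  classical
  have hvb : vGrp a t = ⊥ → _ := iso_of_v_bot H
  have hfin : vGrp a t = ⊥ → (∃ (F : Type) (_ : Field F) (_ : Fintype F),
      (∃ n : ℕ, 2 ≤ n ∧ Fintype.card F = 2 ^ n) ∧
        Nonempty (G ≃* Matrix.ProjectiveSpecialLinearGroup (Fin 2) F)) ∨ Cfsg.Lie.IsoSuzuki G := fun hV => by
    rcases hvb hV with ⟨K, iK, iK', ⟨n, hn, hK⟩, ⟨e⟩⟩ | h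
    · refine Or.inl ⟨K, iK, iK', ⟨n, hn, hK⟩, ⟨e.trans
        ((QuotientGroup.quotientMulEquivOfEq (Fus.CTSimple.center_eq_bot_of_two ?_)).trans
          QuotientGroup.quotientBot).symm⟩⟩
      have h2 : ((2 ^ n : ℕ) : K) = 0 := by rw [← hK]; exact Nat.cast_card_eq_zero K
      rw [Nat.cast_pow] at h2
      exact_mod_cast eq_zero_of_pow_eq_zero h2
    · exact Or.inr h
  obtain ⟨hQ2, hQ | ⟨hna, hQ | ⟨hsz, hW⟩⟩⟩ := struct_all H
  · exact (hfin (v_bot_of_small H hQ)).imp_right Or.inl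
  · exact (hfin (v_bot_square H hQ2 hna hQ)).imp_right Or.inl
  · refine Or.inr (Or.inr ?_)
    obtain ⟨n, F, iF, iF', hn, hF, hchar, ⟨E⟩⟩ := exists_env H
    haveI := hchar
    obtain ⟨r, hr, hrd⟩ := Nat.exists_prime_and_dvd
      (fun h => hW (Subgroup.card_eq_one.1 h) : Nat.card (wGrp a t) ≠ 1)
    haveI := Fact.mk hr
    obtain ⟨⟨w, hw⟩, hord⟩ := exists_prime_orderOf_dvd_card' r hrd
    rw [Subgroup.orderOf_mk] at hord
    have hw1 : w ≠ 1 := fun h => by
      rw [h, orderOf_one] at hord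
      exact hr.one_lt.ne hord
    have hrz : E.r ∈ zGrp G a := r_mem_cube E hQ2 hna hsz hw hw1
    obtain ⟨K, iK, iK', hK2, ⟨X⟩⟩ := exists_qext F
    haveI := hK2
    haveI : Fintype K := Fintype.ofFinite K
    obtain ⟨D⟩ := exists_ddata E hQ2 hna hsz hrz X hw hr hord
    obtain ⟨Φ⟩ := exists_qform E X hQ2 hna hsz hrz D.hw D.hr D.hr2 D.hord D.hdvd
    obtain ⟨M⟩ := exists_herm D hQ2 hna Φ
    have hc : Nat.card F = 2 ^ n := by rw [Nat.card_eq_fintype_card]; exact hF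
    obtain ⟨e⟩ := psu_of_herm hrz M (by
      rw [hc]
      calc 4 = 2 ^ 2 := rfl
        _ ≤ 2 ^ n := Nat.pow_le_pow_right (by norm_num) hn)
    refine ⟨K, iK, inferInstance, n, hn, ?_, ?_⟩
    · rw [← Nat.card_eq_fintype_card, X.card, hc]
    · rw [← hc]
      exact ⟨e⟩

omit [IsSimpleGroup G] in
/-- The rank-one groups with commuting involutions. -/
theorem classification (H : Hyp G Ω a t Q) :
    ∃ L : Subgroup G, L.Normal ∧ Odd L.index ∧
      ((∃ (F : Type) (_ : Field F) (_ : Fintype F), (∃ n : ℕ, 2 ≤ n ∧ Fintype.card F = 2 ^ n) ∧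
          Nonempty (L ≃* Matrix.ProjectiveSpecialLinearGroup (Fin 2) F)) ∨
        Cfsg.Lie.IsoSuzuki L ∨
        (∃ (F : Type) (_ : Field F) (_ : Fintype F) (n : ℕ), 2 ≤ n ∧ Fintype.card F = (2 ^ n) ^ 2 ∧
          Nonempty (L ≃* Cfsg.PSU 3 F (2 ^ n)))) :=
  haveI := invGen_simple H
  ⟨invGen G, invGen_normal G, odd_index_invGen H, simple_classification (invGen_hyp H)⟩

end Cfsg.Agent.Transfer.RankOne
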