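import Cfsg.Agent.Lib.Transfer.RankOne.ZCoord
import Cfsg.Agent.Lib.Transfer.FrobeniusFormula

/-!
An element of prime order of `V` outside `W`: its fixed field, the divisibility from transfer, and the order of `Q`
from the fixed points.
-/

set_option autoImplicit false
set_option linter.unusedSectionVars false
set_option linter.style.haveILetI false

namespace Cfsg.Agent.Transfer.RankOne

open MulAction

universe u v

variable {G : Type u} {Ω : Type v} [Group G] [MulAction G Ω]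

/-- The distinguished elements and coordinates on `Z₀`. -/
structure Env (a : Ω) (t : G) (Q : Subgroup G) (F : Type) [Field F] where
  hyp : Hyp G Ω a t Q
  s : G
  r : G
  hs : s ∈ Cfsg.involutionsIn (stabilizer G a : Set G)
  hr : r ∈ Q
  r_ne : r ≠ 1
  eq : t * s * t = r⁻¹ * t * r
  hrt : t • (r • (t • a)) = r • (t • a)
  C : ZCoord a t s F

variable [Finite G] [FaithfulSMul G Ω] {a : Ω} {t : G} {Q : Subgroup G}

theorem exists_env (H : Hyp G Ω a t Q) :
    ∃ (n : ℕ) (F : Type) (_ : Field F) (_ : Fintype F), 2 ≤ n ∧ Fintype.card F = 2 ^ n ∧ CharP F 2 ∧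
      Nonempty (Env a t Q F) := by
  obtain ⟨s, r, hs, hr, hr1, e, hrt⟩ := exists_dist H
  obtain ⟨n, F, i1, i2, hn, hF, -, hchar, ⟨C⟩⟩ := exists_zcoord H hs
  exact ⟨n, F, i1, i2, hn, hF, hchar, ⟨⟨H, s, r, hs, hr, hr1, e, hrt, C⟩⟩⟩

variable {F : Type} [Field F] (E : Env a t Q F)
include E

/-- The automorphism induced by an element of `V`. -/
noncomputable def Env.sig {x : G} (hx : x ∈ vGrp a t) : F ≃+* F :=
  theta E.hyp E.C E.hs E.hr E.eq ⟨x, hx.1.1⟩

theorem Env.sig_one_iff {x : G} (hx : x ∈ vGrp a t) : E.sig hx = 1 ↔ x ∈ wGrp a t :=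
  theta_eq_one_iff E.hyp E.C E.hs E.hr E.eq hx

theorem Env.sig_e {x : G} (hx : x ∈ vGrp a t) (y : F) : x * E.C.e y * x⁻¹ = E.C.e (E.sig hx y) :=
  (theta_v E.hyp E.C E.hs E.hr E.eq hx).1 y

theorem Env.sig_kap {x : G} (hx : x ∈ vGrp a t) (c : Fˣ) :
    x * E.C.kap c * x⁻¹ = E.C.kap (Units.map (E.sig hx).toRingHom.toMonoidHom c) :=
  (theta_v E.hyp E.C E.hs E.hr E.eq hx).2 c

theorem Env.sig_fix {x : G} (hx : x ∈ vGrp a t) {y : F} : E.C.e y * x = x * E.C.e y ↔ E.sig hx y = y :=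
  theta_mem_z_fix E.hyp E.C E.hs E.hr E.eq hx

theorem Env.sig_mul {x x' : G} (hx : x ∈ vGrp a t) (hx' : x' ∈ vGrp a t) :
    E.sig (mul_mem hx hx') = E.sig hx * E.sig hx' := by
  rw [Env.sig, Env.sig, Env.sig, ← map_mul]
  rfl

theorem Env.sig_pow {x : G} (hx : x ∈ vGrp a t) (i : ℕ) : E.sig (pow_mem hx i) = E.sig hx ^ i := by
  rw [Env.sig, Env.sig, ← map_pow]
  rfl

theorem Env.card_F : Nat.card (zGrp G a) = Nat.card F :=
  (Nat.card_congr (Equiv.ofBijective (fun y => (⟨E.C.e y, E.C.e_mem y⟩ : zGrp G a))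
    ⟨fun _ _ h => E.C.e_inj (congrArg Subtype.val h), fun z => by
      obtain ⟨y, hy⟩ := E.C.e_surj z z.2
      exact ⟨y, Subtype.ext hy⟩⟩)).symm

theorem Env.card_cent_z {x : G} (hx : x ∈ vGrp a t) :
    Nat.card ↥(zGrp G a ⊓ Subgroup.centralizer ({x} : Set G)) = Nat.card {y : F // E.sig hx y = y} :=
  (Nat.card_congr (Equiv.ofBijective (fun y : {y : F // E.sig hx y = y} =>
      (⟨E.C.e y, E.C.e_mem y, Subgroup.mem_centralizer_singleton_iff.2 ((E.sig_fix hx).2 y.2)⟩ :
        ↥(zGrp G a ⊓ Subgroup.centralizer ({x} : Set G))))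
    ⟨fun _ _ h => Subtype.ext (E.C.e_inj (congrArg Subtype.val h)), fun z => by
      obtain ⟨y, hy⟩ := E.C.e_surj z z.2.1
      refine ⟨⟨y, (E.sig_fix hx).1 ?_⟩, Subtype.ext hy⟩
      rw [hy]
      exact Subgroup.mem_centralizer_singleton_iff.1 z.2.2⟩)).symm

variable [Finite F] {x : G} {p : ℕ}

theorem Env.sig_order (hx : x ∈ vGrp a t) (hp : p.Prime) (hord : orderOf x = p) (hW : x ∉ wGrp a t) :
    orderOf (E.sig hx) = p := by
  haveI := Fact.mk hp
  refine orderOf_eq_prime ?_ fun h => hW ((E.sig_one_iff hx).1 h)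
  rw [← E.sig_pow hx, E.sig_one_iff, ← hord, pow_orderOf_eq_one]
  exact one_mem _

theorem Env.card_z_pow (hx : x ∈ vGrp a t) (hp : p.Prime) (hord : orderOf x = p) (hW : x ∉ wGrp a t) :
    Nat.card (zGrp G a) = Nat.card ↥(zGrp G a ⊓ Subgroup.centralizer ({x} : Set G)) ^ p := by
  classical
  haveI : Finite (F ≃+* F) := Finite.of_injective (fun f => (f : F → F)) DFunLike.coe_injective
  haveI : Fintype (Subgroup.zpowers (E.sig hx)) := Fintype.ofFinite _
  have hcard : Fintype.card (Subgroup.zpowers (E.sig hx)) = p := by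
    rw [← Nat.card_eq_fintype_card, Nat.card_zpowers, E.sig_order hx hp hord hW]
  have hfr := FixedPoints.finrank_eq_card (Subgroup.zpowers (E.sig hx)) F
  rw [hcard] at hfr
  rw [E.card_F, E.card_cent_z hx, Module.natCard_eq_pow_finrank (K := FixedPoints.subfield (Subgroup.zpowers (E.sig hx)) F) (V := F),
    hfr]
  congr 1
  refine Nat.card_congr (Equiv.subtypeEquivRight fun y => ?_)
  constructor
  · exact fun h => h (⟨E.sig hx, Subgroup.mem_zpowers _⟩ : Subgroup.zpowers (E.sig hx))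
  · intro h g
    obtain ⟨g, i, rfl⟩ := g
    show (E.sig hx ^ i) y = y
    have : E.sig hx ^ i ∈ MulAction.stabilizer (F ≃+* F) y :=
      Subgroup.zpow_mem _ (mem_stabilizer_iff.2 h) i
    exact mem_stabilizer_iff.1 this

/-- Transfer. -/
theorem Env.dvd_card_succ [IsSimpleGroup G] (hx : x ∈ vGrp a t) (hp : p.Prime) (hord : orderOf x = p)
    (hW : x ∉ wGrp a t) : p ∣ Nat.card Q + 1 :=
  E.sig_order hx hp hord hW ▸ orderOf_dvd_of_pow_eq_one (theta_transfer E.hyp E.C E.hs E.hr E.eq hx)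

theorem Env.coprime_kGrp : (Nat.card Q).Coprime (Nat.card (kGrp a t)) := by
  refine Nat.coprime_of_dvd fun l hl h1 h2 => ?_
  haveI := Fact.mk hl
  obtain ⟨k, hk⟩ := exists_prime_orderOf_dvd_card' l h2
  obtain ⟨q, hq⟩ := exists_prime_orderOf_dvd_card' l h1
  have hk1 : k ≠ 1 := fun h => by rw [h, orderOf_one] at hk; exact hl.one_lt.ne hk
  haveI := Fintype.ofFinite Q
  let π : Equiv.Perm Q := Equiv.ofBijective (fun y : Q => (⟨(k : G) * y * (k : G)⁻¹,
      E.hyp.setup.conj_mem _ (kGrp_le_dGrp E.hyp k.2).1 _ y.2⟩ : Q))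
      (Finite.injective_iff_bijective.1 fun y y' h => Subtype.ext
        (mul_left_cancel (mul_right_cancel (congrArg Subtype.val h))))
  have hit : ∀ (i : ℕ) (y : Q), (((π ^ i) y : Q) : G) = (k : G) ^ i * y * ((k : G) ^ i)⁻¹ := by
    intro i
    induction i with
    | zero => intro y; simp
    | succ i ih =>
      intro y
      rw [pow_succ', Equiv.Perm.mul_apply]
      show (k : G) * ((π ^ i) y : Q) * (k : G)⁻¹ = _
      rw [ih, pow_succ']; group
  have hπ : π ^ l ^ 1 = 1 := Equiv.ext fun y => Subtype.ext (by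
    rw [hit, pow_one, ← hk, ← Subgroup.coe_pow, pow_orderOf_eq_one]; simp)
  obtain ⟨y, hy, hne⟩ := Equiv.Perm.exists_fixed_point_of_prime' (p := l) (n := 1) (σ := π)
    (by rwa [← Nat.card_eq_fintype_card]) hπ (a := (1 : Q)) (Subtype.ext (by
      show (k : G) * ((1 : Q) : G) * (k : G)⁻¹ = _; simp))
  have hy' : (k : G) * y * (k : G)⁻¹ = y := congrArg Subtype.val hy
  exact hne (Subtype.ext (kGrp_fpf E.hyp k.2 (fun h => hk1 (Subtype.ext h)) y.2 (mul_inv_eq_iff_eq_mul.1 hy')))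

omit E in
theorem mem_zpowers_prime {x y : G} {p : ℕ} (hp : p.Prime) (hord : orderOf x = p) (hy : y ∈ Subgroup.zpowers x)
    (hy1 : y ≠ 1) : x ∈ Subgroup.zpowers y := by
  haveI := Fact.mk hp
  have h := mem_zpowers_of_prime_card (G := Subgroup.zpowers x) (p := p) (by rw [Nat.card_zpowers, hord])
    (g := ⟨y, hy⟩) (g' := ⟨x, Subgroup.mem_zpowers x⟩) (fun h => hy1 (congrArg Subtype.val h))
  obtain ⟨i, hi⟩ := Subgroup.mem_zpowers_iff.1 h
  exact ⟨i, congrArg Subtype.val hi⟩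

omit E in
theorem geom_big {q0 p : ℕ} (hq : 2 ≤ q0) (hp : 2 ≤ p) : p < ∑ i ∈ Finset.range p, q0 ^ i := by
  calc p = ∑ i ∈ Finset.range p, 1 := by simp
    _ < _ := Finset.sum_lt_sum (fun i _ => Nat.one_le_pow _ _ (by omega))
      ⟨1, Finset.mem_range.2 (by omega), by rw [pow_one]; omega⟩

omit E in
/-- The first-order congruence of a geometric sum. -/
theorem geom_mod_sq {q0 p : ℕ} (hp : p.Prime) (hp2 : p ≠ 2) (h : q0 ≡ 1 [MOD p]) :
    (∑ i ∈ Finset.range p, q0 ^ i) ≡ p [MOD p ^ 2] := by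
  obtain ⟨c, hc⟩ : ∃ c : ℤ, (q0 : ℤ) = 1 + p * c := by
    obtain ⟨c, hc⟩ := (Int.modEq_iff_dvd.1 (Int.natCast_modEq_iff.2 h))
    exact ⟨-c, by push_cast at hc ⊢; linarith⟩
  rw [← Int.natCast_modEq_iff]
  push_cast
  rw [hc]
  have key : ∀ i : ℕ, (1 + (p : ℤ) * c) ^ i ≡ 1 + i * (p * c) [ZMOD (p : ℤ) ^ 2] := by
    intro i
    induction i with
    | zero => simp
    | succ i ih =>
      rw [pow_succ (1 + (p : ℤ) * c) i]
      refine (ih.mul_right _).trans ?_
      rw [Int.modEq_iff_dvd]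
      exact ⟨-(i * c * c), by push_cast; ring⟩
  refine (Int.ModEq.sum fun i _ => key i).trans ?_
  rw [Finset.sum_add_distrib, ← Finset.sum_mul, Finset.sum_const, Finset.card_range, nsmul_eq_mul, mul_one,
    Int.modEq_iff_dvd]
  obtain ⟨m, hm⟩ := hp.odd_of_ne_two hp2
  have hs : ((∑ i ∈ Finset.range p, (i : ℤ))) = p * m := by
    have h2 : (∑ i ∈ Finset.range p, i) * 2 = p * (p - 1) := Finset.sum_range_id_mul_two p
    have h3 : (∑ i ∈ Finset.range p, i) = p * m := by
      rw [show p - 1 = 2 * m by omega] at h2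
      linarith
    rw [← Nat.cast_sum, h3]
    push_cast
    rfl
  rw [hs]
  exact ⟨-(m * c), by ring⟩

/-- The order of `Q` from the fixed points of `x`. -/
theorem Env.card_pow_sub (hx : x ∈ vGrp a t) (hp : p.Prime) (hord : orderOf x = p) (hW : x ∉ wGrp a t)
    {B : Subgroup G} (hBQ : B ≤ Q) (hBn : ∀ g ∈ dGrp a t, ∀ b ∈ B, g * b * g⁻¹ ∈ B) (hcop : ¬ p ∣ Nat.card B) :
    Nat.card B = Nat.card ↥(B ⊓ Subgroup.centralizer ({x} : Set G)) ^ p := by
  classical
  haveI := Fact.mk hp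
  have H := E.hyp
  have hp2 : p ≠ 2 := fun h => by
    have h2 : p ∣ Nat.card (vGrp a t) := hord ▸ Subgroup.orderOf_dvd_natCard _ hx
    exact Nat.not_even_iff_odd.2 (odd_vGrp H) (even_iff_two_dvd.2 (h ▸ h2))
  -- a subgroup of `K` moved by `x` without fixed points
  let C := E.C
  let κ : Fˣ →* G := MonoidHom.mk' C.kap C.kap_mul
  let μ : Fˣ →* Fˣ := Units.map (E.sig hx).toRingHom.toMonoidHom
  let δ : Fˣ →* Fˣ := MonoidHom.mk' (fun c => μ c * c⁻¹) fun c d => by
    rw [map_mul, mul_inv]; exact mul_mul_mul_comm _ _ _ _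
  have hμ : ∀ c, x * κ c * x⁻¹ = κ (μ c) := E.sig_kap hx
  obtain ⟨u, hu, hu1, l, hl, hlu⟩ : ∃ u : Fˣ, μ u ≠ u ∧ u ≠ 1 ∧ ∃ l : ℕ, l.Prime ∧ orderOf u = l := by
    by_contra hcon
    push Not at hcon
    have hfix : ∀ u : Fˣ, (orderOf u).Prime → μ u = u := fun u hu => by
      by_contra h
      exact hcon u h (fun h1 => by rw [h1, orderOf_one] at hu; exact Nat.not_prime_one hu) _ hu rfl
    set q0 := Nat.card {y : F // E.sig hx y = y} with hq0
    have hq : Nat.card F = q0 ^ p := by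
      rw [← E.card_F, E.card_z_pow hx hp hord hW, E.card_cent_z hx]
    have hq2 : 2 ≤ q0 := by
      haveI : Nontrivial {y : F // E.sig hx y = y} :=
        ⟨⟨⟨0, map_zero _⟩, ⟨1, map_one _⟩, fun h => zero_ne_one (congrArg Subtype.val h)⟩⟩
      exact Finite.one_lt_card
    have hker : Nat.card δ.ker = q0 - 1 := by
      haveI := Fintype.ofFinite F
      have e : δ.ker ≃ {y : {y : F // E.sig hx y = y} // y ≠ ⟨0, map_zero _⟩} :=
        { toFun := fun c => ⟨⟨((c : Fˣ) : F), by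
              have h := MonoidHom.mem_ker.1 c.2
              exact congrArg Units.val (mul_inv_eq_one.1 h : μ c.1 = c.1)⟩,
            fun h => (c : Fˣ).ne_zero (congrArg Subtype.val h)⟩
          invFun := fun y => ⟨Units.mk0 y.1.1 (fun h => y.2 (Subtype.ext h)), MonoidHom.mem_ker.2
            (mul_inv_eq_one.2 (Units.ext y.1.2))⟩
          left_inv := fun c => Subtype.ext (Units.ext rfl)
          right_inv := fun y => rfl }
      rw [Nat.card_congr e, Nat.card_eq_fintype_card, Fintype.card_subtype_compl, Fintype.card_subtype_eq, hq0,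
        ← Nat.card_eq_fintype_card]
    have hprod : Nat.card δ.range * (q0 - 1) = q0 ^ p - 1 := by
      rw [← hker, ← Subgroup.index_ker, Subgroup.index_mul_card, Nat.card_units, hq]
    have hgeom : Nat.card δ.range = ∑ i ∈ Finset.range p, q0 ^ i := by
      refine Nat.eq_of_mul_eq_mul_right (show 0 < q0 - 1 by omega) (hprod.trans ?_)
      have h := geom_sum_mul_add (q0 - 1) p
      rw [Nat.sub_add_cancel (by omega : 1 ≤ q0)] at h
      omega
    -- every prime divisor of the image is `p`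
    have hrel : ∀ (i : ℕ) (w d : Fˣ), μ w = w → μ d = d * w → (μ^[i]) d = d * w ^ i := by
      intro i w d h1 h2
      induction i with
      | zero => simp
      | succ i ih => rw [Function.iterate_succ_apply', ih, map_mul, map_pow, h1, h2, pow_succ', mul_assoc]
    have hμp : ∀ d : Fˣ, (μ^[p]) d = d := by
      intro d
      have hi : ∀ i : ℕ, (((μ^[i]) d : Fˣ) : F) = (E.sig hx ^ i) (d : F) := by
        intro i
        induction i with
        | zero => rfl
        | succ i ih =>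
          rw [Function.iterate_succ_apply', pow_succ']
          show E.sig hx (((μ^[i]) d : Fˣ) : F) = E.sig hx ((E.sig hx ^ i) (d : F))
          rw [ih]
      refine Units.ext ?_
      rw [hi, ← E.sig_order hx hp hord hW, pow_orderOf_eq_one]
      rfl
    have honly : ∀ l : ℕ, l.Prime → l ∣ Nat.card δ.range → l = p := by
      intro l hl hd
      haveI := Fact.mk hl
      obtain ⟨⟨w, d, rfl⟩, hw⟩ := exists_prime_orderOf_dvd_card' l hd
      replace hw : orderOf (δ d) = l := (Subgroup.orderOf_coe _).trans hw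
      have h1 := hfix _ (hw.symm ▸ hl)
      have h2 : μ d = d * δ d := by show μ d = d * (μ d * d⁻¹); rw [mul_comm (μ d), mul_inv_cancel_left]
      have h3 := hrel p _ _ h1 h2
      rw [hμp, left_eq_mul] at h3
      have h4 := orderOf_dvd_of_pow_eq_one h3
      rw [hw] at h4
      exact (Nat.prime_dvd_prime_iff_eq hl hp).1 h4
    have hbig := geom_big hq2 hp.two_le
    rw [← hgeom] at hbig
    obtain ⟨b, hb⟩ : ∃ b, Nat.card δ.range = p ^ b :=
      ⟨_, Nat.eq_prime_pow_of_unique_prime_dvd (by omega) fun {l} hl hd => honly l hl hd⟩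
    have hb2 : 2 ≤ b := by
      by_contra hlt
      have : p ^ b ≤ p ^ 1 := Nat.pow_le_pow_right hp.pos (by omega)
      rw [← hb, pow_one] at this
      omega
    have hmod : q0 ≡ 1 [MOD p] := by
      have h1 : (q0 : ZMod p) ^ p = 1 := by
        have h2 : p ∣ q0 ^ p - 1 := by rw [← hprod, hb]; exact Dvd.dvd.mul_right (dvd_pow_self p (by omega)) _
        have h3 : ((q0 ^ p : ℕ) : ZMod p) = ((1 : ℕ) : ZMod p) :=
          ((ZMod.natCast_eq_natCast_iff _ _ _).2 ((Nat.modEq_iff_dvd' (Nat.one_le_pow _ _ (by omega))).2 h2)).symm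
        simpa using h3
      rw [ZMod.pow_card] at h1
      exact (ZMod.natCast_eq_natCast_iff _ _ _).1 (by simpa using h1)
    have h1 := geom_mod_sq hp hp2 hmod
    rw [← hgeom, hb] at h1
    have h2 : p ^ b ≡ 0 [MOD p ^ 2] := Nat.modEq_zero_iff_dvd.2 (pow_dvd_pow p hb2)
    have h3 := Nat.le_of_dvd hp.pos (Nat.modEq_zero_iff_dvd.1 (h1.symm.trans h2))
    nlinarith [hp.two_le]
  haveI := Fact.mk hl
  have hordk : orderOf (κ u) = l := by rw [orderOf_injective κ C.kap_inj u, hlu]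
  set U := Subgroup.zpowers (κ u) with hU
  have hUK : U ≤ kGrp a t := Subgroup.zpowers_le.2 (C.kap_mem u)
  have hxU : x * κ u * x⁻¹ ∈ U := by
    have h1 : μ u ∈ Subgroup.zpowers u := by
      haveI : NeZero l := ⟨hl.ne_zero⟩
      have hprim : IsPrimitiveRoot u l := hlu ▸ IsPrimitiveRoot.orderOf u
      obtain ⟨i, -, hi⟩ := (IsPrimitiveRoot.coe_units_iff.2 hprim).eq_pow_of_pow_eq_one (ξ := ((μ u : Fˣ) : F)) (by
        rw [← Units.val_pow_eq_pow_val, ← map_pow, hprim.pow_eq_one, map_one, Units.val_one])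
      exact ⟨i, by simpa using Units.ext (by rw [Units.val_pow_eq_pow_val]; exact hi)⟩
    obtain ⟨i, hi⟩ := Subgroup.mem_zpowers_iff.1 h1
    rw [hμ, ← hi, map_zpow]
    exact Subgroup.zpow_mem _ (Subgroup.mem_zpowers _) _
  have hnorm : Subgroup.zpowers x ≤ Subgroup.normalizer (U : Set G) := by
    rw [Subgroup.zpowers_le]
    refine Subgroup.mem_normalizer_fintype fun y hy => ?_
    obtain ⟨i, rfl⟩ := Subgroup.mem_zpowers_iff.1 hy
    show x * κ u ^ i * x⁻¹ ∈ U
    rw [← conj_zpow]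
    exact Subgroup.zpow_mem _ hxU i
  have hfpf : ∀ y ∈ Subgroup.zpowers x, y ≠ 1 → ∀ k ∈ U, y * k = k * y → k = 1 := by
    intro y hy hy1 k hk hc
    by_contra hk1
    have hcy : x ∈ Subgroup.zpowers y := mem_zpowers_prime hp hord hy hy1
    have hku : κ u ∈ Subgroup.zpowers k := mem_zpowers_prime hl hordk hk hk1
    obtain ⟨i, hi⟩ := Subgroup.mem_zpowers_iff.1 hcy
    obtain ⟨j, hj⟩ := Subgroup.mem_zpowers_iff.1 hku
    have hcm : Commute x (κ u) := by rw [← hi, ← hj]; exact (show Commute y k from hc).zpow_zpow i j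
    refine hu (C.kap_inj ?_)
    have h := hμ u
    rw [hcm.eq, mul_inv_cancel_right] at h
    exact h.symm
  have hBnorm : U ⊔ Subgroup.zpowers x ≤ Subgroup.normalizer (B : Set G) := by
    refine sup_le (fun k hk => ?_) (Subgroup.zpowers_le.2 ?_)
    · exact Subgroup.mem_normalizer_fintype (hBn k (kGrp_le_dGrp H (hUK hk)))
    · exact Subgroup.mem_normalizer_fintype (hBn x hx.1)
  have hcardsup : Nat.card ↥(U ⊔ Subgroup.zpowers x) ∣ l * p := by
    rw [sup_comm, ← hordk, ← hord, ← Nat.card_zpowers, ← Nat.card_zpowers, mul_comm, ← hU]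
    exact Grp.card_sup_dvd_mul hnorm
  have hU1 : (Nat.card B).Coprime l := (Nat.Coprime.coprime_dvd_left (Subgroup.card_dvd_of_le hBQ)
    E.coprime_kGrp).coprime_dvd_right (hordk ▸ Subgroup.orderOf_dvd_natCard _ (hUK (Subgroup.mem_zpowers _)))
  have hsolB : Group.IsSolvable B := by
    haveI : Group.IsNilpotent Q := Lie.RankOne.nilpotent_Q H.setup H.two
    haveI : Group.IsNilpotent B := Group.nilpotent_of_mulEquiv (Subgroup.subgroupOfEquivOfLe hBQ)
    infer_instance
  have key := FrobFix.card_eq_fixed_pow U (Subgroup.zpowers x) B hBnorm hnorm hfpf inferInstance hsolB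
    ((hU1.mul_right (hp.coprime_iff_not_dvd.2 hcop).symm).coprime_dvd_right hcardsup) ?_
  · rw [key, Nat.card_zpowers, hord, Subgroup.zpowers_eq_closure, Subgroup.centralizer_closure]
  · rw [eq_bot_iff]
    rintro y ⟨hy, hyc⟩
    refine Subgroup.mem_bot.2 (kGrp_fpf H (hUK (Subgroup.mem_zpowers _)) ?_ (hBQ hy)
      (Subgroup.mem_centralizer_iff.1 hyc _ (Subgroup.mem_zpowers _)))
    intro h
    exact hu1 (C.kap_inj (h.trans (κ.map_one).symm))

theorem Env.card_pow (hx : x ∈ vGrp a t) (hp : p.Prime) (hord : orderOf x = p) (hW : x ∉ wGrp a t)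
    (hcop : ¬ p ∣ Nat.card Q) :
    Nat.card Q = Nat.card ↥(Q ⊓ Subgroup.centralizer ({x} : Set G)) ^ p :=
  E.card_pow_sub hx hp hord hW le_rfl (fun g hg b hb => E.hyp.setup.conj_mem g hg.1 b hb) hcop

end Cfsg.Agent.Transfer.RankOne
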