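import Cfsg.Agent.Lib.Transfer.RankOne.Struct
import Cfsg.Agent.Lib.Transfer.RankOne.VFix

/-!
The subgroup generated by `Z₀`, `K` and `t` when the distinguished element `r` lies in `Z₀`: it consists of the two
Bruhat cells, has order `q ^ 3 - q`, and meets the two-point stabiliser in `K`.
-/

set_option autoImplicit false
set_option linter.unusedSectionVars false
set_option linter.style.haveILetI false

namespace Cfsg.Agent.Transfer.RankOne

open MulAction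
open Cfsg.Agent.Lie.RankOne (b_ne q_fix q_b q_unique t_smul_b form_unique)

universe u v

variable {G : Type u} {Ω : Type v} [Group G] [MulAction G Ω] [Finite G] [FaithfulSMul G Ω]
  {a : Ω} {t : G} {Q : Subgroup G} {F : Type} [Field F] (E : Env a t Q F) (hrz : E.r ∈ zGrp G a)
include E hrz

/-- The two cells. -/
def InL (_E : Env a t Q F) (_h : _E.r ∈ zGrp G a) (g : G) : Prop :=
  (∃ z ∈ zGrp G a, ∃ k ∈ kGrp a t, g = z * k) ∨
    ∃ z ∈ zGrp G a, ∃ k ∈ kGrp a t, ∃ z' ∈ zGrp G a, g = z * k * t * z'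

theorem tzt {z : G} (hz : z ∈ zGrp G a) (hz1 : z ≠ 1) :
    ∃ z₁ ∈ zGrp G a, ∃ k₁ ∈ kGrp a t, t * z * t = z₁ * k₁ * t * z₁ := by
  have H := E.hyp
  obtain ⟨k, hk, rfl⟩ := exists_k_conj H E.hs (mem_zGrp_ne H hz hz1)
  have hki : k⁻¹ ∈ kGrp a t := inv_mem hk
  have hri : E.r⁻¹ = E.r := inv_eq_of_mul_eq_one_right ((mem_zGrp H).1 hrz).2
  refine ⟨k⁻¹ * E.r * k, ?_, k⁻¹ * k⁻¹, mul_mem hki hki, ?_⟩
  · have := conj_zGrp H (kGrp_le_dGrp H hki).1 hrz
    rwa [inv_inv] at this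
  · have e1 : t * k = k⁻¹ * t := by
      rw [← t_k H hk, mul_assoc (t * k), H.setup.mul_self, mul_one]
    have e2 : k⁻¹ * t = t * k := e1.symm
    calc t * (k * E.s * k⁻¹) * t = (t * k) * E.s * (k⁻¹ * t) := by group
      _ = (k⁻¹ * t) * E.s * (t * k) := congrArg₂ (fun p q => p * E.s * q) e1 e2
      _ = k⁻¹ * (t * E.s * t) * k := by group
      _ = k⁻¹ * (E.r * t * E.r) * k := by rw [E.eq, hri]
      _ = (k⁻¹ * E.r * k) * (k⁻¹ * (t * k)) * (k⁻¹ * E.r * k) := by group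
      _ = _ := by rw [e1]; group

theorem inL_left_z {g z : G} (hz : z ∈ zGrp G a) (hg : InL E hrz g) : InL E hrz (z * g) := by
  rcases hg with ⟨z', hz', k, hk, rfl⟩ | ⟨z', hz', k, hk, z'', hz'', rfl⟩
  · exact Or.inl ⟨z * z', mul_mem hz hz', k, hk, by group⟩
  · exact Or.inr ⟨z * z', mul_mem hz hz', k, hk, z'', hz'', by group⟩

theorem inL_left_k {g c : G} (hc : c ∈ kGrp a t) (hg : InL E hrz g) : InL E hrz (c * g) := by
  have hcz : ∀ z ∈ zGrp G a, c * z * c⁻¹ ∈ zGrp G a := fun z hz =>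
    conj_zGrp E.hyp (kGrp_le_dGrp E.hyp hc).1 hz
  rcases hg with ⟨z', hz', k, hk, rfl⟩ | ⟨z', hz', k, hk, z'', hz'', rfl⟩
  · exact Or.inl ⟨_, hcz z' hz', c * k, mul_mem hc hk, by group⟩
  · exact Or.inr ⟨_, hcz z' hz', c * k, mul_mem hc hk, z'', hz'', by group⟩

theorem inL_left_t {g : G} (hg : InL E hrz g) : InL E hrz (t * g) := by
  have H := E.hyp
  have hkz : ∀ k ∈ kGrp a t, ∀ z ∈ zGrp G a, k * z * k⁻¹ ∈ zGrp G a := fun k hk z hz =>
    conj_zGrp H (kGrp_le_dGrp H hk).1 hz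
  have htk : ∀ k ∈ kGrp a t, t * k = k⁻¹ * t := fun k hk => by
    rw [← t_k H hk, mul_assoc (t * k), H.setup.mul_self, mul_one]
  rcases hg with ⟨z, hz, k, hk, rfl⟩ | ⟨z, hz, k, hk, z', hz', rfl⟩
  · refine Or.inr ⟨1, one_mem _, k⁻¹, inv_mem hk, k⁻¹ * z * k, ?_, ?_⟩
    · have := hkz _ (inv_mem hk) z hz
      rwa [inv_inv] at this
    · calc t * (z * k) = t * k * (k⁻¹ * z * k) := by group
        _ = _ := by rw [htk k hk, one_mul]
  · by_cases hz1 : z = 1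
    · subst hz1
      refine Or.inl ⟨k⁻¹ * z' * k, ?_, k⁻¹, inv_mem hk, ?_⟩
      · have := hkz _ (inv_mem hk) z' hz'
        rwa [inv_inv] at this
      · calc t * (1 * k * t * z') = t * k * t * z' := by group
          _ = k⁻¹ * z' := by rw [t_k H hk]
          _ = _ := by group
    · obtain ⟨z₁, hz₁, k₁, hk₁, e⟩ := tzt E hrz hz hz1
      refine Or.inr ⟨z₁, hz₁, k₁ * k, mul_mem hk₁ hk, k * z₁ * k⁻¹ * z', mul_mem (hkz k hk z₁ hz₁) hz', ?_⟩
      have htk' : t * k⁻¹ = k * t := by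
        rw [htk _ (inv_mem hk), inv_inv]
      calc t * (z * k * t * z') = (t * z * t) * (t * k * t) * z' := by
            rw [show (t * z * t) * (t * k * t) * z' = t * z * (t * t) * k * t * z' by group, H.setup.mul_self]
            group
        _ = z₁ * k₁ * (t * k⁻¹) * (k * z₁ * k⁻¹ * z') := by rw [e, t_k H hk]; group
        _ = _ := by rw [htk']; group

theorem inL_mul {g h : G} (hg : InL E hrz g) (hh : InL E hrz h) : InL E hrz (g * h) := by
  rcases hg with ⟨z, hz, k, hk, rfl⟩ | ⟨z, hz, k, hk, z', hz', rfl⟩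
  · rw [mul_assoc]
    exact inL_left_z E hrz hz (inL_left_k E hrz hk hh)
  · rw [mul_assoc, mul_assoc (z * k), mul_assoc z]
    exact inL_left_z E hrz hz (inL_left_k E hrz hk (inL_left_t E hrz (inL_left_z E hrz hz' hh)))

/-- The subgroup of the two cells. -/
def lGrp : Subgroup G where
  carrier := {g | InL E hrz g}
  one_mem' := Or.inl ⟨1, one_mem _, 1, one_mem _, (mul_one 1).symm⟩
  mul_mem' := inL_mul E hrz
  inv_mem' := fun {g} hg => by
    have hpow : ∀ i : ℕ, InL E hrz (g ^ i) := by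
      intro i
      induction i with
      | zero => rw [pow_zero]; exact Or.inl ⟨1, one_mem _, 1, one_mem _, (mul_one 1).symm⟩
      | succ i ih => rw [pow_succ]; exact inL_mul E hrz ih hg
    have e : g⁻¹ = g ^ (orderOf g - 1) := by
      refine inv_eq_of_mul_eq_one_right ?_
      rw [← pow_succ', Nat.sub_add_cancel (orderOf_pos g), pow_orderOf_eq_one]
    show InL E hrz g⁻¹
    rw [e]
    exact hpow _

theorem z_le_lGrp : zGrp G a ≤ lGrp E hrz := fun z hz => Or.inl ⟨z, hz, 1, one_mem _, (mul_one z).symm⟩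

theorem k_le_lGrp : kGrp a t ≤ lGrp E hrz := fun k hk => Or.inl ⟨1, one_mem _, k, hk, (one_mul k).symm⟩

theorem t_mem_lGrp : t ∈ lGrp E hrz := Or.inr ⟨1, one_mem _, 1, one_mem _, 1, one_mem _, by group⟩

theorem cell_smul {z k z' : G} (hz : z ∈ zGrp G a) (hk : k ∈ kGrp a t) (hz' : z' ∈ zGrp G a) :
    (z * k * t * z') • a = z • (t • a) := by
  rw [mul_smul, q_fix E.hyp.setup (zGrp_le E.hyp hz'), mul_smul, mul_smul,
    mem_stabilizer_iff.1 (kGrp_le_dGrp E.hyp hk).2]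

theorem lGrp_stab {g : G} (hg : g ∈ lGrp E hrz) (ha : g • a = a) :
    ∃ z ∈ zGrp G a, ∃ k ∈ kGrp a t, g = z * k := by
  rcases hg with h | ⟨z, hz, k, hk, z', hz', rfl⟩
  · exact h
  · rw [cell_smul E hrz hz hk hz'] at ha
    exact absurd ha (Lie.RankOne.ne_of_q_smul E.hyp.setup (zGrp_le E.hyp hz) (b_ne E.hyp.setup))

theorem lGrp_dGrp {g : G} (hg : g ∈ lGrp E hrz) (hd : g ∈ dGrp a t) : g ∈ kGrp a t := by
  obtain ⟨z, hz, k, hk, rfl⟩ := lGrp_stab E hrz hg (mem_stabilizer_iff.1 hd.1)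
  have h1 : z • (t • a) = t • a := by
    have := mem_stabilizer_iff.1 hd.2
    rwa [mul_smul, mem_stabilizer_iff.1 (kGrp_le_dGrp E.hyp hk).2] at this
  rw [q_b E.hyp.setup (zGrp_le E.hyp hz) h1, one_mul]
  exact hk

theorem card_lGrp : Nat.card (lGrp E hrz) =
    Nat.card (zGrp G a) * Nat.card (kGrp a t) * (1 + Nat.card (zGrp G a)) := by
  classical
  have H := E.hyp
  let f : (zGrp G a × kGrp a t) ⊕ (zGrp G a × kGrp a t × zGrp G a) → lGrp E hrz := fun q => q.elim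
    (fun q => ⟨q.1 * q.2, Or.inl ⟨_, q.1.2, _, q.2.2, rfl⟩⟩)
    (fun q => ⟨q.1 * q.2.1 * t * q.2.2, Or.inr ⟨_, q.1.2, _, q.2.1.2, _, q.2.2.2, rfl⟩⟩)
  have hmix : ∀ (q : zGrp G a × kGrp a t) (q' : zGrp G a × kGrp a t × zGrp G a),
      f (Sum.inl q) ≠ f (Sum.inr q') := by
    intro q q' h
    have h' : (q.1 : G) * q.2 = q'.1 * q'.2.1 * t * q'.2.2 := congrArg Subtype.val h
    have e := congrArg (fun g : G => g • a) h'
    simp only [cell_smul E hrz q'.1.2 q'.2.1.2 q'.2.2.2, mul_smul,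
      mem_stabilizer_iff.1 (kGrp_le_dGrp H q.2.2).1, q_fix H.setup (zGrp_le H q.1.2)] at e
    exact Lie.RankOne.ne_of_q_smul H.setup (zGrp_le H q'.1.2) (b_ne H.setup)
      ((congrArg (fun c => (q'.1 : G) • c) (rfl : t • a = t • a)).trans e.symm)
  have hf : Function.Bijective f := by
    refine ⟨?_, fun g => ?_⟩
    · rintro (q | q) (q' | q') h
      · have h' : (q.1 : G) * q.2 = q'.1 * q'.2 := congrArg Subtype.val h
        have e1 : (q.1 : G) = q'.1 := q_unique H.setup (zGrp_le H q.1.2) (zGrp_le H q'.1.2) (by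
          have := congrArg (fun g : G => g • (t • a)) h'
          simpa [mul_smul, mem_stabilizer_iff.1 (kGrp_le_dGrp H q.2.2).2,
            mem_stabilizer_iff.1 (kGrp_le_dGrp H q'.2.2).2] using this)
        rw [e1] at h'
        exact congrArg Sum.inl (Prod.ext (Subtype.ext e1) (Subtype.ext (mul_left_cancel h')))
      · exact absurd h (hmix q q')
      · exact absurd h.symm (hmix q' q)
      · have h' : (q.1 : G) * q.2.1 * t * q.2.2 = q'.1 * q'.2.1 * t * q'.2.2 := congrArg Subtype.val h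
        obtain ⟨e1, e2, e3⟩ := form_unique H.setup (zGrp_le H q.1.2) (kGrp_le_dGrp H q.2.1.2)
          (zGrp_le H q.2.2.2) (zGrp_le H q'.1.2) (kGrp_le_dGrp H q'.2.1.2) (zGrp_le H q'.2.2.2) h'
        exact congrArg Sum.inr (Prod.ext (Subtype.ext e1) (Prod.ext (Subtype.ext e2) (Subtype.ext e3)))
    · obtain ⟨g, hg⟩ := g
      rcases hg with ⟨z, hz, k, hk, rfl⟩ | ⟨z, hz, k, hk, z', hz', rfl⟩
      · exact ⟨Sum.inl (⟨z, hz⟩, ⟨k, hk⟩), rfl⟩
      · exact ⟨Sum.inr (⟨z, hz⟩, ⟨k, hk⟩, ⟨z', hz'⟩), rfl⟩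
  rw [← Nat.card_congr (Equiv.ofBijective f hf), Nat.card_sum, Nat.card_prod, Nat.card_prod, Nat.card_prod]
  ring

/-- The orbit of `a` under the two cells. -/
def InB (_E : Env a t Q F) (_h : _E.r ∈ zGrp G a) (c : Ω) : Prop :=
  c = a ∨ ∃ z ∈ zGrp G a, c = z • (t • a)

theorem lGrp_b {g : G} (hg : g ∈ lGrp E hrz) {c : Ω} (hc : InB E hrz c) : InB E hrz (g • c) := by
  have key : ∀ g ∈ lGrp E hrz, InB E hrz (g • a) := by
    intro g hg
    rcases hg with ⟨z, hz, k, hk, rfl⟩ | ⟨z, hz, k, hk, z', hz', rfl⟩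
    · left
      rw [mul_smul, mem_stabilizer_iff.1 (kGrp_le_dGrp E.hyp hk).1, q_fix E.hyp.setup (zGrp_le E.hyp hz)]
    · exact Or.inr ⟨z, hz, cell_smul E hrz hz hk hz'⟩
  rcases hc with rfl | ⟨z, hz, rfl⟩
  · exact key g hg
  · rw [← mul_smul, ← mul_smul]
    exact key _ (mul_mem (mul_mem hg (z_le_lGrp E hrz hz)) (t_mem_lGrp E hrz))

theorem lGrp_trans {c : Ω} (hc : InB E hrz c) : ∃ g ∈ lGrp E hrz, g • a = c := by
  rcases hc with rfl | ⟨z, hz, rfl⟩
  · exact ⟨1, one_mem _, one_smul G _⟩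
  · exact ⟨z * t, mul_mem (z_le_lGrp E hrz hz) (t_mem_lGrp E hrz), mul_smul z t a⟩

/-- A non-identity element of the cells fixing a point of the orbit of `a` fixes none outside. -/
theorem lGrp_semireg {g : G} (hg : g ∈ lGrp E hrz) (hg1 : g ≠ 1) {c d : Ω} (hc : InB E hrz c)
    (hgc : g • c = c) (hd : ¬ InB E hrz d) : g • d ≠ d := by
  intro hgd
  have H := E.hyp
  obtain ⟨h, hh, rfl⟩ := lGrp_trans E hrz hc
  set g' := h⁻¹ * g * h with hg'
  have hg'L : g' ∈ lGrp E hrz := mul_mem (mul_mem (inv_mem hh) hg) hh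
  have hg'a : g' • a = a := by rw [hg', mul_smul, mul_smul, hgc, inv_smul_smul]
  have hd' : ¬ InB E hrz (h⁻¹ • d) := fun h' => hd (by
    have := lGrp_b E hrz hh h'
    rwa [smul_inv_smul] at this)
  have hg'd : g' • (h⁻¹ • d) = h⁻¹ • d := by rw [hg', mul_smul, mul_smul, smul_inv_smul, hgd]
  have hg'1 : g' ≠ 1 := fun e => hg1 (by
    calc g = h * g' * h⁻¹ := by rw [hg']; group
      _ = 1 := by rw [e]; group)
  obtain ⟨z, hz, k, hk, e⟩ := lGrp_stab E hrz hg'L hg'a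
  by_cases hk1 : k = 1
  · rw [hk1, mul_one] at e
    rw [e] at hg'd hg'1
    exact hd' (Or.inl (Lie.RankOne.fix_unique H.setup (H.setup.le (zGrp_le H hz)) hg'1 ((mem_zGrp H).1 hz).2 hg'd))
  · -- conjugate into `K` by `Z₀`
    let f : zGrp G a → zGrp G a := fun y => ⟨y * (k * (y : G)⁻¹ * k⁻¹), mul_mem y.2
      (conj_zGrp H (kGrp_le_dGrp H hk).1 (inv_mem y.2))⟩
    have hf : Function.Bijective f := Finite.injective_iff_bijective.1 fun y y' hy => by
      have hy' : (y : G) * (k * (y : G)⁻¹ * k⁻¹) = y' * (k * (y' : G)⁻¹ * k⁻¹) := congrArg Subtype.val hy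
      have hcom : k * ((y' : G)⁻¹ * y) = (y' : G)⁻¹ * y * k := by
        calc k * ((y' : G)⁻¹ * y) = (y' : G)⁻¹ * ((y' : G) * (k * (y' : G)⁻¹ * k⁻¹)) * k * y := by group
          _ = (y' : G)⁻¹ * (y * (k * (y : G)⁻¹ * k⁻¹)) * k * y := by rw [hy']
          _ = _ := by group
      have h1 := kGrp_fpf H hk hk1 (zGrp_le H (mul_mem (inv_mem y'.2) y.2)) hcom
      exact Subtype.ext (inv_mul_eq_one.1 h1).symm
    obtain ⟨y, hy⟩ := hf.2 ⟨z, hz⟩
    have hy' : (y : G) * (k * (y : G)⁻¹ * k⁻¹) = z := congrArg Subtype.val hy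
    have e' : g' = y * k * (y : G)⁻¹ := by rw [e, ← hy']; group
    have hkc : k • ((y : G)⁻¹ • (h⁻¹ • d)) = (y : G)⁻¹ • (h⁻¹ • d) := by
      conv_rhs => rw [← hg'd, e', mul_smul, mul_smul, inv_smul_smul]
    have hya : (y : G) • a = a := q_fix H.setup (zGrp_le H y.2)
    refine hk1 (k_fix_third H hk (fun h' => hd' (Or.inl ?_)) (fun h' => hd' (Or.inr ⟨y, y.2, ?_⟩)) hkc)
    · rw [inv_smul_eq_iff] at h'
      rw [h', hya]
    · rwa [inv_smul_eq_iff] at h'

/-- An element of the cells outside the stabiliser of `a` is conjugate to its inverse. -/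
theorem lGrp_real {g : G} (hg : g ∈ lGrp E hrz) (ha : g • a ≠ a) :
    ∃ h ∈ lGrp E hrz, h * g * h⁻¹ = g⁻¹ := by
  have H := E.hyp
  rcases hg with ⟨z, hz, k, hk, rfl⟩ | ⟨z, hz, k, hk, z', hz', rfl⟩
  · exact absurd (by rw [mul_smul, mem_stabilizer_iff.1 (kGrp_le_dGrp H hk).1, q_fix H.setup (zGrp_le H hz)]) ha
  · have hk2 : (k * t) * (k * t) = 1 := by
      rw [show k * t * (k * t) = k * (t * k * t) by group, t_k H hk, mul_inv_cancel]
    have hki : (k * t)⁻¹ = k * t := inv_eq_of_mul_eq_one_right hk2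
    have hzi : ∀ y ∈ zGrp G a, (y : G)⁻¹ = y := fun y hy => inv_eq_of_mul_eq_one_right ((mem_zGrp H).1 hy).2
    have hw : z' * z ∈ zGrp G a := mul_mem hz' hz
    refine ⟨z'⁻¹ * (z' * z) * z', mul_mem (mul_mem (inv_mem (z_le_lGrp E hrz hz')) (z_le_lGrp E hrz hw))
      (z_le_lGrp E hrz hz'), ?_⟩
    calc z'⁻¹ * (z' * z) * z' * (z * k * t * z') * (z'⁻¹ * (z' * z) * z')⁻¹
        = z'⁻¹ * ((z' * z) * (z' * z) * (k * t) * (z' * z)⁻¹) * z' := by group
      _ = z'⁻¹ * ((k * t)⁻¹ * (z' * z)⁻¹) * z' := by rw [((mem_zGrp H).1 hw).2, one_mul, hki]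
      _ = _ := by group

end Cfsg.Agent.Transfer.RankOne
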