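import Cfsg.Agent.Lib.Transfer.RankOne.RealElt
import Cfsg.Agent.Lib.Transfer.RankOne.SmallL

/-!
Real elements of `V` lie in `W`; an element of the cells fixing no point in the orbit of `a`.
-/

set_option autoImplicit false
set_option linter.unusedSectionVars false
set_option linter.style.haveILetI false

namespace Cfsg.Agent.Transfer.RankOne

open MulAction

universe u v

variable {G : Type u} {Ω : Type v} [Group G] [MulAction G Ω] [Finite G] [FaithfulSMul G Ω]
  {a : Ω} {t : G} {Q : Subgroup G} {F : Type} [Field F] [Finite F] (E : Env a t Q F)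
include E

theorem real_v_mem_w {y h : G} (hy : y ∈ vGrp a t) (e : h * y * h⁻¹ = y⁻¹) : y ∈ wGrp a t := by
  classical
  have hm : (h⁻¹)⁻¹ * y * h⁻¹ ∈ stabilizer G a := by
    rw [inv_inv, e]; exact inv_mem hy.1.1
  have h1 := theta_fusion E.hyp E.C E.hs E.hr E.eq (g := h⁻¹) hy hm
  rw [show (⟨(h⁻¹)⁻¹ * y * h⁻¹, hm⟩ : stabilizer G a) = ⟨y, hy.1.1⟩⁻¹ from Subtype.ext (by
    rw [Subgroup.coe_inv]
    exact (congrArg (fun z => z * y * h⁻¹) (inv_inv h)).trans e), map_inv] at h1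
  refine (E.sig_one_iff hy).1 ?_
  have h2 : E.sig hy * E.sig hy = 1 := by
    change (E.sig hy)⁻¹ = E.sig hy at h1
    exact inv_eq_iff_mul_eq_one.1 h1
  haveI : Finite (F ≃+* F) := Finite.of_injective (fun f => (f : F → F)) DFunLike.coe_injective
  obtain ⟨i, hi⟩ := (odd_vGrp E.hyp).of_dvd_nat (Subgroup.orderOf_dvd_natCard _ hy)
  have h3 : E.sig hy ^ (2 * i + 1) = 1 := by
    rw [← E.sig_pow hy, E.sig_one_iff, ← hi, pow_orderOf_eq_one]
    exact one_mem _
  rw [pow_succ, pow_mul, pow_two, h2, one_pow, one_mul] at h3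
  exact h3

/-- An element of odd prime order fixing two points, real and prime to `q - 1`, is conjugate to an element of `W`
that is real. -/
theorem real_conj_w {g h : G} (hh : h * g * h⁻¹ = g⁻¹) {l : ℕ} (hl : l.Prime) (hlo : orderOf g = l)
    (hlK : ¬ l ∣ Nat.card (kGrp a t)) {p₁ p₂ : Ω} (h1 : g • p₁ = p₁) (h2 : g • p₂ = p₂) (hne : p₁ ≠ p₂) :
    ∃ f : G, f * g * f⁻¹ ∈ wGrp a t := by
  have H := E.hyp
  obtain ⟨f, f1, f2⟩ := is_two_pretransitive_iff.1 H.setup.two_transitive hne (Lie.RankOne.b_ne H.setup).symm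
  set d := f * g * f⁻¹ with hd
  have hdD : d ∈ dGrp a t := ⟨mem_stabilizer_iff.2 (by
      rw [hd, mul_smul, mul_smul, ← f1, inv_smul_smul, h1]), mem_stabilizer_iff.2 (by
      rw [hd, mul_smul, mul_smul, ← f2, inv_smul_smul, h2])⟩
  have hreal : (f * h * f⁻¹) * d * (f * h * f⁻¹)⁻¹ = d⁻¹ := by
    calc (f * h * f⁻¹) * d * (f * h * f⁻¹)⁻¹ = f * (h * g * h⁻¹) * f⁻¹ := by rw [hd]; group
      _ = d⁻¹ := by rw [hh, hd]; group
  have hdo : orderOf d = l := by rw [← hlo]; exact MulEquiv.orderOf_eq (MulAut.conj f) g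
  rcases real_cases H hdD hreal with hK | ⟨z, hza, hzb, hz⟩
  · exact absurd (hdo ▸ Subgroup.orderOf_dvd_natCard _ hK) hlK
  obtain ⟨k, hk, hkt⟩ := Lie.RankOne.conj_into_centralizer H.setup (X := {d}) (Set.singleton_subset_iff.2 hdD)
    ⟨a, t • a, z, (Lie.RankOne.b_ne H.setup).symm, hza.symm, hzb.symm, by
      rintro y rfl
      exact ⟨mem_stabilizer_iff.1 hdD.1, mem_stabilizer_iff.1 hdD.2, hz⟩⟩
  have hy : k * d * k⁻¹ ∈ vGrp a t := mem_vGrp.2 ⟨mul_mem (mul_mem hk hdD) (inv_mem hk), hkt d rfl⟩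
  refine ⟨k * f, ?_⟩
  rw [show k * f * g * (k * f)⁻¹ = k * d * k⁻¹ by rw [hd]; group]
  refine real_v_mem_w E hy (h := k * (f * h * f⁻¹) * k⁻¹) ?_
  calc k * (f * h * f⁻¹) * k⁻¹ * (k * d * k⁻¹) * (k * (f * h * f⁻¹) * k⁻¹)⁻¹
      = k * ((f * h * f⁻¹) * d * (f * h * f⁻¹)⁻¹) * k⁻¹ := by group
    _ = (k * d * k⁻¹)⁻¹ := by rw [hreal]; group

variable (hrz : E.r ∈ zGrp G a)
include hrz

/-- Some element of prime order of the cells fixes a given point outside the orbit of `a`, when that orbit is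
small against the degree. -/
theorem exists_fix_outside (hbig : Nat.card Q + 1 < Nat.card (lGrp E hrz) + (Nat.card (zGrp G a) + 1)) {c : Ω}
    (hc : ¬ InB E hrz c) :
    ∃ (c' : Ω) (g : G) (l : ℕ), ¬ InB E hrz c' ∧ g ∈ lGrp E hrz ∧ l.Prime ∧ orderOf g = l ∧ g • c' = c' := by
  classical
  haveI := Lie.RankOne.finite_omega E.hyp.setup
  have H := E.hyp
  let f : lGrp E hrz → {d : Ω // ¬ InB E hrz d} := fun g => ⟨(g : G) • c, fun h => hc (by
    have := lGrp_b E hrz (inv_mem g.2) h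
    rwa [inv_smul_smul] at this)⟩
  have hB : Nat.card {d : Ω // InB E hrz d} = Nat.card (zGrp G a) + 1 := by
    let e : Option (zGrp G a) → {d : Ω // InB E hrz d} := fun o =>
      o.elim ⟨a, Or.inl rfl⟩ fun z => ⟨(z : G) • (t • a), Or.inr ⟨z, z.2, rfl⟩⟩
    have he : Function.Bijective e := by
      refine ⟨?_, fun d => ?_⟩
      · rintro (_ | z) (_ | z') h
        · rfl
        · exact absurd (congrArg Subtype.val h).symm
            (Lie.RankOne.ne_of_q_smul H.setup (zGrp_le H z'.2) (Lie.RankOne.b_ne H.setup))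
        · exact absurd (congrArg Subtype.val h)
            (Lie.RankOne.ne_of_q_smul H.setup (zGrp_le H z.2) (Lie.RankOne.b_ne H.setup))
        · exact congrArg some (Subtype.ext (Lie.RankOne.q_unique H.setup (zGrp_le H z.2) (zGrp_le H z'.2)
            (congrArg Subtype.val h)))
      · obtain ⟨d, rfl | ⟨z, hz, rfl⟩⟩ := d
        · exact ⟨none, rfl⟩
        · exact ⟨some ⟨z, hz⟩, rfl⟩
    rw [← Nat.card_congr (Equiv.ofBijective e he), Finite.card_option]
  have hsum : Nat.card {d : Ω // InB E hrz d} + Nat.card {d : Ω // ¬ InB E hrz d} = Nat.card Ω := by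
    rw [← Nat.card_sum]; exact Nat.card_congr (Equiv.sumCompl _)
  rw [Lie.RankOne.card_omega H.setup, hB] at hsum
  have hni : ¬ Function.Injective f := fun h => by
    have := Nat.card_le_card_of_injective f h
    omega
  simp only [Function.Injective, not_forall] at hni
  obtain ⟨g₁, g₂, he, hne⟩ := hni
  set g := (g₁ : G)⁻¹ * g₂ with hg
  have hgL : g ∈ lGrp E hrz := mul_mem (inv_mem g₁.2) g₂.2
  have hg1 : g ≠ 1 := fun h => hne (Subtype.ext (inv_mul_eq_one.1 h))
  have hgc : g • c = c := by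
    rw [hg, mul_smul, ← show (g₁ : G) • c = (g₂ : G) • c from congrArg Subtype.val he, inv_smul_smul]
  obtain ⟨l, hl, hld⟩ := Nat.exists_prime_and_dvd (fun h => hg1 (orderOf_eq_one_iff.1 h) : orderOf g ≠ 1)
  exact ⟨c, g ^ (orderOf g / l), l, hc, pow_mem hgL _, hl, orderOf_pow_orderOf_div (orderOf_pos g).ne' hld,
    mem_stabilizer_iff.1 (pow_mem (mem_stabilizer_iff.2 hgc : g ∈ stabilizer G c) _)⟩

/-- An element of prime order of the cells fixing a point outside the orbit of `a` has order dividing `q + 1`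
and is real. -/
theorem fix_outside_facts {c : Ω} (hc : ¬ InB E hrz c) {g : G} {l : ℕ} (hg : g ∈ lGrp E hrz) (hl : l.Prime)
    (hlo : orderOf g = l) (hgc : g • c = c) :
    l ≠ 2 ∧ l ∣ Nat.card (zGrp G a) + 1 ∧ ¬ l ∣ Nat.card (kGrp a t) ∧ ∃ h ∈ lGrp E hrz, h * g * h⁻¹ = g⁻¹ := by
  classical
  haveI := Fact.mk hl
  haveI := Lie.RankOne.finite_omega E.hyp.setup
  have H := E.hyp
  have hg1 : g ≠ 1 := fun h => by rw [h, orderOf_one] at hlo; exact hl.one_lt.ne hlo
  have hno : ∀ d, InB E hrz d → g • d ≠ d := fun d hd h => lGrp_semireg E hrz hg hg1 hd h hc hgc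
  letI : MulAction (Subgroup.zpowers g) {d : Ω // InB E hrz d} :=
    { smul := fun y d => ⟨(y : G) • (d : Ω), lGrp_b E hrz ((Subgroup.zpowers_le.2 hg) y.2) d.2⟩
      one_smul := fun d => Subtype.ext (one_smul G (d : Ω))
      mul_smul := fun y z d => Subtype.ext (mul_smul (y : G) (z : G) (d : Ω)) }
  have hP : IsPGroup l (Subgroup.zpowers g) := IsPGroup.of_card (n := 1) (by rw [Nat.card_zpowers, hlo, pow_one])
  have h := hP.card_modEq_card_fixedPoints {d : Ω // InB E hrz d}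
  haveI : IsEmpty (MulAction.fixedPoints (Subgroup.zpowers g) {d : Ω // InB E hrz d}) := ⟨fun d =>
    hno d.1.1 d.1.2 (congrArg Subtype.val (d.2 ⟨g, Subgroup.mem_zpowers g⟩))⟩
  rw [Nat.card_of_isEmpty (α := MulAction.fixedPoints (Subgroup.zpowers g) {d : Ω // InB E hrz d})] at h
  have hB : Nat.card {d : Ω // InB E hrz d} = Nat.card (zGrp G a) + 1 := by
    let e : Option (zGrp G a) → {d : Ω // InB E hrz d} := fun o =>
      o.elim ⟨a, Or.inl rfl⟩ fun z => ⟨(z : G) • (t • a), Or.inr ⟨z, z.2, rfl⟩⟩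
    have he : Function.Bijective e := by
      refine ⟨?_, fun d => ?_⟩
      · rintro (_ | z) (_ | z') h
        · rfl
        · exact absurd (congrArg Subtype.val h).symm
            (Lie.RankOne.ne_of_q_smul H.setup (zGrp_le H z'.2) (Lie.RankOne.b_ne H.setup))
        · exact absurd (congrArg Subtype.val h)
            (Lie.RankOne.ne_of_q_smul H.setup (zGrp_le H z.2) (Lie.RankOne.b_ne H.setup))
        · exact congrArg some (Subtype.ext (Lie.RankOne.q_unique H.setup (zGrp_le H z.2) (zGrp_le H z'.2)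
            (congrArg Subtype.val h)))
      · obtain ⟨d, rfl | ⟨z, hz, rfl⟩⟩ := d
        · exact ⟨none, rfl⟩
        · exact ⟨some ⟨z, hz⟩, rfl⟩
    rw [← Nat.card_congr (Equiv.ofBijective e he), Finite.card_option]
  have hdvd : l ∣ Nat.card (zGrp G a) + 1 := hB ▸ Nat.modEq_zero_iff_dvd.1 h
  obtain ⟨k, hk, hk'⟩ := exists_card_zGrp H
  have hl2 : l ≠ 2 := by
    rintro rfl
    obtain ⟨c2, hc2⟩ : Even (2 ^ k) := (Nat.even_pow' (by omega)).2 even_two
    rw [hk'] at hdvd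
    obtain ⟨d, hd⟩ := hdvd
    omega
  refine ⟨hl2, hdvd, fun hK => hl2 ?_, lGrp_real E hrz hg (hno a (Or.inl rfl))⟩
  have h1 := Nat.dvd_sub hdvd hK
  rw [← card_kGrp H, show Nat.card (kGrp a t) + 1 + 1 - Nat.card (kGrp a t) = 2 by omega] at h1
  exact (Nat.prime_dvd_prime_iff_eq hl Nat.prime_two).1 h1

end Cfsg.Agent.Transfer.RankOne
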