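import Cfsg.Agent.Lib.Transfer.RankOne.QShape
import Cfsg.Agent.Lib.Transfer.RankOne.RealV
import Cfsg.Agent.Lib.Transfer.RankOne.AbCase

/-!
When `|Q| = q ^ 3` and `W` is not trivial: the fixed points of an element of `W` are the orbit of `a` under the two
cells, whose group is regular on the other points.
-/

set_option autoImplicit false
set_option linter.unusedSectionVars false
set_option linter.style.haveILetI false

namespace Cfsg.Agent.Transfer.RankOne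

open MulAction
open Cfsg.Agent.Lie.RankOne (b_ne q_fix q_unique exists_q exists_qd)

universe u v

variable {G : Type u} {Ω : Type v} [Group G] [MulAction G Ω] [Finite G] [FaithfulSMul G Ω]
  {a : Ω} {t : G} {Q : Subgroup G}

/-- An element of `K` fixing a coset of an invariant subgroup of `Q` fixes no other than the trivial one. -/
theorem k_sub_fpf (H : Hyp G Ω a t Q) {R : Subgroup G} (hRQ : R ≤ Q)
    (hR : ∀ k ∈ kGrp a t, ∀ r ∈ R, k * r * k⁻¹ ∈ R) {k x : G} (hk : k ∈ kGrp a t) (hk1 : k ≠ 1) (hx : x ∈ Q)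
    (h : x⁻¹ * (k * x * k⁻¹) ∈ R) : x ∈ R := by
  let f : R → R := fun y => ⟨(y : G) * (k * y * k⁻¹)⁻¹, mul_mem y.2 (inv_mem (hR k hk y y.2))⟩
  have hf : Function.Bijective f := Finite.injective_iff_bijective.1 fun y y' hy => by
    have hy' : (y : G) * (k * y * k⁻¹)⁻¹ = (y' : G) * (k * y' * k⁻¹)⁻¹ := congrArg Subtype.val hy
    have hcom : k * ((y' : G)⁻¹ * y) = (y' : G)⁻¹ * y * k := by
      calc k * ((y' : G)⁻¹ * y) = (y' : G)⁻¹ * ((y' : G) * (k * y' * k⁻¹)⁻¹) * k * y := by group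
        _ = (y' : G)⁻¹ * ((y : G) * (k * y * k⁻¹)⁻¹) * k * y := by rw [hy']
        _ = _ := by group
    exact Subtype.ext (inv_mul_eq_one.1 (kGrp_fpf H hk hk1 (hRQ (mul_mem (inv_mem y'.2) y.2)) hcom)).symm
  obtain ⟨y, hy⟩ := hf.2 ⟨_, h⟩
  have hy' : (y : G) * (k * y * k⁻¹)⁻¹ = x⁻¹ * (k * x * k⁻¹) := congrArg Subtype.val hy
  have hcom : k * (x * (y : G)) = x * (y : G) * k := by
    calc k * (x * (y : G)) = x * (x⁻¹ * (k * x * k⁻¹)) * (k * y * k⁻¹) * k := by group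
      _ = x * ((y : G) * (k * y * k⁻¹)⁻¹) * (k * y * k⁻¹) * k := by rw [hy']
      _ = _ := by group
  have h1 := kGrp_fpf H hk hk1 (mul_mem hx (hRQ y.2)) hcom
  rw [mul_eq_one_iff_eq_inv] at h1
  rw [h1]
  exact inv_mem y.2

theorem k_orbit_inj (H : Hyp G Ω a t Q) {R : Subgroup G} (hRQ : R ≤ Q)
    (hR : ∀ k ∈ kGrp a t, ∀ r ∈ R, k * r * k⁻¹ ∈ R) {x : G} (hx : x ∈ Q) (hxR : x ∉ R) :
    Function.Injective fun p : kGrp a t × R => (p.1 : G) * x * (p.1 : G)⁻¹ * p.2 := by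
  rintro ⟨k, z⟩ ⟨k', z'⟩ h
  have h' : (k : G) * x * (k : G)⁻¹ * z = (k' : G) * x * (k' : G)⁻¹ * z' := h
  have hkk : k' = k := by
    by_contra hne
    set c := (k : G)⁻¹ * k' with hc
    have hcK : c ∈ kGrp a t := mul_mem (inv_mem k.2) k'.2
    have hc1 : c ≠ 1 := fun e => hne (Subtype.ext (inv_mul_eq_one.1 e).symm)
    refine hxR (k_sub_fpf H hRQ hR hcK hc1 hx ?_)
    have hzz := hR _ (inv_mem k.2) _ (mul_mem z.2 (inv_mem z'.2))
    rw [inv_inv] at hzz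
    convert hzz using 1
    calc x⁻¹ * (c * x * c⁻¹) = x⁻¹ * ((k : G)⁻¹ * ((k' : G) * x * (k' : G)⁻¹ * z') * (z' : G)⁻¹ * k) := by
          rw [hc]; group
      _ = x⁻¹ * ((k : G)⁻¹ * ((k : G) * x * (k : G)⁻¹ * z) * (z' : G)⁻¹ * k) := by rw [h']
      _ = _ := by group
  subst hkk
  exact Prod.ext rfl (Subtype.ext (mul_left_cancel h'))

/-- The order of an invariant subgroup of `Q` strictly between `Z₀` and `Q`, and transitivity of `K` on both
sides of it. -/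
theorem mid_sub (H : Hyp G Ω a t Q) (hsz : Nat.card Q = Nat.card (zGrp G a) ^ 3) {R : Subgroup G} (hRQ : R ≤ Q)
    (hR : ∀ k ∈ kGrp a t, ∀ r ∈ R, k * r * k⁻¹ ∈ R) (hZR : zGrp G a ≤ R) {x₀ y₀ : G} (hx₀ : x₀ ∈ R)
    (hx₀' : x₀ ∉ zGrp G a) (hy₀ : y₀ ∈ Q) (hy₀' : y₀ ∉ R) :
    (∀ x ∈ R, x ∉ zGrp G a → ∀ x' ∈ R, x' ∉ zGrp G a →
        ∃ k ∈ kGrp a t, ∃ z ∈ zGrp G a, x' = k * x * k⁻¹ * z) ∧
      ∀ y ∈ Q, y ∉ R → ∀ y' ∈ Q, y' ∉ R → ∃ k ∈ kGrp a t, ∃ r ∈ R, y' = k * y * k⁻¹ * r := by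
  classical
  have hka : ∀ k ∈ kGrp a t, k ∈ stabilizer G a := fun k hk => (kGrp_le_dGrp H hk).1
  have hZk : ∀ k ∈ kGrp a t, ∀ r ∈ zGrp G a, k * r * k⁻¹ ∈ zGrp G a := fun k hk r hr =>
    conj_zGrp H (hka k hk) hr
  have m1 : ∀ x ∈ R, x ∉ zGrp G a → ∀ p : kGrp a t × zGrp G a,
      (p.1 : G) * x * (p.1 : G)⁻¹ * p.2 ∈ R ∧ (p.1 : G) * x * (p.1 : G)⁻¹ * p.2 ∉ zGrp G a := fun x hx hxz p =>
    ⟨mul_mem (hR _ p.1.2 _ hx) (hZR p.2.2), fun h => hxz (by
      have h2 := hZk _ (inv_mem p.1.2) _ ((mul_mem_cancel_right p.2.2).1 h)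
      rwa [show (p.1 : G)⁻¹ * ((p.1 : G) * x * (p.1 : G)⁻¹) * ((p.1 : G)⁻¹)⁻¹ = x by group] at h2)⟩
  have m2 : ∀ y ∈ Q, y ∉ R → ∀ p : kGrp a t × R,
      (p.1 : G) * y * (p.1 : G)⁻¹ * p.2 ∈ Q ∧ (p.1 : G) * y * (p.1 : G)⁻¹ * p.2 ∉ R := fun y hy hyR p =>
    ⟨mul_mem (H.setup.conj_mem _ (hka _ p.1.2) y hy) (hRQ p.2.2), fun h => hyR (by
      have h2 := hR _ (inv_mem p.1.2) _ ((mul_mem_cancel_right p.2.2).1 h)
      rwa [show (p.1 : G)⁻¹ * ((p.1 : G) * y * (p.1 : G)⁻¹) * ((p.1 : G)⁻¹)⁻¹ = y by group] at h2)⟩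
  let f1 : ∀ x ∈ R, x ∉ zGrp G a → kGrp a t × zGrp G a → {u : R // (u : G) ∉ zGrp G a} := fun x hx hxz p =>
    ⟨⟨_, (m1 x hx hxz p).1⟩, (m1 x hx hxz p).2⟩
  let f2 : ∀ y ∈ Q, y ∉ R → kGrp a t × R → {u : Q // (u : G) ∉ R} := fun y hy hyR p =>
    ⟨⟨_, (m2 y hy hyR p).1⟩, (m2 y hy hyR p).2⟩
  have i1 : ∀ x (hx : x ∈ R) (hxz : x ∉ zGrp G a), Function.Injective (f1 x hx hxz) := fun x hx hxz p p' h =>
    k_orbit_inj H (zGrp_le H) hZk (hRQ hx) hxz
      (congrArg (fun u : {u : R // (u : G) ∉ zGrp G a} => ((u : R) : G)) h)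
  have i2 : ∀ y (hy : y ∈ Q) (hyR : y ∉ R), Function.Injective (f2 y hy hyR) := fun y hy hyR p p' h =>
    k_orbit_inj H hRQ hR hy hyR (congrArg (fun u : {u : Q // (u : G) ∉ R} => ((u : Q) : G)) h)
  have c1 : Nat.card {u : R // (u : G) ∉ zGrp G a} + Nat.card (zGrp G a) = Nat.card R := by
    have h1 : Nat.card {u : R // (u : G) ∈ zGrp G a} = Nat.card (zGrp G a) := Nat.card_congr
      { toFun := fun u => ⟨(u.1 : G), u.2⟩
        invFun := fun z => ⟨⟨z.1, hZR z.2⟩, z.2⟩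
        left_inv := fun _ => rfl
        right_inv := fun _ => rfl }
    rw [← h1, add_comm, ← Nat.card_sum]
    exact Nat.card_congr (Equiv.sumCompl _)
  have c2 : Nat.card {u : Q // (u : G) ∉ R} + Nat.card R = Nat.card Q := by
    have h1 : Nat.card {u : Q // (u : G) ∈ R} = Nat.card R := Nat.card_congr
      { toFun := fun u => ⟨(u.1 : G), u.2⟩
        invFun := fun z => ⟨⟨z.1, hRQ z.2⟩, z.2⟩
        left_inv := fun _ => rfl
        right_inv := fun _ => rfl }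
    rw [← h1, add_comm, ← Nat.card_sum]
    exact Nat.card_congr (Equiv.sumCompl _)
  have l1 := Nat.card_le_card_of_injective _ (i1 x₀ hx₀ hx₀')
  have l2 := Nat.card_le_card_of_injective _ (i2 y₀ hy₀ hy₀')
  rw [Nat.card_prod] at l1 l2
  have hK := card_kGrp H
  set e := Nat.card (kGrp a t)
  set q := Nat.card (zGrp G a)
  replace l1 : e * q ≤ Nat.card {u : R // (u : G) ∉ zGrp G a} := l1
  replace l2 : e * Nat.card R ≤ Nat.card {u : Q // (u : G) ∉ R} := l2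
  have hR2 : Nat.card R = q * q := by
    rw [hsz] at c2
    have h1 : (e + 1) * q ≤ Nat.card R := by rw [add_mul, one_mul]; omega
    have h2 : (e + 1) * Nat.card R ≤ q ^ 3 := by rw [add_mul, one_mul]; omega
    rw [hK] at h1 h2
    refine le_antisymm ?_ h1
    exact Nat.le_of_mul_le_mul_left (h2.trans_eq (by ring)) (by rw [← hK]; omega)
  have eq1 : Nat.card (kGrp a t × zGrp G a) = Nat.card {u : R // (u : G) ∉ zGrp G a} := by
    rw [Nat.card_prod]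
    show e * q = _
    have : (e + 1) * q = Nat.card R := by rw [hK, hR2]
    rw [add_mul, one_mul] at this
    omega
  have eq2 : Nat.card (kGrp a t × R) = Nat.card {u : Q // (u : G) ∉ R} := by
    rw [Nat.card_prod]
    show e * Nat.card R = _
    have : (e + 1) * Nat.card R = Nat.card Q := by rw [hK, hR2, hsz]; ring
    rw [add_mul, one_mul] at this
    omega
  refine ⟨fun x hx hxz x' hx' hxz' => ?_, fun y hy hyR y' hy' hyR' => ?_⟩
  · obtain ⟨⟨k, z⟩, h⟩ := ((Nat.bijective_iff_injective_and_card _).2 ⟨i1 x hx hxz, eq1⟩).2 ⟨⟨x', hx'⟩, hxz'⟩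
    exact ⟨k, k.2, z, z.2, (congrArg (fun u : {u : R // (u : G) ∉ zGrp G a} => ((u : R) : G)) h).symm⟩
  · obtain ⟨⟨k, z⟩, h⟩ := ((Nat.bijective_iff_injective_and_card _).2 ⟨i2 y hy hyR, eq2⟩).2 ⟨⟨y', hy'⟩, hyR'⟩
    exact ⟨k, k.2, z, z.2, (congrArg (fun u : {u : Q // (u : G) ∉ R} => ((u : Q) : G)) h).symm⟩

variable {F : Type} [Field F] [Finite F] (E : Env a t Q F) (hQ2 : IsPGroup 2 Q)
  (hna : ∃ x ∈ Q, ∃ y ∈ Q, x * y ≠ y * x)
include E hQ2 hna

theorem w_comm_z {w z : G} (hw : w ∈ wGrp a t) (hz : z ∈ zGrp G a) : z * w = w * z := by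
  obtain ⟨y, rfl⟩ := E.C.e_surj z hz
  refine (E.sig_fix (wGrp_le_vGrp hw)).2 ?_
  rw [(E.sig_one_iff (wGrp_le_vGrp hw)).2 hw]; rfl

/-- If an element of `W` moves `x` by an element of `Z₀` it fixes it. -/
theorem w_fix_of_coset {w x : G} (hw : w ∈ wGrp a t) (h : x⁻¹ * (w * x * w⁻¹) ∈ zGrp G a) : w * x = x * w := by
  have H := E.hyp
  set c := x⁻¹ * (w * x * w⁻¹) with hc
  have hit : ∀ j : ℕ, w ^ j * x * (w ^ j)⁻¹ = x * c ^ j := by
    intro j
    induction j with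
    | zero => simp
    | succ j ihj =>
      calc w ^ (j + 1) * x * (w ^ (j + 1))⁻¹ = w * (w ^ j * x * (w ^ j)⁻¹) * w⁻¹ := by rw [pow_succ']; group
        _ = w * x * (c ^ j * w⁻¹) := by rw [ihj]; group
        _ = w * x * (w⁻¹ * c ^ j) := by
          rw [((show Commute c w from w_comm_z E hQ2 hna hw h).pow_left j).inv_right.eq]
        _ = x * c * c ^ j := by rw [hc]; group
        _ = _ := by rw [mul_assoc, ← pow_succ']
  have h1 := hit (orderOf w)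
  obtain ⟨i, hi⟩ : Odd (orderOf w) :=
    (odd_vGrp H).of_dvd_nat (Subgroup.orderOf_dvd_natCard _ (wGrp_le_vGrp hw))
  rw [pow_orderOf_eq_one, one_mul, inv_one, mul_one, left_eq_mul, hi, pow_succ, pow_mul,
    show c ^ 2 = 1 by rw [pow_two]; exact ((mem_zGrp H).1 h).2, one_pow, one_mul, hc, inv_mul_eq_one] at h1
  exact mul_inv_eq_iff_eq_mul.1 h1.symm

/-- An element of `W` carrying `x` into the cells of `x` under `K` and `Z₀` fixes it. -/
theorem w_fix_of_orbit {w x k z : G} (hw : w ∈ wGrp a t) (hx : x ∈ Q) (hxz : x ∉ zGrp G a)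
    (hk : k ∈ kGrp a t) (hz : z ∈ zGrp G a) (h : w * x * w⁻¹ = k * x * k⁻¹ * z) : w * x = x * w := by
  have H := E.hyp
  have hx2 : x * x ≠ 1 := fun h => hxz ((mem_zGrp' H).2 ⟨hx, h⟩)
  have hx2z := (q_shape H hQ2 hna).2 x hx
  have hc : Commute (k * x * k⁻¹) z :=
    (zGrp_central H hz (H.setup.conj_mem k (kGrp_le_dGrp H hk).1 x hx)).symm
  have e : w * (x * x) * w⁻¹ = k * (x * x) * k⁻¹ := by
    rw [show w * (x * x) * w⁻¹ = (w * x * w⁻¹) * (w * x * w⁻¹) by group, h, hc.symm.mul_mul_mul_comm,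
      ((mem_zGrp H).1 hz).2, mul_one]
    group
  rw [← w_comm_z E hQ2 hna hw hx2z, mul_inv_cancel_right] at e
  have hk1 : k = 1 := by
    by_contra hk1
    exact hx2 (kGrp_fpf H hk hk1 (zGrp_le H hx2z) (mul_inv_eq_iff_eq_mul.1 e.symm))
  rw [hk1, one_mul, inv_one, mul_one] at h
  exact w_fix_of_coset E hQ2 hna hw (by rw [h, inv_mul_cancel_left]; exact hz)

variable (hsz : Nat.card Q = Nat.card (zGrp G a) ^ 3)
include hsz

/-- An element of `W` fixes no element of `Q` outside `Z₀`. -/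
theorem cq_w {w x : G} (hw : w ∈ wGrp a t) (hw1 : w ≠ 1) (hx : x ∈ Q) (h : w * x = x * w) :
    x ∈ zGrp G a := by
  classical
  by_contra hxz
  have H := E.hyp
  have hwa : w ∈ stabilizer G a := hw.1.1.1
  set R := Q ⊓ Subgroup.centralizer ({w} : Set G) with hRdef
  have hmR : ∀ y, y ∈ R ↔ y ∈ Q ∧ y * w = w * y := fun y => by
    rw [hRdef, Subgroup.mem_inf, Subgroup.mem_centralizer_singleton_iff]
  have hwk : ∀ k ∈ kGrp a t, k * w = w * k := (mem_wGrp.1 hw).2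
  have hR : ∀ k ∈ kGrp a t, ∀ y ∈ R, k * y * k⁻¹ ∈ R := fun k hk y hy => by
    obtain ⟨hyQ, hyw⟩ := (hmR y).1 hy
    refine (hmR _).2 ⟨H.setup.conj_mem k (kGrp_le_dGrp H hk).1 y hyQ, ?_⟩
    exact ((show Commute k w from hwk k hk).mul_left (show Commute y w from hyw)).mul_left
      (show Commute k w from hwk k hk).inv_left
  have hZR : zGrp G a ≤ R := fun z hz => (hmR z).2 ⟨zGrp_le H hz, w_comm_z E hQ2 hna hw hz⟩
  obtain ⟨y₀, hy₀, hy₀'⟩ : ∃ y ∈ Q, y ∉ R := by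
    by_contra hcon
    push Not at hcon
    exact hw1 (d_eq_one E hw.1.1 fun y hy => ((hmR y).1 (hcon y hy)).2.symm)
  obtain ⟨-, htr⟩ := mid_sub H hsz inf_le_left hR hZR ((hmR x).2 ⟨hx, h.symm⟩) hxz hy₀ hy₀'
  obtain ⟨hcm, -⟩ := q_shape H hQ2 hna
  set c := y₀⁻¹ * (w * y₀ * w⁻¹) with hc
  have hy₁ : w * y₀ * w⁻¹ ∈ Q := H.setup.conj_mem w hwa y₀ hy₀
  have hcQ : c ∈ Q := mul_mem (inv_mem hy₀) hy₁
  by_cases hcz : c ∈ zGrp G a
  · exact hy₀' ((hmR y₀).2 ⟨hy₀, (w_fix_of_coset E hQ2 hna hw hcz).symm⟩)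
  have hy₁' : w * y₀ * w⁻¹ ∉ R := fun h' => hy₀' (by
    obtain ⟨-, h1⟩ := (hmR _).1 h'
    refine (hmR y₀).2 ⟨hy₀, ?_⟩
    have h2 : w * y₀ = w * (w * y₀ * w⁻¹) := by rw [← h1, inv_mul_cancel_right]
    exact mul_inv_eq_iff_eq_mul.1 ((mul_left_cancel h2).symm) |>.symm)
  obtain ⟨k, hk, ρ, hρ, e⟩ := htr y₀ hy₀ hy₀' _ hy₁ hy₁'
  obtain ⟨hρQ, hρw⟩ := (hmR ρ).1 hρ
  have hkQ : k * c * k⁻¹ ∈ Q := H.setup.conj_mem k (kGrp_le_dGrp H hk).1 c hcQ
  have hcfix : w * c = c * w := by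
    refine w_fix_of_orbit E hQ2 hna hw hcQ hcz hk (z := (k * c * k⁻¹)⁻¹ * ρ⁻¹ * (k * c * k⁻¹) * ρ)
      (hcm _ hkQ ρ hρQ) ?_
    have hwk' : k * w * k⁻¹ = w := by rw [hwk k hk, mul_inv_cancel_right]
    calc w * c * w⁻¹ = (w * y₀ * w⁻¹)⁻¹ * (w * (w * y₀ * w⁻¹) * w⁻¹) := by rw [hc]; group
      _ = (k * y₀ * k⁻¹ * ρ)⁻¹ * ((k * w * k⁻¹) * (k * y₀ * k⁻¹) * (k * w * k⁻¹)⁻¹ * (w * ρ * w⁻¹)) := by
        rw [hwk', e]; group
      _ = ρ⁻¹ * (k * c * k⁻¹) * ρ := by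
        rw [← hρw, mul_inv_cancel_right, hc]; group
      _ = _ := by group
  refine hy₀' ((hmR y₀).2 ⟨hy₀, ?_⟩)
  have hit : ∀ j : ℕ, w ^ j * y₀ * (w ^ j)⁻¹ = y₀ * c ^ j := by
    intro j
    induction j with
    | zero => simp
    | succ j ihj =>
      calc w ^ (j + 1) * y₀ * (w ^ (j + 1))⁻¹ = w * (w ^ j * y₀ * (w ^ j)⁻¹) * w⁻¹ := by rw [pow_succ']; group
        _ = w * y₀ * (c ^ j * w⁻¹) := by rw [ihj]; group
        _ = w * y₀ * (w⁻¹ * c ^ j) := by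
          rw [((show Commute c w from hcfix.symm).pow_left j).inv_right.eq]
        _ = y₀ * c * c ^ j := by rw [hc]; group
        _ = _ := by rw [mul_assoc, ← pow_succ']
  have h1 := hit (orderOf w)
  rw [pow_orderOf_eq_one, one_mul, inv_one, mul_one, left_eq_mul] at h1
  have h4 : c ^ 4 = 1 := by
    rw [show (4 : ℕ) = 2 * 2 from rfl, pow_mul, pow_two, pow_two]
    exact ((mem_zGrp H).1 ((q_shape H hQ2 hna).2 c hcQ)).2
  have hodd : Nat.Coprime (orderOf w) 4 := by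
    have : Odd (orderOf w) :=
      (odd_vGrp H).of_dvd_nat (Subgroup.orderOf_dvd_natCard _ (wGrp_le_vGrp hw))
    exact (Nat.coprime_two_right.2 this).pow_right 2
  have hc1 : c = 1 := orderOf_eq_one_iff.1 (Nat.eq_one_of_dvd_coprimes hodd
    (orderOf_dvd_of_pow_eq_one h1) (orderOf_dvd_of_pow_eq_one h4))
  rw [hc, inv_mul_eq_one] at hc1
  exact (mul_inv_eq_iff_eq_mul.1 hc1.symm).symm

theorem r_mem_cube {w : G} (hw : w ∈ wGrp a t) (hw1 : w ≠ 1) : E.r ∈ zGrp G a :=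
  cq_w E hQ2 hna hsz hw hw1 E.hr (v_comm_r E.hyp E.hr E.hrt (wGrp_le_vGrp hw))

omit hQ2 hna hsz in
theorem r_eq_s (hrz : E.r ∈ zGrp G a) : E.r = E.s := by
  have H := E.hyp
  have hsQ : E.s ∈ Q := Lie.RankOne.invol_mem_Q H.setup E.hs.1 E.hs.2.2
  refine q_unique H.setup E.hr hsQ ?_
  have h := congrArg (fun g : G => g • a) E.eq
  simp only [mul_smul, q_fix H.setup E.hr, inv_eq_of_mul_eq_one_right ((mem_zGrp H).1 hrz).2] at h
  calc E.r • (t • a) = t • (E.r • (t • a)) := E.hrt.symm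
    _ = t • (t • (E.s • (t • a))) := by rw [h]
    _ = _ := by rw [← mul_smul, H.setup.mul_self, one_smul]

variable (hrz : E.r ∈ zGrp G a)
include hrz

/-- The fixed points of an element of `W`. -/
theorem fix_w {w : G} (hw : w ∈ wGrp a t) (hw1 : w ≠ 1) {c : Ω} : w • c = c ↔ InB E hrz c := by
  have H := E.hyp
  constructor
  · intro h
    by_cases hc : c = a
    · exact Or.inl hc
    obtain ⟨x, hx, rfl⟩ := exists_q H.setup hc
    exact Or.inr ⟨x, cq_w E hQ2 hna hsz hw hw1 hx ((fix_q_iff H hw.1.1 hx).1 h), rfl⟩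
  · rintro (rfl | ⟨z, hz, rfl⟩)
    · exact mem_stabilizer_iff.1 hw.1.1.1
    · exact (fix_q_iff H hw.1.1 (zGrp_le H hz)).2 (w_comm_z E hQ2 hna hw hz).symm

omit hsz in
theorem w_comm_l {w l : G} (hw : w ∈ wGrp a t) (hl : l ∈ lGrp E hrz) : w * l = l * w := by
  have hz : ∀ z ∈ zGrp G a, Commute w z := fun z hz => (w_comm_z E hQ2 hna hw hz).symm
  have hk : ∀ k ∈ kGrp a t, Commute w k := fun k hk => ((mem_wGrp.1 hw).2 k hk).symm
  have ht : Commute w t := (mem_vGrp.1 (wGrp_le_vGrp hw)).2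
  rcases hl with ⟨z, h1, k, h2, rfl⟩ | ⟨z, h1, k, h2, z', h3, rfl⟩
  · exact ((hz z h1).mul_right (hk k h2)).eq
  · exact ((((hz z h1).mul_right (hk k h2)).mul_right ht).mul_right (hz z' h3)).eq

omit hQ2 hna hsz in
theorem v_conj_l {v l : G} (hv : v ∈ vGrp a t) (hl : l ∈ lGrp E hrz) : v * l * v⁻¹ ∈ lGrp E hrz := by
  have H := E.hyp
  have hwz : ∀ z ∈ zGrp G a, v * z * v⁻¹ ∈ zGrp G a := fun z hz => conj_zGrp H hv.1.1 hz
  have hwk : ∀ c ∈ kGrp a t, v * c * v⁻¹ ∈ kGrp a t := fun c hc => conj_kGrp H hv.1 hc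
  have hwt : v * t * v⁻¹ = t := by rw [(mem_vGrp.1 hv).2, mul_inv_cancel_right]
  rcases hl with ⟨z, hz, c, hc, rfl⟩ | ⟨z, hz, c, hc, z', hz', rfl⟩
  · rw [← conj_mul]
    exact mul_mem (z_le_lGrp E hrz (hwz z hz)) (k_le_lGrp E hrz (hwk c hc))
  · rw [← conj_mul, ← conj_mul, ← conj_mul, hwt]
    exact mul_mem (mul_mem (mul_mem (z_le_lGrp E hrz (hwz z hz)) (k_le_lGrp E hrz (hwk c hc)))
      (t_mem_lGrp E hrz)) (z_le_lGrp E hrz (hwz z' hz'))

omit hQ2 hna hsz in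
theorem l_inter_v {g : G} (hl : g ∈ lGrp E hrz) (hv : g ∈ vGrp a t) : g = 1 :=
  k_inter_v E.hyp (lGrp_dGrp E hrz hl hv.1) hv

omit hQ2 hna hsz in
/-- An element preserving the orbit of `a` under the cells is a product of an element of the cells and one of
`V`. -/
theorem setwise_lv {g : G} (hg : ∀ c, InB E hrz c → InB E hrz (g • c)) :
    ∃ l ∈ lGrp E hrz, ∃ v ∈ vGrp a t, g = l * v := by
  have H := E.hyp
  obtain ⟨l, hl, hla⟩ := lGrp_trans E hrz (hg a (Or.inl rfl))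
  have h1 : InB E hrz ((l⁻¹ * g) • (t • a)) := by
    rw [mul_smul]
    exact lGrp_b E hrz (inv_mem hl) (hg _ (Or.inr ⟨1, one_mem _, (one_smul G _).symm⟩))
  have h2 : (l⁻¹ * g) • a = a := by rw [mul_smul, ← hla, inv_smul_smul]
  rcases h1 with h1 | ⟨z, hz, h1⟩
  · exact absurd (smul_left_cancel _ (h1.trans h2.symm)) (b_ne H.setup)
  have hd : z⁻¹ * (l⁻¹ * g) ∈ dGrp a t := by
    have hza : z ∈ stabilizer G a := H.setup.le (zGrp_le H hz)
    have hga : l⁻¹ * g ∈ stabilizer G a := mem_stabilizer_iff.2 h2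
    refine ⟨(stabilizer G a).mul_mem ((stabilizer G a).inv_mem hza) hga, mem_stabilizer_iff.2 ?_⟩
    rw [mul_smul, h1, inv_smul_smul]
  obtain ⟨k, hk, v, hv, e⟩ := exists_decomp H hd
  refine ⟨l * z * k, mul_mem (mul_mem hl (z_le_lGrp E hrz hz)) (k_le_lGrp E hrz hk), v, hv, ?_⟩
  calc g = l * z * (z⁻¹ * (l⁻¹ * g)) := by group
    _ = _ := by rw [e]; group

/-- An element commuting with an element of `W` is a product of an element of the cells and one of `V`. -/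
theorem cent_w_lv {w g : G} (hw : w ∈ wGrp a t) (hw1 : w ≠ 1) (hg : g * w = w * g) :
    ∃ l ∈ lGrp E hrz, ∃ v ∈ vGrp a t, g = l * v ∧ v * w = w * v := by
  obtain ⟨l, hl, v, hv, rfl⟩ := setwise_lv E hrz fun c hc => (fix_w E hQ2 hna hsz hrz hw hw1).1 (by
    rw [← mul_smul, ← hg, mul_smul, (fix_w E hQ2 hna hsz hrz hw hw1).2 hc])
  refine ⟨l, hl, v, hv, rfl, mul_left_cancel (a := l) ?_⟩
  rw [← mul_assoc, hg, ← mul_assoc, w_comm_l E hQ2 hna hrz hw hl, mul_assoc]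

/-- No non-identity element of `W` is conjugate to its inverse. -/
theorem w_not_real {w h : G} (hw : w ∈ wGrp a t) (e : h * w * h⁻¹ = w⁻¹) : w = 1 := by
  by_contra hw1
  have H := E.hyp
  have hF := fun {c : Ω} => fix_w E hQ2 hna hsz hrz hw hw1 (c := c)
  obtain ⟨l, hl, v, hv, rfl⟩ := setwise_lv E (g := h) hrz fun c hc => hF.1 (by
    have e' : w * h = h * w⁻¹ := by
      calc w * h = (h * w * h⁻¹)⁻¹ * h := by rw [e, inv_inv]
        _ = _ := by group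
    rw [← mul_smul, e', mul_smul, inv_smul_eq_iff.2 (hF.2 hc).symm])
  have hvw : v * w * v⁻¹ ∈ wGrp a t := by
    refine mem_wGrp.2 ⟨mul_mem (mul_mem hv (wGrp_le_vGrp hw)) (inv_mem hv), fun k hk => ?_⟩
    have hk' : v⁻¹ * k * v⁻¹⁻¹ ∈ kGrp a t := conj_kGrp H (inv_mem hv.1) hk
    have h1 := (mem_wGrp.1 hw).2 _ hk'
    calc k * (v * w * v⁻¹) = v * (v⁻¹ * k * v⁻¹⁻¹ * w) * v⁻¹ := by group
      _ = _ := by rw [h1]; group
  have e' : v * w * v⁻¹ = w⁻¹ := by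
    rw [← e]
    calc v * w * v⁻¹ = v * w * v⁻¹ * (l * l⁻¹) := by rw [mul_inv_cancel, mul_one]
      _ = (v * w * v⁻¹ * l) * l⁻¹ := by group
      _ = l * (v * w * v⁻¹) * l⁻¹ := by rw [w_comm_l E hQ2 hna hrz hvw hl]
      _ = _ := by group
  exact hw1 (eq_one_of_real (odd_vGrp H) hv (wGrp_le_vGrp hw) e')

/-- The cells are semiregular off the orbit of `a`. -/
theorem l_semireg {g : G} (hg : g ∈ lGrp E hrz) {c : Ω} (hc : ¬ InB E hrz c) (h : g • c = c) : g = 1 := by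
  classical
  by_contra hg1
  have H := E.hyp
  haveI := Lie.RankOne.finite_omega H.setup
  obtain ⟨l, hl, hld⟩ := Nat.exists_prime_and_dvd (fun h => hg1 (orderOf_eq_one_iff.1 h) : orderOf g ≠ 1)
  haveI := Fact.mk hl
  set g' := g ^ (orderOf g / l)
  have hlo : orderOf g' = l := orderOf_pow_orderOf_div (orderOf_pos g).ne' hld
  have hgc : g' • c = c := mem_stabilizer_iff.1 (pow_mem (mem_stabilizer_iff.2 h : g ∈ stabilizer G c) _)
  obtain ⟨hl2, hlq, hlK, u, -, hu⟩ := fix_outside_facts E hrz hc (pow_mem hg _) hl hlo hgc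
  have hP : IsPGroup l (Subgroup.zpowers g') := IsPGroup.of_card (n := 1) (by rw [Nat.card_zpowers, hlo, pow_one])
  have hm := hP.card_modEq_card_fixedPoints Ω
  have hΩ : Nat.card Ω ≡ 0 [MOD l] := by
    rw [Lie.RankOne.card_omega H.setup, hsz]
    refine Nat.modEq_zero_iff_dvd.2 (hlq.trans ?_)
    have h3 := (Odd.nat_add_dvd_pow_add_pow (Nat.card (zGrp G a)) 1 (n := 3) ⟨1, rfl⟩)
    rwa [one_pow] at h3
  have hd := Nat.modEq_zero_iff_dvd.1 (hm.symm.trans hΩ)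
  have hne : Nat.card (fixedPoints (Subgroup.zpowers g') Ω) ≠ 0 := by
    haveI : Nonempty (fixedPoints (Subgroup.zpowers g') Ω) := ⟨⟨c, fun y => by
      obtain ⟨y, i, rfl⟩ := y
      exact mem_stabilizer_iff.1 (Subgroup.zpow_mem _ (mem_stabilizer_iff.2 hgc : g' ∈ stabilizer G c) i)⟩⟩
    exact Nat.card_pos.ne'
  have h2 : 1 < Nat.card (fixedPoints (Subgroup.zpowers g') Ω) :=
    lt_of_lt_of_le hl.one_lt (Nat.le_of_dvd (Nat.pos_of_ne_zero hne) hd)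
  obtain ⟨⟨p₁, hp₁⟩, ⟨p₂, hp₂⟩, hne'⟩ := Finite.one_lt_card_iff_nontrivial.1 h2
  obtain ⟨f, hf⟩ := real_conj_w E hu hl hlo hlK (hp₁ ⟨g', Subgroup.mem_zpowers g'⟩)
    (hp₂ ⟨g', Subgroup.mem_zpowers g'⟩) (fun e => hne' (Subtype.ext e))
  have := w_not_real E hQ2 hna hsz hrz hf (h := f * u * f⁻¹) (by
    rw [show f * u * f⁻¹ * (f * g' * f⁻¹) * (f * u * f⁻¹)⁻¹ = f * (u * g' * u⁻¹) * f⁻¹ by group, hu]
    group)
  rw [conj_eq_one_iff] at this
  rw [show g' = 1 from this, orderOf_one] at hlo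
  exact hl.one_lt.ne hlo

/-- The cells are transitive off the orbit of `a`. -/
theorem l_trans {c p : Ω} (hc : ¬ InB E hrz c) (hp : ¬ InB E hrz p) : ∃ l ∈ lGrp E hrz, l • c = p := by
  classical
  have H := E.hyp
  haveI := Lie.RankOne.finite_omega H.setup
  let f : lGrp E hrz → {d : Ω // ¬ InB E hrz d} := fun g => ⟨(g : G) • c, fun h => hc (by
    have := lGrp_b E hrz (inv_mem g.2) h
    rwa [inv_smul_smul] at this)⟩
  have hinj : Function.Injective f := fun g g' h => Subtype.ext (inv_mul_eq_one.1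
    (l_semireg E hQ2 hna hsz hrz (mul_mem (inv_mem g.2) g'.2) hc (by
      rw [mul_smul, ← show (g : G) • c = (g' : G) • c from congrArg Subtype.val h, inv_smul_smul])))
  have hB : Nat.card {d : Ω // InB E hrz d} = Nat.card (zGrp G a) + 1 := by
    let e : Option (zGrp G a) → {d : Ω // InB E hrz d} := fun o =>
      o.elim ⟨a, Or.inl rfl⟩ fun z => ⟨(z : G) • (t • a), Or.inr ⟨z, z.2, rfl⟩⟩
    have he : Function.Bijective e := by
      refine ⟨?_, fun d => ?_⟩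
      · rintro (_ | z) (_ | z') h
        · rfl
        · exact absurd (congrArg Subtype.val h).symm
            (Lie.RankOne.ne_of_q_smul H.setup (zGrp_le H z'.2) (b_ne H.setup))
        · exact absurd (congrArg Subtype.val h)
            (Lie.RankOne.ne_of_q_smul H.setup (zGrp_le H z.2) (b_ne H.setup))
        · exact congrArg some (Subtype.ext (q_unique H.setup (zGrp_le H z.2) (zGrp_le H z'.2)
            (congrArg Subtype.val h)))
      · obtain ⟨d, rfl | ⟨z, hz, rfl⟩⟩ := d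
        · exact ⟨none, rfl⟩
        · exact ⟨some ⟨z, hz⟩, rfl⟩
    rw [← Nat.card_congr (Equiv.ofBijective e he), Finite.card_option]
  have hsum : Nat.card {d : Ω // InB E hrz d} + Nat.card {d : Ω // ¬ InB E hrz d} = Nat.card Ω := by
    rw [← Nat.card_sum]; exact Nat.card_congr (Equiv.sumCompl _)
  rw [hB, Lie.RankOne.card_omega H.setup, hsz] at hsum
  have hcard : Nat.card (lGrp E hrz) = Nat.card {d : Ω // ¬ InB E hrz d} := by
    rw [card_lGrp E hrz]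
    have hK := card_kGrp H
    generalize Nat.card (kGrp a t) = e at hK ⊢
    rw [← hK] at hsum ⊢
    rw [show (e + 1) ^ 3 = (e + 1) * e * (1 + (e + 1)) + (e + 1) by ring] at hsum
    omega
  obtain ⟨g, hg⟩ := ((Nat.bijective_iff_injective_and_card f).2 ⟨hinj, hcard⟩).2 ⟨p, hp⟩
  exact ⟨g, g.2, congrArg Subtype.val hg⟩

theorem exists_outside : ∃ c : Ω, ¬ InB E hrz c := by
  by_contra hcon
  push Not at hcon
  have H := E.hyp
  haveI := Lie.RankOne.finite_omega H.setup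
  have hsurj : Function.Surjective fun o : Option (zGrp G a) => o.elim a fun z => (z : G) • (t • a) := fun c => by
    rcases hcon c with rfl | ⟨z, hz, rfl⟩
    · exact ⟨none, rfl⟩
    · exact ⟨some ⟨z, hz⟩, rfl⟩
  have h1 := Nat.card_le_card_of_surjective _ hsurj
  rw [Lie.RankOne.card_omega H.setup, hsz, Finite.card_option] at h1
  have h4 := four_le_q H
  have h2 := Nat.pow_le_pow_right (show 0 < Nat.card (zGrp G a) by omega) (show 2 ≤ 3 by norm_num)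
  nlinarith

end Cfsg.Agent.Transfer.RankOne
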