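import Cfsg.Agent.Lib.Transfer.RankOne.SylowFacts
import Cfsg.Agent.Lib.Transfer.RankOne.Struct

/-!
A nonabelian `2`-group `Q`: commutators and squares lie in `Z₀`; when `|Q| = q ^ 2`, `K` is transitive on the
non-trivial cosets of `Z₀` and `Z₀` is the centre.
-/

set_option autoImplicit false
set_option linter.unusedSectionVars false
set_option linter.style.haveILetI false

namespace Cfsg.Agent.Transfer.RankOne

open MulAction

universe u v

variable {G : Type u} {Ω : Type v} [Group G] [MulAction G Ω] [Finite G] [FaithfulSMul G Ω]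
  {a : Ω} {t : G} {Q : Subgroup G}

theorem q_shape (H : Hyp G Ω a t Q) (hQ2 : IsPGroup 2 Q) (hna : ∃ x ∈ Q, ∃ y ∈ Q, x * y ≠ y * x) :
    (∀ x ∈ Q, ∀ y ∈ Q, x⁻¹ * y⁻¹ * x * y ∈ zGrp G a) ∧ ∀ x ∈ Q, x * x ∈ zGrp G a := by
  haveI : Group.IsNilpotent Q := Lie.RankOne.nilpotent_Q H.setup H.two
  obtain ⟨S, O, P, hmap⟩ := exists_split (Q := Q) inferInstance
  have hSQ : S = Q := le_antisymm P.s_le fun q hq => P.mem_s_iff.2 ⟨hq, by
    obtain ⟨j, hj⟩ := hQ2 ⟨q, hq⟩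
    exact ⟨j, congrArg Subtype.val hj⟩⟩
  subst hSQ
  rcases sylow_shape H P hmap with hab | ⟨-, h1, h2, -, -⟩
  · obtain ⟨x, hx, y, hy, hne⟩ := hna
    exact absurd (hab x hx y hy) hne
  · exact ⟨h1, h2⟩

/-- An element of `K` fixing a coset of `Z₀` fixes no other than the trivial one. -/
theorem k_coset_fpf (H : Hyp G Ω a t Q) {k x : G} (hk : k ∈ kGrp a t) (hk1 : k ≠ 1) (hx : x ∈ Q)
    (h : x⁻¹ * (k * x * k⁻¹) ∈ zGrp G a) : x ∈ zGrp G a := by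
  let f : zGrp G a → zGrp G a := fun y => ⟨(y : G)⁻¹ * (k * y * k⁻¹), mul_mem (inv_mem y.2)
    (conj_zGrp H (kGrp_le_dGrp H hk).1 y.2)⟩
  have hf : Function.Bijective f := Finite.injective_iff_bijective.1 fun y y' hy => by
    have hy' : (y : G)⁻¹ * (k * y * k⁻¹) = (y' : G)⁻¹ * (k * y' * k⁻¹) := congrArg Subtype.val hy
    have hcom : k * ((y : G) * (y' : G)⁻¹) = (y : G) * (y' : G)⁻¹ * k := by
      calc k * ((y : G) * (y' : G)⁻¹) = (y : G) * ((y : G)⁻¹ * (k * y * k⁻¹)) * k * (y' : G)⁻¹ := by group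
        _ = (y : G) * ((y' : G)⁻¹ * (k * y' * k⁻¹)) * k * (y' : G)⁻¹ := by rw [hy']
        _ = _ := by group
    exact Subtype.ext (mul_inv_eq_one.1
      (kGrp_fpf H hk hk1 (zGrp_le H (mul_mem y.2 (inv_mem y'.2))) hcom))
  obtain ⟨z, hz⟩ := hf.2 ⟨_, inv_mem h⟩
  have hz' : (z : G)⁻¹ * (k * z * k⁻¹) = (x⁻¹ * (k * x * k⁻¹))⁻¹ := congrArg Subtype.val hz
  have hcom : k * (x * (z : G)) = x * (z : G) * k := by
    calc k * (x * (z : G)) = x * (x⁻¹ * (k * x * k⁻¹)) * ((z : G) * ((z : G)⁻¹ * (k * z * k⁻¹))) * k := by group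
      _ = x * ((x⁻¹ * (k * x * k⁻¹)) * (z : G)) * (x⁻¹ * (k * x * k⁻¹))⁻¹ * k := by rw [hz']; group
      _ = x * ((z : G) * (x⁻¹ * (k * x * k⁻¹))) * (x⁻¹ * (k * x * k⁻¹))⁻¹ * k := by
        rw [zGrp_central H z.2 (zGrp_le H h)]
      _ = _ := by group
  have h1 := kGrp_fpf H hk hk1 (mul_mem hx (zGrp_le H z.2)) hcom
  rw [mul_eq_one_iff_eq_inv] at h1
  rw [h1]
  exact inv_mem z.2

section Square

variable (H : Hyp G Ω a t Q) (hsz : Nat.card Q = Nat.card (zGrp G a) ^ 2)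
include H hsz

theorem exists_k_coset {x y : G} (hx : x ∈ Q) (hxz : x ∉ zGrp G a) (hy : y ∈ Q) (hyz : y ∉ zGrp G a) :
    ∃ k ∈ kGrp a t, ∃ z ∈ zGrp G a, y = k * x * k⁻¹ * z := by
  classical
  let f : kGrp a t × zGrp G a → {u : Q // (u : G) ∉ zGrp G a} := fun p =>
    ⟨⟨(p.1 : G) * x * (p.1 : G)⁻¹ * p.2, mul_mem (H.setup.conj_mem _ (kGrp_le_dGrp H p.1.2).1 x hx)
      (zGrp_le H p.2.2)⟩, fun h => hxz (by
        have h1 : (p.1 : G) * x * (p.1 : G)⁻¹ ∈ zGrp G a := (mul_mem_cancel_right p.2.2).1 h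
        have h2 := conj_zGrp H (kGrp_le_dGrp H (inv_mem p.1.2)).1 h1
        rwa [show (p.1 : G)⁻¹ * ((p.1 : G) * x * (p.1 : G)⁻¹) * ((p.1 : G)⁻¹)⁻¹ = x by group] at h2)⟩
  have hinj : Function.Injective f := by
    rintro ⟨k, z⟩ ⟨k', z'⟩ h
    have h' : (k : G) * x * (k : G)⁻¹ * z = (k' : G) * x * (k' : G)⁻¹ * z' :=
      congrArg (fun u : {u : Q // (u : G) ∉ zGrp G a} => ((u : Q) : G)) h
    have hkk : k' = k := by
      by_contra hne
      set c := (k : G)⁻¹ * k' with hc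
      have hcK : c ∈ kGrp a t := mul_mem (inv_mem k.2) k'.2
      have hc1 : c ≠ 1 := fun e => hne (Subtype.ext (inv_mul_eq_one.1 e).symm)
      refine hxz (k_coset_fpf H hcK hc1 hx ?_)
      have hzz : (k : G)⁻¹ * ((z : G) * (z' : G)⁻¹) * k ∈ zGrp G a := by
        have := conj_zGrp H (kGrp_le_dGrp H (inv_mem k.2)).1 (mul_mem z.2 (inv_mem z'.2))
        rwa [inv_inv] at this
      convert hzz using 1
      calc x⁻¹ * (c * x * c⁻¹) = x⁻¹ * ((k : G)⁻¹ * ((k' : G) * x * (k' : G)⁻¹ * z') * (z' : G)⁻¹ * k) := by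
            rw [hc]; group
        _ = x⁻¹ * ((k : G)⁻¹ * ((k : G) * x * (k : G)⁻¹ * z) * (z' : G)⁻¹ * k) := by rw [h']
        _ = _ := by group
    subst hkk
    exact Prod.ext rfl (Subtype.ext (mul_left_cancel h'))
  have hcard : Nat.card {u : Q // (u : G) ∉ zGrp G a} = Nat.card (kGrp a t × zGrp G a) := by
    have h1 : Nat.card {u : Q // (u : G) ∈ zGrp G a} = Nat.card (zGrp G a) := Nat.card_congr
      { toFun := fun u => ⟨(u.1 : G), u.2⟩
        invFun := fun z => ⟨⟨z.1, zGrp_le H z.2⟩, z.2⟩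
        left_inv := fun _ => rfl
        right_inv := fun _ => rfl }
    have h2 : Nat.card {u : Q // (u : G) ∈ zGrp G a} + Nat.card {u : Q // (u : G) ∉ zGrp G a} = Nat.card Q := by
      rw [← Nat.card_sum]; exact Nat.card_congr (Equiv.sumCompl _)
    rw [h1, hsz] at h2
    rw [Nat.card_prod]
    have h3 := card_kGrp H
    generalize Nat.card (kGrp a t) = e at h3 ⊢
    rw [← h3] at h2 ⊢
    rw [show (e + 1) ^ 2 = (e + 1) + e * (e + 1) by ring] at h2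
    omega
  obtain ⟨⟨k, z⟩, hkz⟩ := ((Nat.bijective_iff_injective_and_card f).2 ⟨hinj, hcard.symm⟩).2 ⟨⟨y, hy⟩, hyz⟩
  exact ⟨k, k.2, z, z.2, (congrArg (fun u : {u : Q // (u : G) ∉ zGrp G a} => ((u : Q) : G)) hkz).symm⟩

theorem center_iff (hna : ∃ x ∈ Q, ∃ y ∈ Q, x * y ≠ y * x) {c : G} (hc : c ∈ Q) :
    (∀ y ∈ Q, y * c = c * y) ↔ c ∈ zGrp G a := by
  refine ⟨fun h => ?_, fun h y hy => (zGrp_central H h hy).symm⟩
  by_contra hcz
  have hall : ∀ x ∈ Q, ∀ y ∈ Q, y * x = x * y := by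
    intro x hx y hy
    by_cases hxz : x ∈ zGrp G a
    · exact (zGrp_central H hxz hy).symm
    obtain ⟨k, hk, z, hz, rfl⟩ := exists_k_coset H hsz hc hcz hx hxz
    have hka := (kGrp_le_dGrp H hk).1
    have h1 := h _ (H.setup.conj_mem k⁻¹ (inv_mem hka) y hy)
    have h2 : Commute y (k * c * k⁻¹) := by
      show y * (k * c * k⁻¹) = k * c * k⁻¹ * y
      calc y * (k * c * k⁻¹) = k * ((k⁻¹ * y * k⁻¹⁻¹) * c) * k⁻¹ := by group
        _ = k * (c * (k⁻¹ * y * k⁻¹⁻¹)) * k⁻¹ := by rw [h1]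
        _ = _ := by group
    exact (h2.mul_right (zGrp_central H hz hy).symm).eq
  obtain ⟨x, hx, y, hy, hne⟩ := hna
  exact hne (hall y hy x hx)

/-- An element of `Q` outside `Z₀` is determined modulo `Z₀` by its square. -/
theorem coset_of_sq (hQ2 : IsPGroup 2 Q) (hna : ∃ x ∈ Q, ∃ y ∈ Q, x * y ≠ y * x) {x y : G} (hx : x ∈ Q)
    (hxz : x ∉ zGrp G a) (hy : y ∈ Q) (hyz : y ∉ zGrp G a) (e : x * x = y * y) : x⁻¹ * y ∈ zGrp G a := by
  obtain ⟨k, hk, z, hz, rfl⟩ := exists_k_coset H hsz hx hxz hy hyz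
  have hc : Commute (k * x * k⁻¹) z :=
    (zGrp_central H hz (H.setup.conj_mem k (kGrp_le_dGrp H hk).1 x hx)).symm
  have hx2 : x * x ≠ 1 := fun h => hxz ((mem_zGrp' H).2 ⟨hx, h⟩)
  have h1 : k * (x * x) * k⁻¹ = x * x := by
    rw [show k * x * k⁻¹ * z * (k * x * k⁻¹ * z) = k * x * k⁻¹ * (z * (k * x * k⁻¹)) * z by group, ← hc.eq,
      show k * x * k⁻¹ * (k * x * k⁻¹ * z) * z = k * (x * x) * k⁻¹ * (z * z) by group, ((mem_zGrp H).1 hz).2,
      mul_one] at e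
    exact e.symm
  have hk1 : k = 1 := by
    by_contra hk1
    exact hx2 (kGrp_fpf H hk hk1 (zGrp_le H ((q_shape H hQ2 hna).2 x hx)) (mul_inv_eq_iff_eq_mul.1 h1))
  rw [hk1, one_mul, inv_one, mul_one, inv_mul_cancel_left]
  exact hz

end Square

end Cfsg.Agent.Transfer.RankOne
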