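import Cfsg.Agent.Lib.Lie.RankOneStructure
import Cfsg.Agent.Lib.Char.RankOneInverted

/-!
The rank-one set-up with two commuting involutions: the subgroups `K`, `Z₀`, `V`, `W` of a two-point stabiliser
and their first properties.
-/

set_option autoImplicit false
set_option linter.unusedSectionVars false

namespace Cfsg.Agent.Transfer.RankOne

open MulAction
open Cfsg.Agent.Lie.RankOne (b_ne q_fix q_b q_unique exists_qd exists_q semireg invol_mem_Q fix_unique
  fix_unique' t_smul_b inv_t)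

universe u v

variable {G : Type u} {Ω : Type v} [Group G] [MulAction G Ω]

/-- The rank-one set-up together with two commuting involutions. -/
structure Hyp (G : Type u) (Ω : Type v) [Group G] [MulAction G Ω] (a : Ω) (t : G) (Q : Subgroup G) : Prop where
  setup : Cfsg.IsRankOneSetup G Ω a t Q
  two : ∃ x y : G, x ≠ 1 ∧ y ≠ 1 ∧ x ≠ y ∧ x * x = 1 ∧ y * y = 1 ∧ x * y = y * x

/-- The two-point stabiliser. -/
abbrev dGrp (a : Ω) (t : G) : Subgroup G := stabilizer G a ⊓ stabilizer G (t • a)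

/-- The group generated by the elements of the two-point stabiliser inverted by `t`. -/
def kGrp (a : Ω) (t : G) : Subgroup G := Subgroup.closure (Cfsg.invertedBy (dGrp a t) t)

/-- The group generated by the involutions fixing `a`. -/
def zGrp (G : Type u) [Group G] [MulAction G Ω] (a : Ω) : Subgroup G :=
  Subgroup.closure (Cfsg.involutionsIn (stabilizer G a : Set G))

/-- The centraliser of `t` in the two-point stabiliser. -/
def vGrp (a : Ω) (t : G) : Subgroup G := dGrp a t ⊓ Subgroup.centralizer {t}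

/-- The centraliser of `K` in `V`. -/
def wGrp (a : Ω) (t : G) : Subgroup G := vGrp a t ⊓ Subgroup.centralizer (kGrp a t : Set G)

variable {a : Ω} {t : G} {Q : Subgroup G}

theorem mem_vGrp {x : G} : x ∈ vGrp a t ↔ x ∈ dGrp a t ∧ x * t = t * x := by
  rw [vGrp, Subgroup.mem_inf, Subgroup.mem_centralizer_singleton_iff]

theorem mem_wGrp {x : G} : x ∈ wGrp a t ↔ x ∈ vGrp a t ∧ ∀ k ∈ kGrp a t, k * x = x * k := by
  rw [wGrp, Subgroup.mem_inf, Subgroup.mem_centralizer_iff]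
  rfl

theorem vGrp_le_dGrp : vGrp a t ≤ dGrp a t := inf_le_left

theorem wGrp_le_vGrp : wGrp a t ≤ vGrp a t := inf_le_left

theorem conj_invol_mem {g z : G} (hg : g ∈ stabilizer G a)
    (hz : z ∈ Cfsg.involutionsIn (stabilizer G a : Set G)) :
    g * z * g⁻¹ ∈ Cfsg.involutionsIn (stabilizer G a : Set G) := by
  refine ⟨mul_mem (mul_mem hg hz.1) (inv_mem hg), fun h => hz.2.1 (conj_eq_one_iff.1 h), ?_⟩
  calc g * z * g⁻¹ * (g * z * g⁻¹) = g * (z * z) * g⁻¹ := by group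
    _ = 1 := by rw [hz.2.2]; group

section
variable [Finite G] [FaithfulSMul G Ω] (H : Hyp G Ω a t Q)
include H

theorem Hyp.finite_omega : Finite Ω := Lie.RankOne.finite_omega H.setup

theorem exists_k_gen : ∃ k₀ : G, k₀ ∈ Cfsg.invertedBy (dGrp a t) t ∧ kGrp a t = Subgroup.zpowers k₀ := by
  obtain ⟨k₀, hk₀, hK⟩ := Char.RankOne.inverted_cyclic H.setup H.two
  refine ⟨k₀, hk₀, le_antisymm ((Subgroup.closure_le _).2 fun k hk => (hK k).1 hk) ?_⟩
  exact Subgroup.zpowers_le.2 (Subgroup.subset_closure hk₀)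

theorem mem_kGrp {k : G} : k ∈ kGrp a t ↔ k ∈ Cfsg.invertedBy (dGrp a t) t := by
  obtain ⟨k₀, -, hK⟩ := Char.RankOne.inverted_cyclic H.setup H.two
  refine ⟨fun h => (hK k).2 ?_, fun h => Subgroup.subset_closure h⟩
  exact (Subgroup.closure_le _).2 (fun x hx => (hK x).1 hx) h

theorem kGrp_le_dGrp : kGrp a t ≤ dGrp a t := fun _ h => ((mem_kGrp H).1 h).1

theorem t_k {k : G} (hk : k ∈ kGrp a t) : t * k * t = k⁻¹ := by
  have h := ((mem_kGrp H).1 hk).2
  rwa [inv_t H.setup] at h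

theorem kGrp_comm {k k' : G} (hk : k ∈ kGrp a t) (hk' : k' ∈ kGrp a t) : k * k' = k' * k := by
  obtain ⟨k₀, -, e⟩ := exists_k_gen H
  rw [e] at hk hk'
  obtain ⟨i, rfl⟩ := Subgroup.mem_zpowers_iff.1 hk
  obtain ⟨j, rfl⟩ := Subgroup.mem_zpowers_iff.1 hk'
  exact (Commute.refl k₀).zpow_zpow i j

theorem t_v {x : G} (hx : x ∈ vGrp a t) : t * x * t = x := by
  rw [← (mem_vGrp.1 hx).2, mul_assoc, H.setup.mul_self, mul_one]

theorem mem_zGrp {z : G} : z ∈ zGrp G a ↔ z ∈ stabilizer G a ∧ z * z = 1 := by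
  constructor
  · intro h
    exact (Subgroup.closure_le (Char.RankOne.zInvol H.setup H.two)).2 (fun x hx => ⟨hx.1, hx.2.2⟩) h
  · rintro ⟨h1, h2⟩
    by_cases h : z = 1
    · rw [h]; exact one_mem _
    · exact Subgroup.subset_closure ⟨h1, h, h2⟩

theorem mem_zGrp_ne {z : G} (hz : z ∈ zGrp G a) (h : z ≠ 1) :
    z ∈ Cfsg.involutionsIn (stabilizer G a : Set G) :=
  ⟨((mem_zGrp H).1 hz).1, h, ((mem_zGrp H).1 hz).2⟩

theorem zGrp_le : zGrp G a ≤ Q := fun _ hz =>
  invol_mem_Q H.setup ((mem_zGrp H).1 hz).1 ((mem_zGrp H).1 hz).2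

theorem zGrp_central {z x : G} (hz : z ∈ zGrp G a) (hx : x ∈ Q) : z * x = x * z := by
  by_cases h : z = 1
  · simp [h]
  · exact Lie.RankOne.involutions_central H.setup H.two z (mem_zGrp_ne H hz h) x hx

theorem conj_zGrp {g z : G} (hg : g ∈ stabilizer G a) (hz : z ∈ zGrp G a) :
    g * z * g⁻¹ ∈ zGrp G a := by
  by_cases h : z = 1
  · simp [h]
  · exact Subgroup.subset_closure (conj_invol_mem hg (mem_zGrp_ne H hz h))

theorem card_zGrp : Nat.card (zGrp G a) = Nat.card (Cfsg.involutionsIn (stabilizer G a : Set G)) + 1 := by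
  classical
  have e : {z : zGrp G a // z ≠ 1} ≃ Cfsg.involutionsIn (stabilizer G a : Set G) :=
    { toFun := fun z => ⟨z.1, mem_zGrp_ne H z.1.2 fun h => z.2 (Subtype.ext h)⟩
      invFun := fun s => ⟨⟨s.1, Subgroup.subset_closure s.2⟩, fun h => s.2.2.1 (congrArg Subtype.val h)⟩
      left_inv := fun _ => rfl
      right_inv := fun _ => rfl }
  rw [← Nat.card_congr (Equiv.optionSubtypeNe (1 : zGrp G a)), Finite.card_option, Nat.card_congr e]

theorem card_kGrp : Nat.card (kGrp a t) + 1 = Nat.card (zGrp G a) := by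
  rw [card_zGrp H, ← Lie.RankOne.card_inverted H.setup]
  congr 1
  exact Nat.card_congr (Equiv.subtypeEquivRight fun k => mem_kGrp H)

theorem isPGroup_zGrp : IsPGroup 2 (zGrp G a) := fun z =>
  ⟨1, Subtype.ext (by rw [pow_one, pow_two]; exact ((mem_zGrp H).1 z.2).2)⟩

theorem exists_card_zGrp : ∃ n : ℕ, 2 ≤ n ∧ Nat.card (zGrp G a) = 2 ^ n := by
  haveI : Fact (Nat.Prime 2) := ⟨Nat.prime_two⟩
  obtain ⟨n, hn⟩ := (isPGroup_zGrp H).exists_card_eq
  obtain ⟨s, s', hs, hs', hne⟩ := Lie.RankOne.exists_two_involutions H.setup H.two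
  haveI : Nontrivial (Cfsg.involutionsIn (stabilizer G a : Set G)) :=
    ⟨⟨⟨s, hs⟩, ⟨s', hs'⟩, fun h => hne (congrArg Subtype.val h)⟩⟩
  have h3 : 1 < Nat.card (Cfsg.involutionsIn (stabilizer G a : Set G)) := Finite.one_lt_card
  refine ⟨n, ?_, hn⟩
  rw [card_zGrp H] at hn
  by_contra hcon
  have : n = 0 ∨ n = 1 := by omega
  rcases this with rfl | rfl <;> omega

theorem four_le_q : 4 ≤ Nat.card (zGrp G a) := by
  obtain ⟨n, hn, e⟩ := exists_card_zGrp H
  rw [e]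
  calc 4 = 2 ^ 2 := rfl
    _ ≤ 2 ^ n := Nat.pow_le_pow_right (by norm_num) hn

theorem exists_k_conj {s s' : G} (hs : s ∈ Cfsg.involutionsIn (stabilizer G a : Set G))
    (hs' : s' ∈ Cfsg.involutionsIn (stabilizer G a : Set G)) : ∃ k ∈ kGrp a t, k * s * k⁻¹ = s' := by
  obtain ⟨k, hk, e⟩ := Char.RankOne.inverted_trans H.setup (x := s) (y := s') hs hs'
  exact ⟨k, (mem_kGrp H).2 hk, e⟩

theorem kGrp_fpf {k x : G} (hk : k ∈ kGrp a t) (hk1 : k ≠ 1) (hx : x ∈ Q) (h : k * x = x * k) :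
    x = 1 := by
  have := Lie.RankOne.inverted_fpf H.setup ((mem_kGrp H).1 hk) hk1
  exact Subgroup.mem_bot.1 (this ▸ Subgroup.mem_inf.2 ⟨hx, Subgroup.mem_centralizer_singleton_iff.2 h.symm⟩)

/-- An element of `D` centralising a non-identity element of `Q` fixes a third point, and conversely. -/
theorem fix_q_iff {d x : G} (hd : d ∈ dGrp a t) (hx : x ∈ Q) :
    d • (x • (t • a)) = x • (t • a) ↔ d * x = x * d := by
  constructor
  · intro h
    have h1 : d * x * d⁻¹ = x := q_unique H.setup (H.setup.conj_mem d hd.1 x hx) hx (by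
      rw [mul_smul, mul_smul, mem_stabilizer_iff.1 (inv_mem hd.2), h])
    exact mul_inv_eq_iff_eq_mul.1 h1
  · intro h
    rw [← mul_smul, h, mul_smul, mem_stabilizer_iff.1 hd.2]

theorem k_fix_third {k : G} (hk : k ∈ kGrp a t) {c : Ω} (hc : c ≠ a) (hcb : c ≠ t • a) (h : k • c = c) :
    k = 1 := by
  obtain ⟨x, hx, rfl⟩ := exists_q H.setup hc
  by_contra hk1
  have := kGrp_fpf H hk hk1 hx ((fix_q_iff H (kGrp_le_dGrp H hk) hx).1 h)
  exact hcb (by rw [this, one_smul])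

theorem exists_dist : ∃ s r : G, s ∈ Cfsg.involutionsIn (stabilizer G a : Set G) ∧ r ∈ Q ∧ r ≠ 1 ∧
    t * s * t = r⁻¹ * t * r ∧ t • (r • (t • a)) = r • (t • a) := by
  obtain ⟨⟨s, r⟩, ⟨hs, hr, e⟩, -⟩ := Lie.RankOne.distinguished H.setup
  refine ⟨s, r, hs, hr, fun h => ?_, e, ?_⟩
  · rw [h, inv_one, one_mul, mul_one] at e
    have h1 : s = t := by
      rw [← Lie.RankOne.tt H.setup s, e, H.setup.mul_self, one_mul]
    exact H.setup.not_mem (h1 ▸ hs.1)
  · have h2 : (r⁻¹ * t * r) • (t • a) = t • a := by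
      rw [← e, mul_smul, mul_smul, t_smul_b H.setup, mem_stabilizer_iff.1 hs.1]
    rwa [mul_smul, mul_smul, inv_smul_eq_iff] at h2

theorem v_dist {s r d : G} (hs : s ∈ Cfsg.involutionsIn (stabilizer G a : Set G)) (hr : r ∈ Q)
    (e : t * s * t = r⁻¹ * t * r) (hd : d ∈ dGrp a t) :
    d ∈ vGrp a t ↔ s * d = d * s := by
  rw [mem_vGrp, ← Lie.RankOne.centralizer_distinguished H.setup hs hr e hd]
  exact ⟨fun h => h.2.symm, fun h => ⟨hd, h.symm⟩⟩

theorem v_comm_r {r : G} (hr : r ∈ Q) (h : t • (r • (t • a)) = r • (t • a)) {d : G}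
    (hd : d ∈ vGrp a t) : d * r = r * d := by
  refine (fix_q_iff H hd.1 hr).1 ?_
  refine fix_unique' H.setup H.setup.ne_one H.setup.mul_self ?_ h
  rw [← mul_smul, ← (mem_vGrp.1 hd).2, mul_smul, h]

theorem exists_decomp {d : G} (hd : d ∈ dGrp a t) : ∃ k ∈ kGrp a t, ∃ x ∈ vGrp a t, d = k * x := by
  obtain ⟨s, r, hs, hr, -, e, -⟩ := exists_dist H
  obtain ⟨k, hk, hks⟩ := exists_k_conj H hs (conj_invol_mem hd.1 hs)
  have hkD := kGrp_le_dGrp H hk
  refine ⟨k, hk, k⁻¹ * d, (v_dist H hs hr e (mul_mem (inv_mem hkD) hd)).2 ?_, by group⟩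
  calc s * (k⁻¹ * d) = k⁻¹ * (k * s * k⁻¹) * d := by group
    _ = k⁻¹ * d * s := by rw [hks]; group

theorem k_inter_v {k : G} (hk : k ∈ kGrp a t) (hv : k ∈ vGrp a t) : k = 1 := by
  have h := t_k H hk
  rw [t_v H hv] at h
  exact Lie.RankOne.eq_one_of_sq H.setup.odd_card hv.1 (eq_inv_iff_mul_eq_one.1 h)

theorem decomp_unique {k k' x x' : G} (hk : k ∈ kGrp a t) (hk' : k' ∈ kGrp a t) (hx : x ∈ vGrp a t)
    (hx' : x' ∈ vGrp a t) (e : k * x = k' * x') : k = k' ∧ x = x' := by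
  have e' : k'⁻¹ * k = x' * x⁻¹ := by
    calc k'⁻¹ * k = k'⁻¹ * (k * x) * x⁻¹ := by group
      _ = _ := by rw [e]; group
  have h1 := k_inter_v H (mul_mem (inv_mem hk') hk) (e' ▸ mul_mem hx' (inv_mem hx))
  rw [inv_mul_eq_one] at h1
  subst h1
  exact ⟨rfl, mul_left_cancel e⟩

theorem card_dGrp : Nat.card (dGrp a t) = Nat.card (kGrp a t) * Nat.card (vGrp a t) := by
  rw [← Nat.card_prod]
  refine (Nat.card_congr (Equiv.ofBijective (fun p : kGrp a t × vGrp a t =>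
    (⟨p.1 * p.2, mul_mem (kGrp_le_dGrp H p.1.2) (vGrp_le_dGrp p.2.2)⟩ : dGrp a t))
    ⟨fun p p' h => ?_, fun d => ?_⟩)).symm
  · obtain ⟨h1, h2⟩ := decomp_unique H p.1.2 p'.1.2 p.2.2 p'.2.2 (congrArg Subtype.val h)
    exact Prod.ext (Subtype.ext h1) (Subtype.ext h2)
  · obtain ⟨k, hk, x, hx, e⟩ := exists_decomp H d.2
    exact ⟨(⟨k, hk⟩, ⟨x, hx⟩), Subtype.ext e.symm⟩

theorem odd_vGrp : Odd (Nat.card (vGrp a t)) :=
  (H.setup.odd_card).of_dvd_nat (Subgroup.card_dvd_of_le vGrp_le_dGrp)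

theorem conj_kGrp {d k : G} (hd : d ∈ dGrp a t) (hk : k ∈ kGrp a t) : d * k * d⁻¹ ∈ kGrp a t := by
  obtain ⟨k₁, hk₁, x, hx, rfl⟩ := exists_decomp H hd
  have h1 : x * k * x⁻¹ ∈ kGrp a t := by
    refine (mem_kGrp H).2 ⟨mul_mem (mul_mem hx.1 (kGrp_le_dGrp H hk)) (inv_mem hx.1), ?_⟩
    rw [inv_t H.setup]
    calc t * (x * k * x⁻¹) * t = (t * x * t) * (t * k * t) * (t * x⁻¹ * t) := by
          rw [show (t * x * t) * (t * k * t) * (t * x⁻¹ * t) =
            t * x * (t * t) * k * (t * t) * x⁻¹ * t by group, H.setup.mul_self]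
          group
      _ = (x * k * x⁻¹)⁻¹ := by rw [t_v H hx, t_k H hk, t_v H (inv_mem hx)]; group
  have e : k₁ * x * k * (k₁ * x)⁻¹ = k₁ * (x * k * x⁻¹) * k₁⁻¹ := by group
  rw [e]
  exact mul_mem (mul_mem hk₁ h1) (inv_mem hk₁)

/-- The stabiliser of `a`, `t • a` and the fixed point of `t` is `V`. -/
theorem fix_three_iff {r d : G} (hr : r ∈ Q) (hr1 : r ≠ 1) (hrt : t • (r • (t • a)) = r • (t • a))
    (hd : d ∈ dGrp a t) : d • (r • (t • a)) = r • (t • a) ↔ d ∈ vGrp a t := by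
  constructor
  · intro h
    obtain ⟨k, hk, x, hx, rfl⟩ := exists_decomp H hd
    rw [mul_smul, (fix_q_iff H hx.1 hr).2 (v_comm_r H hr hrt hx)] at h
    have hk1 : k = 1 := by
      by_contra hne
      exact hr1 (kGrp_fpf H hk hne hr ((fix_q_iff H (kGrp_le_dGrp H hk) hr).1 h))
    rw [hk1, one_mul]; exact hx
  · exact fun h => (fix_q_iff H hd hr).2 (v_comm_r H hr hrt h)

/-- The centraliser of the distinguished involution. -/
theorem centralizer_dist {s r : G} (hs : s ∈ Cfsg.involutionsIn (stabilizer G a : Set G)) (hr : r ∈ Q)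
    (e : t * s * t = r⁻¹ * t * r) {g : G} :
    g ∈ Subgroup.centralizer {s} ↔ ∃ x ∈ Q, ∃ d ∈ vGrp a t, g = x * d := by
  rw [Subgroup.mem_centralizer_singleton_iff]
  have hsQ := invol_mem_Q H.setup hs.1 hs.2.2
  have hz : s ∈ zGrp G a := Subgroup.subset_closure hs
  constructor
  · intro h
    have hga : g ∈ stabilizer G a := mem_stabilizer_iff.2 (fix_unique H.setup hs.1 hs.2.1 hs.2.2
      (by rw [← mul_smul, ← h, mul_smul, mem_stabilizer_iff.1 hs.1]))
    obtain ⟨x, hx, d, hd, rfl⟩ := exists_qd H.setup hga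
    refine ⟨x, hx, d, (v_dist H hs hr e hd).2 (mul_left_cancel (a := x) ?_), rfl⟩
    rw [← mul_assoc, ← zGrp_central H hz hx, mul_assoc, ← h]
    group
  · rintro ⟨x, hx, d, hd, rfl⟩
    rw [mul_assoc, ← (v_dist H hs hr e hd.1).1 hd, ← mul_assoc, ← zGrp_central H hz hx, mul_assoc]

theorem card_centralizer_dist {s r : G} (hs : s ∈ Cfsg.involutionsIn (stabilizer G a : Set G)) (hr : r ∈ Q)
    (e : t * s * t = r⁻¹ * t * r) :
    Nat.card (Subgroup.centralizer ({s} : Set G)) = Nat.card Q * Nat.card (vGrp a t) := by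
  rw [← Nat.card_prod]
  refine (Nat.card_congr (Equiv.ofBijective (fun p : Q × vGrp a t =>
    (⟨p.1 * p.2, (centralizer_dist H hs hr e).2 ⟨_, p.1.2, _, p.2.2, rfl⟩⟩ :
      Subgroup.centralizer ({s} : Set G))) ⟨fun p p' h => ?_, fun g => ?_⟩)).symm
  · have h' : (p.1 : G) * p.2 = p'.1 * p'.2 := congrArg Subtype.val h
    have e1 : (p.1 : G) = p'.1 := q_unique H.setup p.1.2 p'.1.2 (by
      have := congrArg (fun g : G => g • (t • a)) h'
      simpa [mul_smul, mem_stabilizer_iff.1 p.2.2.1.2, mem_stabilizer_iff.1 p'.2.2.1.2] using this)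
    rw [e1] at h'
    exact Prod.ext (Subtype.ext e1) (Subtype.ext (mul_left_cancel h'))
  · obtain ⟨x, hx, d, hd, e'⟩ := (centralizer_dist H hs hr e).1 g.2
    exact ⟨(⟨x, hx⟩, ⟨d, hd⟩), Subtype.ext e'.symm⟩

end

end Cfsg.Agent.Transfer.RankOne
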