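import Cfsg.Agent.Lib.Transfer.RankOne.Basic
import Cfsg.Agent.Lib.Lie.RankOneCentralizer

/-!
The subgroup generated by the involutions is simple and again satisfies the hypotheses of the rank-one set-up.
-/

set_option autoImplicit false
set_option linter.unusedSectionVars false
set_option linter.style.haveILetI false

namespace Cfsg.Agent.Transfer.RankOne

open MulAction
open Cfsg.Agent.Lie.RankOne (b_ne q_fix exists_qd exists_q invol_mem_Q inv_t conj_into all_conj)

universe u v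

/-- The subgroup generated by the involutions. -/
def invGen (G : Type u) [Group G] : Subgroup G := Subgroup.closure {x : G | x ≠ 1 ∧ x * x = 1}

theorem invGen_normal (G : Type u) [Group G] : (invGen G).Normal := by
  refine ⟨fun x hx g => ?_⟩
  induction hx using Subgroup.closure_induction with
  | mem z hz =>
    refine Subgroup.subset_closure ⟨fun e => hz.1 (conj_eq_one_iff.1 e), ?_⟩
    rw [conj_mul, hz.2, mul_one, mul_inv_cancel]
  | one => simp
  | mul x y _ _ hx hy => rw [← conj_mul]; exact mul_mem hx hy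
  | inv x _ hx => rw [← conj_inv]; exact inv_mem hx

theorem mem_invGen {G : Type u} [Group G] {x : G} (h2 : x * x = 1) : x ∈ invGen G := by
  by_cases h : x = 1
  · rw [h]; exact one_mem _
  · exact Subgroup.subset_closure ⟨h, h2⟩

variable {G : Type u} {Ω : Type v} [Group G] [MulAction G Ω] [Finite G] [FaithfulSMul G Ω]
  {a : Ω} {t : G} {Q : Subgroup G} (H : Hyp G Ω a t Q)
include H

theorem zGrp_le_invGen : zGrp G a ≤ invGen G := fun _ hz => mem_invGen ((mem_zGrp H).1 hz).2

theorem t_mem_invGen : t ∈ invGen G := mem_invGen H.setup.mul_self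

theorem kGrp_le_invGen : kGrp a t ≤ invGen G := fun k hk => by
  have e : k = t * (t * k) := by rw [← mul_assoc, H.setup.mul_self, one_mul]
  rw [e]
  refine mul_mem (t_mem_invGen H) (mem_invGen ?_)
  calc t * k * (t * k) = (t * k * t) * k := by group
    _ = 1 := by rw [t_k H hk, inv_mul_cancel]

theorem exists_k_ne : ∃ k ∈ kGrp a t, k ≠ 1 := by
  refine (Subgroup.bot_or_exists_ne_one (kGrp a t)).resolve_left fun h => ?_
  have h1 := card_kGrp H
  have h2 := four_le_q H
  rw [h, Subgroup.card_bot] at h1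
  omega

theorem q_le_invGen : Q ≤ invGen G := by
  obtain ⟨k, hk, hk1⟩ := exists_k_ne H
  have hka := (kGrp_le_dGrp H hk).1
  let f : Q → Q := fun x =>
    ⟨x * (k * (x : G)⁻¹ * k⁻¹), mul_mem x.2 (H.setup.conj_mem k hka _ (inv_mem x.2))⟩
  have hf : Function.Injective f := fun x y h => by
    have h' : (x : G) * (k * (x : G)⁻¹ * k⁻¹) = y * (k * (y : G)⁻¹ * k⁻¹) := congrArg Subtype.val h
    have e : k * ((y : G)⁻¹ * x) = ((y : G)⁻¹ * x) * k := by
      calc k * ((y : G)⁻¹ * x) = (y : G)⁻¹ * (y * (k * (y : G)⁻¹ * k⁻¹)) * k * x := by group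
        _ = _ := by rw [← h']; group
    have := kGrp_fpf H hk hk1 (mul_mem (inv_mem y.2) x.2) e
    exact Subtype.ext (inv_mul_eq_one.1 this).symm
  intro x hx
  obtain ⟨y, hy⟩ := Finite.injective_iff_surjective.1 hf ⟨x, hx⟩
  have e : (y : G) * (k * (y : G)⁻¹ * k⁻¹) = x := congrArg Subtype.val hy
  rw [← e, show (y : G) * (k * (y : G)⁻¹ * k⁻¹) = (y * k * (y : G)⁻¹) * k⁻¹ by group]
  exact mul_mem ((invGen_normal G).conj_mem k (kGrp_le_invGen H hk) y) (inv_mem (kGrp_le_invGen H hk))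

theorem odd_index_invGen : Odd (invGen G).index := by
  haveI : Fact (Nat.Prime 2) := ⟨Nat.prime_two⟩
  obtain ⟨P, hP⟩ := Lie.RankOne.exists_sylow H.setup
  exact (Nat.odd_iff.2 (Nat.two_dvd_ne_zero.1 P.not_dvd_index)).of_dvd_nat
    (Subgroup.index_dvd_of_le (hP.trans (q_le_invGen H)))

theorem invGen_setup : Cfsg.IsRankOneSetup (invGen G) Ω a ⟨t, t_mem_invGen H⟩ (Q.subgroupOf (invGen G)) := by
  have hQ := q_le_invGen H
  have hdle : ∀ g : invGen G, g ∈ stabilizer (invGen G) a → (g : G) ∈ stabilizer G a := fun g hg => hg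
  constructor
  · haveI := Lie.RankOne.finite_omega H.setup
    rw [is_two_pretransitive_iff]
    have hmove : ∀ c : Ω, ∃ g : invGen G, g • c = a := fun c => by
      by_cases hc : c = a
      · exact ⟨1, by rw [one_smul, hc]⟩
      · obtain ⟨q, hq, e⟩ := exists_q H.setup hc
        refine ⟨⟨t * q⁻¹, mul_mem (t_mem_invGen H) (inv_mem (hQ hq))⟩, ?_⟩
        show (t * q⁻¹) • c = a
        rw [mul_smul, ← e, inv_smul_smul, Lie.RankOne.t_smul_b H.setup]
    have hreg : ∀ b c : Ω, b ≠ a → c ≠ a → ∃ g : invGen G, g • a = a ∧ g • b = c := fun b c hb hc => by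
      obtain ⟨p, hp, ep⟩ := exists_q H.setup hb
      obtain ⟨q, hq, eq'⟩ := exists_q H.setup hc
      refine ⟨⟨q * p⁻¹, mul_mem (hQ hq) (inv_mem (hQ hp))⟩, ?_, ?_⟩
      · show (q * p⁻¹) • a = a
        exact q_fix H.setup (mul_mem hq (inv_mem hp))
      · show (q * p⁻¹) • b = c
        rw [mul_smul, ← ep, inv_smul_smul, eq']
    intro b₁ b₂ c₁ c₂ hb hc
    obtain ⟨g, hg⟩ := hmove b₁
    obtain ⟨k, hk⟩ := hmove c₁
    obtain ⟨m, hm1, hm2⟩ := hreg (g • b₂) (k • c₂)
      (fun e => hb (smul_left_cancel g (hg.trans e.symm))) (fun e => hc (smul_left_cancel k (hk.trans e.symm)))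
    refine ⟨k⁻¹ * m * g, ?_, ?_⟩
    · rw [mul_smul, mul_smul, hg, hm1, ← hk, inv_smul_smul]
    · rw [mul_smul, mul_smul, hm2, inv_smul_smul]
  · exact Subtype.ext H.setup.mul_self
  · exact fun h => H.setup.ne_one (congrArg Subtype.val h)
  · exact H.setup.not_mem
  · exact fun g hg => H.setup.le hg
  · exact fun h hh x hx => H.setup.conj_mem h hh x hx
  · rw [eq_bot_iff]
    rintro g ⟨hg1, hg2⟩
    have h : (g : G) ∈ Q ⊓ stabilizer G (t • a) := ⟨hg1, hg2⟩
    rw [H.setup.inf_eq_bot, Subgroup.mem_bot] at h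
    exact Subgroup.mem_bot.2 (Subtype.ext h)
  · refine le_antisymm (sup_le (fun g hg => H.setup.le hg) inf_le_left) fun g hg => ?_
    obtain ⟨q, hq, d, hd, e⟩ := exists_qd H.setup (hdle g hg)
    have hdN : d ∈ invGen G := by
      rw [show d = q⁻¹ * (q * d) by group, ← e]; exact mul_mem (inv_mem (hQ hq)) g.2
    rw [show g = (⟨q, hQ hq⟩ : invGen G) * ⟨d, hdN⟩ from Subtype.ext e]
    exact mul_mem (Subgroup.mem_sup_left (show q ∈ Q from hq)) (Subgroup.mem_sup_right ⟨hd.1, hd.2⟩)
  · rw [Nat.card_congr (Subgroup.subgroupOfEquivOfLe hQ).toEquiv]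
    exact H.setup.even_card
  · refine H.setup.odd_card.of_dvd_nat ?_
    exact Subgroup.card_dvd_of_injective
      (⟨⟨fun g => ⟨(g : invGen G), g.2.1, g.2.2⟩, rfl⟩, fun _ _ => rfl⟩ :
        ↥(stabilizer (invGen G) a ⊓ stabilizer (invGen G) ((⟨t, t_mem_invGen H⟩ : invGen G) • a)) →*
          ↥(stabilizer G a ⊓ stabilizer G (t • a)))
      (fun x y h => Subtype.ext (Subtype.ext (congrArg (fun z => (z.1 : G)) h)))

theorem invGen_hyp : Hyp (invGen G) Ω a ⟨t, t_mem_invGen H⟩ (Q.subgroupOf (invGen G)) := by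
  refine ⟨invGen_setup H, ?_⟩
  obtain ⟨x, y, hx1, hy1, hxy, hx2, hy2, hc⟩ := H.two
  exact ⟨⟨x, mem_invGen hx2⟩, ⟨y, mem_invGen hy2⟩, fun h => hx1 (congrArg Subtype.val h),
    fun h => hy1 (congrArg Subtype.val h), fun h => hxy (congrArg Subtype.val h), Subtype.ext hx2,
    Subtype.ext hy2, Subtype.ext hc⟩

theorem invGen_simple : IsSimpleGroup (invGen G) := by
  have H' := invGen_hyp H
  haveI : Nontrivial (invGen G) := ⟨⟨⟨t, t_mem_invGen H⟩, 1, fun h => H.setup.ne_one (congrArg Subtype.val h)⟩⟩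
  refine ⟨fun M hM => ?_⟩
  rcases Nat.even_or_odd (Nat.card M) with he | ho
  · right
    haveI : Fact (Nat.Prime 2) := ⟨Nat.prime_two⟩
    obtain ⟨m, hm⟩ := exists_prime_orderOf_dvd_card' (G := M) 2 (even_iff_two_dvd.1 he)
    have hm2 : (m : invGen G) * m = 1 := by
      have h := congrArg Subtype.val (pow_orderOf_eq_one m)
      rw [hm, pow_two] at h
      exact h
    have hm1 : (m : invGen G) ≠ 1 := fun h => by
      rw [show m = 1 from Subtype.ext h, orderOf_one] at hm
      omega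
    refine (Subgroup.eq_top_iff' M).2 fun g => ?_
    obtain ⟨g, hg⟩ := g
    induction hg using Subgroup.closure_induction with
    | mem z hz =>
      obtain ⟨c, hc⟩ := all_conj H'.setup hm1 hm2 (u := (m : invGen G))
        (v := (⟨z, mem_invGen hz.2⟩ : invGen G)) (fun h => hz.1 (congrArg Subtype.val h)) (Subtype.ext hz.2)
      rw [← hc]
      exact hM.conj_mem _ m.2 c
    | one => exact one_mem M
    | mul x y _ _ h1 h2 => exact mul_mem h1 h2
    | inv x _ h1 => exact inv_mem h1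
  · left
    have h1 : M ≤ Cfsg.pPrimeCore 2 (invGen G) :=
      Agent.Grp.le_pPrimeCore hM (Nat.coprime_two_right.2 ho)
    rw [Lie.RankOne.odd_core_eq H'.setup H'.two] at h1
    rw [eq_bot_iff]
    intro g hg
    have h2 := h1 hg
    refine Subgroup.mem_bot.2 (FaithfulSMul.eq_of_smul_eq_smul (α := Ω) fun c => ?_)
    obtain ⟨k, hk⟩ : ∃ k : invGen G, k • a = c := Lie.RankOne.exists_smul H'.setup
    have h3 := Subgroup.normalCore_le _ ((Subgroup.normalCore_normal _).conj_mem g h2 k⁻¹)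
    rw [mem_stabilizer_iff, inv_inv, mul_smul, mul_smul, inv_smul_eq_iff, hk] at h3
    rw [h3, one_smul]

end Cfsg.Agent.Transfer.RankOne
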