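import Cfsg.Agent.Lib.Transfer.RankOne.AbSylow
import Mathlib.GroupTheory.GroupAction.Quotient

/-!
Counting the points with non-trivial stabiliser in the Sylow subgroup: `p + 1` maximal subgroups meet the class of
`x`, and `p + 1` divides the order of the group.
-/

set_option autoImplicit false
set_option linter.unusedSectionVars false
set_option linter.style.haveILetI false
set_option maxHeartbeats 1000000

namespace Cfsg.Agent.Transfer.RankOne

open MulAction
open scoped Pointwise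

universe u v

/-- `(p - 1) ^ p + 1` is `p ^ 2` modulo `p ^ 3`. -/
theorem pred_pow_succ_modEq {p : ℕ} (hp : Odd p) (hp1 : 1 ≤ p) : (p - 1) ^ p + 1 ≡ p ^ 2 [MOD p ^ 3] := by
  have key : ∀ k : ℕ, ∃ c : ℤ,
      2 * (1 - (p : ℤ)) ^ k = 2 - 2 * k * p + k * ((k : ℤ) - 1) * (p : ℤ) ^ 2 + c * (p : ℤ) ^ 3 := by
    intro k
    induction k with
    | zero => exact ⟨0, by simp⟩
    | succ k ih =>
      obtain ⟨c, hc⟩ := ih
      refine ⟨c * (1 - p) - k * ((k : ℤ) - 1), ?_⟩
      rw [pow_succ, ← mul_assoc, hc]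
      push_cast
      ring
  obtain ⟨c, hc⟩ := key p
  have h2 : IsCoprime ((p : ℤ) ^ 3) 2 := by
    have h := (hp.coprime_two_right.pow_left 3 : Nat.Coprime (p ^ 3) 2)
    have h' := Nat.isCoprime_iff_coprime.2 h
    push_cast at h'
    exact h'
  rw [← Int.natCast_modEq_iff, Int.modEq_iff_dvd]
  push_cast [Nat.cast_sub hp1]
  refine h2.dvd_of_dvd_mul_left ⟨c + ((p : ℤ) - 1), ?_⟩
  rw [show ((p : ℤ) - 1) ^ p = -((1 - (p : ℤ)) ^ p) by rw [← hp.neg_pow, neg_sub]]
  linear_combination hc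

variable {G : Type u} {Ω : Type v} [Group G] [MulAction G Ω] [Finite G] [FaithfulSMul G Ω]
  {a : Ω} {t : G} {Q : Subgroup G} {F : Type} [Field F] [Finite F]
  (E : Env a t Q F) {x : G} {p : ℕ} (hx : x ∈ vGrp a t) (hp : p.Prime) (hord : orderOf x = p)
  (hW : x ∉ wGrp a t) (hq2 : Nat.card ↥(zGrp G a ⊓ Subgroup.centralizer ({x} : Set G)) = 2)
  (R : RegData a x p 1) [IsSimpleGroup G] (hWbot : wGrp a t = ⊥) (P : Sylow p G) (Z : Subgroup G)
  (D : PData R (P : Subgroup G) Z)
include E hx hp hord hW hq2 R hWbot D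

omit hWbot D in
theorem card_fix_conj (g : G) : Nat.card (Fx Ω (g * x * g⁻¹)) = p := by
  rw [← pow_one p, ← R.card_fix]
  exact Nat.card_congr
    { toFun := fun c => ⟨g⁻¹ • (c : Ω), by
        have := congrArg (g⁻¹ • ·) c.2
        simpa [mul_smul] using this⟩
      invFun := fun c => ⟨g • (c : Ω), by rw [mul_smul, mul_smul, inv_smul_smul, c.2]⟩
      left_inv := fun c => Subtype.ext (smul_inv_smul g (c : Ω))
      right_inv := fun c => Subtype.ext (inv_smul_smul g (c : Ω)) }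

omit D in
theorem not_sq_dvd_stab : ¬ p * p ∣ Nat.card ↥(stabilizer G a) := by
  haveI := Fact.mk hp
  have hGa : Nat.card ↥(stabilizer G a) = Nat.card Q * (Nat.card (kGrp a t) * p) := by
    rw [Lie.RankOne.card_stab E.hyp.setup]
    congr 1
    rw [← show Nat.card (dGrp a t) = Nat.card ↥(stabilizer G a ⊓ stabilizer G (t • a)) from rfl,
      card_dGrp E.hyp, card_sub_v E hx hp hord hW hq2 le_rfl hx, hWbot, inf_bot_eq, Subgroup.card_bot, mul_one]
  intro hd
  rw [hGa, ← mul_assoc] at hd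
  have h1 : p ∣ Nat.card Q * Nat.card (kGrp a t) := Nat.dvd_of_mul_dvd_mul_right hp.pos hd
  have hKc : Nat.card (kGrp a t) + 1 = 2 ^ p := by
    rw [card_kGrp E.hyp, E.card_z_pow hx hp hord hW, hq2]
  rcases hp.dvd_mul.1 h1 with h2 | h2
  · exact hp.one_lt.ne' (Nat.dvd_one.1 ((Nat.dvd_add_right h2).1 (E.dvd_card_succ hx hp hord hW)))
  · have h3 : ((Nat.card (kGrp a t) + 1 : ℕ) : ZMod p) = ((2 ^ p : ℕ) : ZMod p) := by rw [hKc]
    rw [Nat.cast_pow, ZMod.pow_card, Nat.cast_add, (ZMod.natCast_eq_zero_iff _ _).2 h2, zero_add] at h3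
    have h4 : 1 ≡ 2 [MOD p] := (ZMod.natCast_eq_natCast_iff _ _ _).1 h3
    exact hp.one_lt.ne' (Nat.dvd_one.1 ((Nat.modEq_iff_dvd' one_le_two).1 h4))

/-- A non-trivial point stabiliser in `P` is generated by a conjugate of `x`. -/
theorem stab_eq {c : Ω} (hc : stabilizer G c ⊓ (P : Subgroup G) ≠ ⊥) :
    ∃ g : G, g * x * g⁻¹ ∈ (P : Subgroup G) ∧
      stabilizer G c ⊓ (P : Subgroup G) = Subgroup.zpowers (g * x * g⁻¹) := by
  classical
  haveI := Fact.mk hp
  have hnd := not_sq_dvd_stab E hx hp hord hW hq2 R hWbot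
  have hxa : x • a = a := x_fix_a E.hyp hx
  obtain ⟨g, rfl⟩ : ∃ g : G, g • a = c := Lie.RankOne.exists_smul E.hyp.setup
  have hordc : orderOf (g * x * g⁻¹) = p := by rw [← hord]; exact MulEquiv.orderOf_eq (MulAut.conj g) x
  set St := stabilizer G (g • a) ⊓ (P : Subgroup G)
  have hcs : Nat.card ↥(stabilizer G (g • a)) = Nat.card ↥(stabilizer G a) := by
    rw [stabilizer_smul_eq_stabilizer_map_conj, Nat.card_congr
      (Subgroup.equivMapOfInjective _ _ (MulAut.conj g).injective).toEquiv.symm]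
  obtain ⟨j, hj⟩ := (P.isPGroup'.to_le (inf_le_right : St ≤ (P : Subgroup G))).exists_card_eq
  have hj1 : j = 1 := by
    have h1 : p ^ j ∣ Nat.card ↥(stabilizer G a) := hcs ▸ hj ▸ Subgroup.card_dvd_of_le inf_le_left
    rcases j with _ | _ | j
    · exact absurd (Subgroup.card_eq_one.1 (hj.trans (pow_zero p))) hc
    · rfl
    · exact absurd (dvd_trans (by rw [← pow_two]; exact pow_dvd_pow p (by omega)) h1) hnd
  rw [hj1, pow_one] at hj
  have hxGa : x ∈ stabilizer G a := mem_stabilizer_iff.2 hxa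
  have hXle : Subgroup.zpowers (g * x * g⁻¹) ≤ stabilizer G (g • a) := Subgroup.zpowers_le.2 (by
    rw [mem_stabilizer_iff, mul_smul, mul_smul, inv_smul_smul, hxa])
  have hfac : (Nat.card ↥(stabilizer G (g • a))).factorization p = 1 := by
    rw [hcs, Nat.factorization_def _ hp]
    refine le_antisymm ?_ ?_
    · by_contra hlt
      exact hnd (by rw [← pow_two]; exact (padicValNat_dvd_iff_le Nat.card_pos.ne').2 (by omega))
    · exact one_le_padicValNat_of_dvd Nat.card_pos.ne' (hord ▸ Subgroup.orderOf_dvd_natCard _ hxGa)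
  let S1 : Sylow p ↥(stabilizer G (g • a)) := Sylow.ofCard (St.subgroupOf (stabilizer G (g • a))) (by
    rw [hfac, pow_one, Nat.card_congr (Subgroup.subgroupOfEquivOfLe inf_le_left).toEquiv, hj])
  let S2 : Sylow p ↥(stabilizer G (g • a)) :=
    Sylow.ofCard ((Subgroup.zpowers (g * x * g⁻¹)).subgroupOf (stabilizer G (g • a))) (by
    rw [hfac, pow_one, Nat.card_congr (Subgroup.subgroupOfEquivOfLe hXle).toEquiv, Nat.card_zpowers, hordc])
  obtain ⟨c', hc'⟩ := MulAction.exists_smul_eq ↥(stabilizer G (g • a)) S2 S1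
  have hmem : (c' : G) * (g * x * g⁻¹) * (c' : G)⁻¹ ∈ St := by
    have h1 : (⟨g * x * g⁻¹, hXle (Subgroup.mem_zpowers _)⟩ : stabilizer G (g • a)) ∈
        (S2 : Subgroup (stabilizer G (g • a))) := Subgroup.mem_subgroupOf.2 (Subgroup.mem_zpowers _)
    have h2 : MulAut.conj c' (⟨g * x * g⁻¹, hXle (Subgroup.mem_zpowers _)⟩ : stabilizer G (g • a)) ∈
        (S1 : Subgroup (stabilizer G (g • a))) := by rw [← hc']; exact ⟨_, h1, rfl⟩
    exact h2
  have e : (c' : G) * g * x * ((c' : G) * g)⁻¹ = (c' : G) * (g * x * g⁻¹) * (c' : G)⁻¹ := by group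
  have hordc' : orderOf ((c' : G) * g * x * ((c' : G) * g)⁻¹) = p := by
    rw [← hord]; exact MulEquiv.orderOf_eq (MulAut.conj ((c' : G) * g)) x
  refine ⟨(c' : G) * g, e ▸ hmem.2, (Subgroup.eq_of_le_of_card_ge
    (Subgroup.zpowers_le.2 (e ▸ hmem)) (by rw [hj, Nat.card_zpowers, hordc'])).symm⟩

omit hWbot in
theorem z_cent_conj {g : G} (hg : g * x * g⁻¹ ∈ (P : Subgroup G)) {z : G} (hz : z ∈ Z) :
    g * x * g⁻¹ * z = z * (g * x * g⁻¹) := ((D.z_cent z).1 hz).2 _ hg

omit hWbot in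
theorem card_mx {g : G} (hg : g * x * g⁻¹ ∈ (P : Subgroup G)) :
    Z ⊔ Subgroup.zpowers (g * x * g⁻¹) ≤ (P : Subgroup G) ∧
      Nat.card ↥(Z ⊔ Subgroup.zpowers (g * x * g⁻¹)) = p ^ 2 := by
  haveI := Fact.mk hp
  refine ⟨sup_le (fun z hz => ((D.z_cent z).1 hz).1) (Subgroup.zpowers_le.2 hg), ?_⟩
  have hordc : orderOf (g * x * g⁻¹) = p := by rw [← hord]; exact MulEquiv.orderOf_eq (MulAut.conj g) x
  have hn' : Z ≤ Subgroup.normalizer (Subgroup.zpowers (g * x * g⁻¹) : Set G) := fun z hz => by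
    refine Subgroup.mem_normalizer_fintype fun y hy => ?_
    obtain ⟨i, rfl⟩ := Subgroup.mem_zpowers_iff.1 hy
    rw [← conj_zpow, ← z_cent_conj E hx hp hord hW hq2 R P Z D hg hz, mul_inv_cancel_right]
    exact Subgroup.zpow_mem _ (Subgroup.mem_zpowers _) i
  have h := Grp.card_sup_mul_card_inf hn'
  have hinf : Z ⊓ Subgroup.zpowers (g * x * g⁻¹) = ⊥ :=
    (Subgroup.eq_bot_iff_forall _).2 fun y hy => by_contra fun hy1 =>
      D.conj_not g ((Subgroup.zpowers_le.2 hy.1) (mem_zpowers_prime hp hordc hy.2 hy1))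
  rw [hinf, Subgroup.card_bot, mul_one, Nat.card_zpowers, D.card_z, hordc] at h
  rw [h, pow_two]

/-- `p + 1` divides the order of `G`. -/
theorem succ_dvd_card : p + 1 ∣ Nat.card G := by
  classical
  haveI := Fact.mk hp
  haveI := Lie.RankOne.finite_omega E.hyp.setup
  have hp2 := p_ne_two E hx hp hord hW hq2
  have hordc : ∀ g : G, orderOf (g * x * g⁻¹) = p := fun g => by
    rw [← hord]; exact MulEquiv.orderOf_eq (MulAut.conj g) x
  let U := {S : Subgroup G // ∃ g : G, g * x * g⁻¹ ∈ (P : Subgroup G) ∧ S = Subgroup.zpowers (g * x * g⁻¹)}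
  have hUcard : ∀ S : U, Nat.card S.1 = p := by
    rintro ⟨_, g, -, rfl⟩
    rw [Nat.card_zpowers, hordc]
  have hUgen : ∀ (S : U) (y : G), y ∈ S.1 → y ≠ 1 → S.1 = Subgroup.zpowers y := by
    intro S y hy hy1
    obtain ⟨g, -, e⟩ := S.2
    rw [e] at hy ⊢
    exact le_antisymm (Subgroup.zpowers_le.2 (mem_zpowers_prime hp (hordc g) hy hy1)) (Subgroup.zpowers_le.2 hy)
  have hUdisj : ∀ S S' : U, ∀ y, y ∈ S.1 → y ∈ S'.1 → y ≠ 1 → S = S' := fun S S' y h h' h1 =>
    Subtype.ext ((hUgen S y h h1).trans (hUgen S' y h' h1).symm)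
  have hUne : ∀ S : U, ∃ y ∈ S.1, y ≠ 1 := fun S => by
    obtain ⟨_, g, hg, rfl⟩ := S
    exact ⟨g * x * g⁻¹, Subgroup.mem_zpowers _, fun h => by
      have := hordc g
      rw [h, orderOf_one] at this
      exact hp.one_lt.ne this⟩
  -- the points with a non-trivial stabiliser
  set O0 := {c : Ω // stabilizer G c ⊓ (P : Subgroup G) ≠ ⊥}
  have hstab : ∀ c : O0, ∃ S : U, S.1 = stabilizer G (c : Ω) ⊓ (P : Subgroup G) := fun c => by
    obtain ⟨g, hg, e⟩ := stab_eq E hx hp hord hW hq2 R hWbot P Z D c.2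
    exact ⟨⟨_, g, hg, rfl⟩, e.symm⟩
  choose st hst using hstab
  have hfib : ∀ S : U, Nat.card {c : O0 // st c = S} = p := by
    rintro ⟨_, g, hg, rfl⟩
    refine Eq.trans ?_ (card_fix_conj E hx hp hord hW hq2 R g)
    have hfixiff : ∀ c : Ω, (g * x * g⁻¹) • c = c → Subgroup.zpowers (g * x * g⁻¹) ≤ stabilizer G c ⊓ (P : Subgroup G) :=
      fun c hc => Subgroup.zpowers_le.2 ⟨mem_stabilizer_iff.2 hc, hg⟩
    refine Nat.card_congr
      { toFun := fun c => ⟨(c.1 : Ω), ?_⟩
        invFun := fun c => ⟨⟨(c : Ω), fun h => ?_⟩, ?_⟩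
        left_inv := fun c => Subtype.ext (Subtype.ext rfl)
        right_inv := fun c => rfl }
    · have h1 : (st c.1).1 = Subgroup.zpowers (g * x * g⁻¹) := congrArg Subtype.val c.2
      rw [hst] at h1
      exact mem_stabilizer_iff.1 (h1.ge (Subgroup.mem_zpowers _)).1
    · have h1 := hfixiff _ c.2 (Subgroup.mem_zpowers _)
      rw [h, Subgroup.mem_bot] at h1
      have := hordc g
      rw [h1, orderOf_one] at this
      exact hp.one_lt.ne this
    · have hne : g * x * g⁻¹ ≠ 1 := fun h1 => by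
        have := hordc g
        rw [h1, orderOf_one] at this
        exact hp.one_lt.ne this
      refine hUdisj _ _ (g * x * g⁻¹) ?_ (Subgroup.mem_zpowers _) hne
      rw [hst]
      exact hfixiff _ c.2 (Subgroup.mem_zpowers _)
  haveI : Fintype U := Fintype.ofFinite U
  haveI : Fintype O0 := Fintype.ofFinite O0
  have hO0 : Nat.card O0 = Nat.card U * p := by
    rw [Nat.card_congr (Equiv.sigmaFiberEquiv st).symm, Nat.card_sigma, Finset.sum_congr rfl fun S _ => hfib S,
      Finset.sum_const, Finset.card_univ, ← Nat.card_eq_fintype_card, smul_eq_mul]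
  -- the free part
  have hfree : p ^ 3 ∣ Nat.card {c : Ω // ¬ stabilizer G c ⊓ (P : Subgroup G) ≠ ⊥} := by
    have hinv : ∀ (y : (P : Subgroup G)) (c : Ω), ¬ stabilizer G c ⊓ (P : Subgroup G) ≠ ⊥ →
        ¬ stabilizer G ((y : G) • c) ⊓ (P : Subgroup G) ≠ ⊥ := by
      intro y c hc hc'
      obtain ⟨g, hg, hg1⟩ := (Subgroup.bot_or_exists_ne_one _).resolve_left hc'
      refine hc fun hbot => hg1 ?_
      have hmem : (y : G)⁻¹ * g * y ∈ stabilizer G c ⊓ (P : Subgroup G) :=
        ⟨mem_stabilizer_iff.2 (by rw [mul_smul, mul_smul, inv_smul_eq_iff]; exact mem_stabilizer_iff.1 hg.1),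
          (mul_mem (mul_mem (inv_mem y.2) hg.2) y.2 : (y : G)⁻¹ * g * y ∈ (P : Subgroup G))⟩
      rw [hbot, Subgroup.mem_bot] at hmem
      calc g = y * ((y : G)⁻¹ * g * y) * (y : G)⁻¹ := by group
        _ = 1 := by rw [hmem]; group
    letI : MulAction (P : Subgroup G) {c : Ω // ¬ stabilizer G c ⊓ (P : Subgroup G) ≠ ⊥} :=
      { smul := fun y c => ⟨(y : G) • (c : Ω), hinv y c c.2⟩
        one_smul := fun c => Subtype.ext (one_smul G (c : Ω))
        mul_smul := fun y z c => Subtype.ext (mul_smul (y : G) (z : G) (c : Ω)) }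
    have hbot : ∀ c : {c : Ω // ¬ stabilizer G c ⊓ (P : Subgroup G) ≠ ⊥},
        stabilizer (P : Subgroup G) c = ⊥ := fun c => by
      refine (Subgroup.eq_bot_iff_forall _).2 fun y hy => Subtype.ext ?_
      have hmem : (y : G) ∈ stabilizer G (c : Ω) ⊓ (P : Subgroup G) :=
        ⟨mem_stabilizer_iff.2 (congrArg Subtype.val (mem_stabilizer_iff.1 hy)), y.2⟩
      rw [not_not.1 c.2, Subgroup.mem_bot] at hmem
      exact hmem
    rw [Nat.card_congr (MulAction.selfEquivOrbitsQuotientProd hbot), Nat.card_prod, D.card_p]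
    exact dvd_mul_left _ _
  have hΩ : Nat.card Ω = Nat.card O0 + Nat.card {c : Ω // ¬ stabilizer G c ⊓ (P : Subgroup G) ≠ ⊥} := by
    rw [← Nat.card_sum]
    exact Nat.card_congr (Equiv.sumCompl _).symm
  have hmod : Nat.card U * p ≡ p ^ 2 [MOD p ^ 3] := by
    have h1 : Nat.card Ω ≡ p ^ 2 [MOD p ^ 3] := by
      rw [Lie.RankOne.card_omega E.hyp.setup, q_eq_pow E hx hp hord hW hq2 R, pow_one]
      exact pred_pow_succ_modEq (hp.odd_of_ne_two hp2) hp.one_le
    rw [hΩ, hO0] at h1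
    exact (Nat.ModEq.add_left _ (Nat.modEq_zero_iff_dvd.2 hfree).symm).trans h1
  -- more than `p` subgroups
  have hUbig : p < Nat.card U := by
    obtain ⟨g₁, hg₁, hg₁E⟩ := D.out
    choose gz hgz using D.conj_all
    have hmem : ∀ (z : G) (hz : z ∈ Z), gz z hz * x * (gz z hz)⁻¹ ∈ (P : Subgroup G) := fun z hz => by
      rw [hgz z hz]; exact D.ee_le (mul_mem R.x_mem (D.z_le hz))
    let f : Option Z → U := fun o => o.elim ⟨_, g₁, hg₁, rfl⟩ fun z => ⟨_, gz z z.2, hmem z z.2, rfl⟩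
    have hsome : ∀ z : Z, (f (some z)).1 = Subgroup.zpowers (x * (z : G)) := fun z => by
      show Subgroup.zpowers (gz z z.2 * x * (gz z z.2)⁻¹) = _
      rw [hgz z z.2]
    have hnone : ∀ z : Z, f none ≠ f (some z) := by
      intro z h
      refine hg₁E ?_
      have h1 : g₁ * x * g₁⁻¹ ∈ (f (some z)).1 := h ▸ Subgroup.mem_zpowers _
      rw [hsome] at h1
      exact (Subgroup.zpowers_le.2 (mul_mem R.x_mem (D.z_le z.2))) h1
    have hinj : Function.Injective f := by
      rintro (_ | z) (_ | z') h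
      · rfl
      · exact absurd h (hnone z')
      · exact absurd h.symm (hnone z)
      · have h1 : x * (z : G) ∈ Subgroup.zpowers (x * (z' : G)) := by
          rw [← hsome, ← h, hsome]; exact Subgroup.mem_zpowers _
        obtain ⟨i, hi⟩ := Subgroup.mem_zpowers_iff.1 h1
        have hxc : Commute x (z' : G) := (Subgroup.mem_centralizer_singleton_iff.1 (R.le (D.z_le z'.2))).symm
        rw [hxc.mul_zpow] at hi
        have h2 : x ^ (i - 1) ∈ Z := by
          rw [show x ^ (i - 1) = (z : G) * ((z' : G) ^ i)⁻¹ by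
            rw [show i - 1 = -1 + i by ring, zpow_add, zpow_neg_one, eq_mul_inv_iff_mul_eq, mul_assoc, hi,
              inv_mul_cancel_left]]
          exact mul_mem z.2 (inv_mem (Subgroup.zpow_mem _ z'.2 i))
        have h3 : x ^ (i - 1) = 1 := by_contra fun hne => by
          have := (Subgroup.zpowers_le.2 h2) (mem_zpowers_prime hp hord (Subgroup.zpow_mem _ (Subgroup.mem_zpowers x) _) hne)
          exact D.conj_not 1 (by simpa using this)
        have h4 : (z' : G) ^ (i - 1) = 1 := by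
          rw [← orderOf_dvd_iff_zpow_eq_one] at h3 ⊢
          have h5 : orderOf (z' : G) ∣ Nat.card Z := Subgroup.orderOf_dvd_natCard _ z'.2
          rw [D.card_z, ← hord] at h5
          exact (Int.natCast_dvd_natCast.2 h5).trans h3
        rw [zpow_sub, zpow_one, mul_inv_eq_one] at h3 h4
        rw [h3, h4] at hi
        exact congrArg some (Subtype.ext (mul_left_cancel hi).symm)
    have := Nat.card_le_card_of_injective f hinj
    rw [Finite.card_option, D.card_z] at this
    omega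
  have hb : p ^ 2 + p ≤ Nat.card U := by
    have h1 : Nat.card U ≡ p [MOD p ^ 2] := by
      refine Nat.ModEq.mul_right_cancel' hp.ne_zero ?_
      rwa [← pow_succ, ← pow_two]
    have h2 := (Nat.modEq_iff_dvd' hUbig.le).1 h1.symm
    have h3 := Nat.le_of_dvd (by omega) h2
    omega
  -- the maximal subgroups
  let J := {M : Subgroup G // ∃ g : G, g * x * g⁻¹ ∈ (P : Subgroup G) ∧ M = Z ⊔ Subgroup.zpowers (g * x * g⁻¹)}
  haveI : Fintype J := Fintype.ofFinite J
  have hJ : ∀ M : J, M.1 ≤ (P : Subgroup G) ∧ Nat.card M.1 = p ^ 2 ∧ Z ≤ M.1 := by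
    rintro ⟨_, g, hg, rfl⟩
    obtain ⟨h1, h2⟩ := card_mx E hx hp hord hW hq2 R P Z D hg
    exact ⟨h1, h2, le_sup_left⟩
  have hUJ : ∀ S : U, ∃ M : J, S.1 ≤ M.1 := by
    rintro ⟨_, g, hg, rfl⟩
    exact ⟨⟨_, g, hg, rfl⟩, le_sup_right⟩
  choose up hup using hUJ
  -- each maximal subgroup holds at most `p` of them
  have hcount : ∀ M : J, Nat.card {S : U // up S = M} * (p - 1) ≤ p ^ 2 - p := by
    intro M
    have e1 : ∀ S : U, Nat.card {y : S.1 // y ≠ 1} = p - 1 := fun S => by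
      have h := hUcard S
      rw [← Nat.card_congr (Equiv.optionSubtypeNe (1 : S.1)), Finite.card_option] at h
      omega
    haveI : Fintype {S : U // up S = M} := Fintype.ofFinite _
    have h1 : Nat.card {S : U // up S = M} * (p - 1) = Nat.card (Σ S : {S : U // up S = M}, {y : S.1.1 // y ≠ 1}) := by
      rw [Nat.card_sigma, Finset.sum_congr rfl fun S _ => e1 S.1, Finset.sum_const, Finset.card_univ,
        ← Nat.card_eq_fintype_card, smul_eq_mul]
    have h2 : p ^ 2 - p = Nat.card {y : M.1 // (y : G) ∉ Z} := by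
      have h3 : Nat.card {y : M.1 // (y : G) ∈ Z} = p := by
        refine Eq.trans ?_ D.card_z
        exact Nat.card_congr
          { toFun := fun y => ⟨(y.1 : G), y.2⟩
            invFun := fun z => ⟨⟨z.1, (hJ M).2.2 z.2⟩, z.2⟩
            left_inv := fun _ => rfl
            right_inv := fun _ => rfl }
      have h4 : Nat.card {y : M.1 // (y : G) ∈ Z} + Nat.card {y : M.1 // (y : G) ∉ Z} = Nat.card M.1 := by
        rw [← Nat.card_sum]; exact Nat.card_congr (Equiv.sumCompl _)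
      rw [(hJ M).2.1, h3] at h4
      omega
    rw [h1, h2]
    refine Nat.card_le_card_of_injective (fun q => ⟨⟨(q.2.1 : G), ?_⟩, fun hZ => ?_⟩) ?_
    · have h5 : (q.2.1 : G) ∈ q.1.1.1 := q.2.1.2
      exact (congrArg (fun N : J => N.1) q.1.2).le (hup q.1.1 h5)
    · obtain ⟨g, hg, e⟩ := q.1.1.2
      refine D.conj_not g ((Subgroup.zpowers_le.2 hZ) ?_)
      rw [← hUgen q.1.1 _ q.2.1.2 (fun h => q.2.2 (Subtype.ext h)), e]
      exact Subgroup.mem_zpowers _
    · rintro ⟨S, y⟩ ⟨S', y'⟩ h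
      have h' : (y.1 : G) = y'.1 := congrArg (fun z : {y : M.1 // (y : G) ∉ Z} => ((z.1 : M.1) : G)) h
      obtain rfl : S = S' := Subtype.ext (hUdisj S.1 S'.1 _ y.1.2 (h' ▸ y'.1.2) (fun h0 => y.2 (Subtype.ext h0)))
      exact Sigma.ext rfl (heq_of_eq (Subtype.ext (Subtype.ext h')))
  have hJle : Nat.card J * (p ^ 2 - p) ≤ p ^ 3 - p := by
    have e2 : ∀ M : J, Nat.card {y : M.1 // (y : G) ∉ Z} = p ^ 2 - p := fun M => by
      have h3 : Nat.card {y : M.1 // (y : G) ∈ Z} = p := by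
        refine Eq.trans ?_ D.card_z
        exact Nat.card_congr
          { toFun := fun y => ⟨(y.1 : G), y.2⟩
            invFun := fun z => ⟨⟨z.1, (hJ M).2.2 z.2⟩, z.2⟩
            left_inv := fun _ => rfl
            right_inv := fun _ => rfl }
      have h4 : Nat.card {y : M.1 // (y : G) ∈ Z} + Nat.card {y : M.1 // (y : G) ∉ Z} = Nat.card M.1 := by
        rw [← Nat.card_sum]; exact Nat.card_congr (Equiv.sumCompl _)
      rw [(hJ M).2.1, h3] at h4
      omega
    have h1 : Nat.card J * (p ^ 2 - p) = Nat.card (Σ M : J, {y : M.1 // (y : G) ∉ Z}) := by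
      rw [Nat.card_sigma, Finset.sum_congr rfl fun M _ => e2 M, Finset.sum_const, Finset.card_univ,
        ← Nat.card_eq_fintype_card, smul_eq_mul]
    have h2 : p ^ 3 - p = Nat.card {y : (P : Subgroup G) // (y : G) ∉ Z} := by
      have h3 : Nat.card {y : (P : Subgroup G) // (y : G) ∈ Z} = p := by
        refine Eq.trans ?_ D.card_z
        exact Nat.card_congr
          { toFun := fun y => ⟨(y.1 : G), y.2⟩
            invFun := fun z => ⟨⟨z.1, ((D.z_cent z.1).1 z.2).1⟩, z.2⟩
            left_inv := fun _ => rfl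
            right_inv := fun _ => rfl }
      have h4 : Nat.card {y : (P : Subgroup G) // (y : G) ∈ Z} + Nat.card {y : (P : Subgroup G) // (y : G) ∉ Z} =
          Nat.card (P : Subgroup G) := by
        rw [← Nat.card_sum]; exact Nat.card_congr (Equiv.sumCompl _)
      rw [D.card_p, h3] at h4
      omega
    rw [h1, h2]
    refine Nat.card_le_card_of_injective (fun q => ⟨⟨(q.2.1 : G), (hJ q.1).1 q.2.1.2⟩, q.2.2⟩) ?_
    rintro ⟨M, y⟩ ⟨M', y'⟩ h
    have h' : (y.1 : G) = y'.1 := congrArg (fun z : {y : (P : Subgroup G) // (y : G) ∉ Z} => (z.1 : G)) h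
    obtain rfl : M = M' := by
      by_contra hne
      obtain ⟨-, hc, hZM⟩ := hJ M
      obtain ⟨-, hc', hZM'⟩ := hJ M'
      have hy : (y.1 : G) ∈ M.1 ⊓ M'.1 := ⟨y.1.2, h' ▸ y'.1.2⟩
      obtain ⟨j, -, hj2⟩ := (Nat.dvd_prime_pow hp).1 (hc ▸ Subgroup.card_dvd_of_le (inf_le_left : M.1 ⊓ M'.1 ≤ M.1))
      have h2' : p ^ 2 ≤ Nat.card ↥(M.1 ⊓ M'.1) := by
        rw [hj2]
        refine Nat.pow_le_pow_right hp.pos ?_
        by_contra hj
        refine y.2 ((Subgroup.eq_of_le_of_card_ge (le_inf hZM hZM') ?_).ge hy)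
        rw [hj2, D.card_z]
        exact (Nat.pow_le_pow_right hp.pos (show j ≤ 1 by omega)).trans_eq (pow_one p)
      refine hne (Subtype.ext ?_)
      rw [← Subgroup.eq_of_le_of_card_ge inf_le_left (hc.trans_le h2'),
        Subgroup.eq_of_le_of_card_ge (inf_le_right : M.1 ⊓ M'.1 ≤ M'.1) (hc'.trans_le h2')]
    exact Sigma.ext rfl (heq_of_eq (Subtype.ext (Subtype.ext h')))
  have hUJcard : Nat.card U * (p - 1) ≤ Nat.card J * (p ^ 2 - p) := by
    rw [Nat.card_congr (Equiv.sigmaFiberEquiv up).symm, Nat.card_sigma, Finset.sum_mul]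
    refine (Finset.sum_le_sum fun M _ => hcount M).trans_eq ?_
    rw [Finset.sum_const, Finset.card_univ, ← Nat.card_eq_fintype_card, smul_eq_mul]
  have hJcard : Nat.card J = p + 1 := by
    have hp1 := hp.two_le
    have e2 : p ^ 2 - p = p * (p - 1) := by rw [Nat.mul_sub, mul_one, pow_two]
    have e3 : p ^ 3 - p = p * ((p + 1) * (p - 1)) := by
      rw [← Nat.sq_sub_sq p 1, one_pow, Nat.mul_sub, mul_one, ← pow_succ']
    refine le_antisymm ?_ ?_
    · have h := hJle
      rw [e2, e3, mul_left_comm] at h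
      exact Nat.le_of_mul_le_mul_right (Nat.le_of_mul_le_mul_left h hp.pos) (by omega)
    · have h := (Nat.mul_le_mul_right (p - 1) hb).trans hUJcard
      rw [e2, ← mul_assoc] at h
      have h' := Nat.le_of_mul_le_mul_right h (by omega)
      rw [show p ^ 2 + p = (p + 1) * p by ring] at h'
      exact Nat.le_of_mul_le_mul_right h' hp.pos
  -- the normaliser of `P` is transitive on them
  set N := Subgroup.normalizer ((P : Subgroup G) : Set G)
  have hconjM : ∀ M : J, ∃ n ∈ N, R.EE.map (MulAut.conj n).toMonoidHom = M.1 := by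
    intro M
    obtain ⟨hMP, hMc, hZM⟩ := hJ M
    obtain ⟨_, g, hg, rfl⟩ := M
    set u := g * x * g⁻¹ with hu
    set M0 := Z ⊔ Subgroup.zpowers u
    set Cu := Subgroup.centralizer ({u} : Set G)
    have hM0 : M0 ≤ Cu := sup_le (fun z hz => Subgroup.mem_centralizer_singleton_iff.2
      (z_cent_conj E hx hp hord hW hq2 R P Z D hg hz).symm)
      (Subgroup.zpowers_le.2 (Subgroup.mem_centralizer_singleton_iff.2 rfl))
    set EM := R.EE.map (MulAut.conj g).toMonoidHom
    have hEM : EM ≤ Cu := by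
      rintro _ ⟨e, he, rfl⟩
      refine Subgroup.mem_centralizer_singleton_iff.2 ?_
      show g * e * g⁻¹ * (g * x * g⁻¹) = g * x * g⁻¹ * (g * e * g⁻¹)
      rw [conj_mul, conj_mul, Subgroup.mem_centralizer_singleton_iff.1 (R.le he)]
    have hEMc : Nat.card EM = p ^ 2 := by
      rw [Nat.card_congr (Subgroup.equivMapOfInjective _ _ (MulAut.conj g).injective).toEquiv.symm, R.card]
    have hfac : (Nat.card Cu).factorization p = 2 := by
      rw [Nat.factorization_def _ hp]
      have hcu : Nat.card Cu = Nat.card (Subgroup.centralizer ({x} : Set G)) := Nat.card_congr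
        { toFun := fun y => ⟨g⁻¹ * y * g, Subgroup.mem_centralizer_singleton_iff.2 (by
            have h := Subgroup.mem_centralizer_singleton_iff.1 y.2
            calc g⁻¹ * (y : G) * g * x = g⁻¹ * ((y : G) * u) * g := by rw [hu]; group
              _ = g⁻¹ * (u * y) * g := by rw [h]
              _ = _ := by rw [hu]; group)⟩
          invFun := fun y => ⟨g * y * g⁻¹, Subgroup.mem_centralizer_singleton_iff.2 (by
            rw [hu, conj_mul, conj_mul, Subgroup.mem_centralizer_singleton_iff.1 y.2])⟩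
          left_inv := fun y => Subtype.ext (by show g * (g⁻¹ * y * g) * g⁻¹ = y; group)
          right_inv := fun y => Subtype.ext (by show g⁻¹ * (g * y * g⁻¹) * g = y; group) }
      rw [hcu, val_cent E hx hp hord hW hq2 R, hWbot, bot_inf_eq, Subgroup.card_bot, padicValNat.one]
    let S1 : Sylow p Cu := Sylow.ofCard (M0.subgroupOf Cu) (by
      rw [Nat.card_congr (Subgroup.subgroupOfEquivOfLe hM0).toEquiv, hfac, hMc])
    let S2 : Sylow p Cu := Sylow.ofCard (EM.subgroupOf Cu) (by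
      rw [Nat.card_congr (Subgroup.subgroupOfEquivOfLe hEM).toEquiv, hfac, hEMc])
    obtain ⟨c, hc⟩ := MulAction.exists_smul_eq Cu S2 S1
    have hmap : R.EE.map (MulAut.conj ((c : G) * g)).toMonoidHom = M0 := by
      refine Subgroup.eq_of_le_of_card_ge ?_ ?_
      · rintro _ ⟨e, he, rfl⟩
        have h1 : (⟨g * e * g⁻¹, hEM ⟨e, he, rfl⟩⟩ : Cu) ∈ (S2 : Subgroup Cu) := ⟨e, he, rfl⟩
        have h2 : (MulAut.conj c) (⟨g * e * g⁻¹, hEM ⟨e, he, rfl⟩⟩ : Cu) ∈ (S1 : Subgroup Cu) := by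
          rw [← hc]; exact ⟨_, h1, rfl⟩
        have h3 : (c : G) * (g * e * g⁻¹) * (c : G)⁻¹ ∈ M0 := h2
        show (c : G) * g * e * ((c : G) * g)⁻¹ ∈ M0
        rwa [show (c : G) * g * e * ((c : G) * g)⁻¹ = (c : G) * (g * e * g⁻¹) * (c : G)⁻¹ by group]
      · rw [hMc, Nat.card_congr (Subgroup.equivMapOfInjective _ _ (MulAut.conj ((c : G) * g)).injective).toEquiv.symm,
          R.card]
    have hnormal : ∀ M' : Subgroup G, M' ≤ (P : Subgroup G) → Nat.card M' = p ^ 2 →
        (P : Subgroup G) ≤ Subgroup.normalizer (M' : Set G) := by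
      intro M' hle hc'
      haveI : (M'.subgroupOf (P : Subgroup G)).Normal := by
        refine Subgroup.normal_of_index_eq_minFac_card ?_
        have h1 := (M'.subgroupOf (P : Subgroup G)).card_mul_index
        rw [Nat.card_congr (Subgroup.subgroupOfEquivOfLe hle).toEquiv, hc', D.card_p] at h1
        rw [D.card_p, Nat.Prime.pow_minFac hp (by norm_num)]
        exact Nat.eq_of_mul_eq_mul_left (pow_pos hp.pos 2) (h1.trans (pow_succ p 2))
      exact (Subgroup.normal_subgroupOf_iff_le_normalizer hle).1 inferInstance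
    obtain ⟨n, hn, hn'⟩ := Transfer.exists_normalizer_conj_set P (X := (R.EE : Set G)) (Y := (M0 : Set G))
      (hnormal _ D.ee_le R.card) (hnormal _ hMP hMc) (g := (c : G) * g) (fun y => by
        rw [← hmap]
        constructor
        · exact fun hy => ⟨y, hy, rfl⟩
        · rintro ⟨y', hy', e⟩
          exact ((MulAut.conj ((c : G) * g)).injective e) ▸ hy')
    refine ⟨n, hn, Subgroup.eq_of_le_of_card_ge ?_ ?_⟩
    · rintro _ ⟨y, hy, rfl⟩
      exact (hn' y).1 hy
    · show Nat.card ↥M0 ≤ _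
      rw [hMc, Nat.card_congr (Subgroup.equivMapOfInjective _ _ (MulAut.conj n).injective).toEquiv.symm, R.card]
  letI : MulAction N (Subgroup G) := MulAction.compHom (Subgroup G) ((MulAut.conj).comp N.subtype)
  have horbit : orbit N R.EE = {M | ∃ g : G, g * x * g⁻¹ ∈ (P : Subgroup G) ∧ M = Z ⊔ Subgroup.zpowers (g * x * g⁻¹)} := by
    ext M
    constructor
    · rintro ⟨n, rfl⟩
      refine ⟨(n : G), (Subgroup.mem_normalizer_iff.1 n.2 x).1 (D.ee_le R.x_mem), ?_⟩
      show R.EE.map (MulAut.conj (n : G)).toMonoidHom = _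
      obtain ⟨hle, hc⟩ := card_mx E hx hp hord hW hq2 R P Z D
        ((Subgroup.mem_normalizer_iff.1 n.2 x).1 (D.ee_le R.x_mem))
      refine (Subgroup.eq_of_le_of_card_ge (sup_le (fun z hz => ?_)
        (Subgroup.zpowers_le.2 (Subgroup.mem_map.2 ⟨x, R.x_mem, rfl⟩))) ?_).symm
      · have hmem : (n : G)⁻¹ * z * n ∈ Z := by
          obtain ⟨h1, h2⟩ := (D.z_cent z).1 hz
          refine (D.z_cent _).2 ⟨?_, fun y hy => ?_⟩
          · have := (Subgroup.mem_normalizer_iff.1 (inv_mem n.2) z).1 h1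
            rwa [inv_inv] at this
          · have h3 := h2 _ ((Subgroup.mem_normalizer_iff.1 n.2 y).1 hy)
            calc y * ((n : G)⁻¹ * z * n) = (n : G)⁻¹ * (((n : G) * y * (n : G)⁻¹) * z) * n := by group
              _ = (n : G)⁻¹ * (z * ((n : G) * y * (n : G)⁻¹)) * n := by rw [h3]
              _ = _ := by group
        exact ⟨_, D.z_le hmem, by show (n : G) * ((n : G)⁻¹ * z * n) * (n : G)⁻¹ = z; group⟩
      · refine le_of_le_of_eq ?_ hc.symm
        rw [Nat.card_congr (Subgroup.equivMapOfInjective _ _ (MulAut.conj (n : G)).injective).toEquiv.symm, R.card]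
    · rintro ⟨g, hg, rfl⟩
      obtain ⟨n, hn, e⟩ := hconjM ⟨_, g, hg, rfl⟩
      exact ⟨⟨n, hn⟩, e⟩
  have h1 : Nat.card (orbit N R.EE) = p + 1 := by rw [horbit, ← hJcard]; rfl
  rw [← h1]
  refine dvd_trans ?_ (Subgroup.card_subgroup_dvd_card N)
  exact Dvd.intro (Nat.card (stabilizer N R.EE)) (by
    rw [← Nat.card_prod]; exact Nat.card_congr (MulAction.orbitProdStabilizerEquivGroup N R.EE))

end Cfsg.Agent.Transfer.RankOne
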