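import Cfsg.Agent.Lib.Transfer.RankOne.LocalBound
import Cfsg.Agent.Lib.Transfer.HallWielandt
import Cfsg.Agent.Lib.Transfer.Burnside

/-!
The Sylow `p`-subgroup of order `p ^ 3` when `W` is trivial and `x` fixes `p` points.
-/

set_option autoImplicit false
set_option linter.unusedSectionVars false
set_option linter.style.haveILetI false
set_option maxHeartbeats 1000000

namespace Cfsg.Agent.Transfer.RankOne

open MulAction
open scoped Pointwise

universe u v

/-- The Sylow subgroup and its centre. -/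
structure PData {G : Type u} {Ω : Type v} [Group G] [MulAction G Ω] {a : Ω} {x : G} {p : ℕ}
    (R : RegData a x p 1) (P Z : Subgroup G) : Prop where
  card_p : Nat.card P = p ^ 3
  ee_le : R.EE ≤ P
  card_z : Nat.card Z = p
  z_le : Z ≤ R.EE
  z_cent : ∀ c : G, c ∈ Z ↔ c ∈ P ∧ ∀ y ∈ P, y * c = c * y
  conj_not : ∀ g : G, g * x * g⁻¹ ∉ Z
  conj_ee : ∀ g : G, g * x * g⁻¹ ∈ R.EE → ∃ z ∈ Z, g * x * g⁻¹ = x * z
  conj_all : ∀ z ∈ Z, ∃ g : G, g * x * g⁻¹ = x * z
  out : ∃ g : G, g * x * g⁻¹ ∈ P ∧ g * x * g⁻¹ ∉ R.EE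

variable {G : Type u} {Ω : Type v} [Group G] [MulAction G Ω] [Finite G] [FaithfulSMul G Ω]
  {a : Ω} {t : G} {Q : Subgroup G} {F : Type} [Field F] [Finite F]
  (E : Env a t Q F) {x : G} {p : ℕ} (hx : x ∈ vGrp a t) (hp : p.Prime) (hord : orderOf x = p)
  (hW : x ∉ wGrp a t) (hq2 : Nat.card ↥(zGrp G a ⊓ Subgroup.centralizer ({x} : Set G)) = 2)
  (R : RegData a x p 1) [IsSimpleGroup G] (hWbot : wGrp a t = ⊥)
include E hx hp hord hW hq2 R hWbot

theorem exists_pdata : ∃ (P : Sylow p G) (Z : Subgroup G), PData R (P : Subgroup G) Z := by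
  classical
  haveI := Fact.mk hp
  haveI := Fintype.ofFinite G
  haveI := Lie.RankOne.finite_omega E.hyp.setup
  have hker : ∀ w ∈ wGrp a t, w * x = x * w → (∀ c : Ω, x • c = c → w • c = c) → w = 1 := fun w hw _ _ => by
    rwa [hWbot, Subgroup.mem_bot] at hw
  have hcyc : ∀ T : Subgroup G, T ≤ wGrp a t → IsPGroup p T → IsCyclic T := fun T hT _ => by
    rw [hWbot] at hT
    rw [le_bot_iff.1 hT]
    infer_instance
  obtain ⟨hab, hexp, -, hbig'⟩ := local_main E hx hp hord hW hq2 R hker hcyc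
  have hWp : ¬ p ∣ Nat.card (wGrp a t) := by
    rw [hWbot, Subgroup.card_bot]
    exact fun h => hp.one_lt.ne' (Nat.dvd_one.1 h)
  obtain ⟨-, hbig⟩ := hbig' hWp
  obtain ⟨hvN, horb⟩ := orbit_full E hx hp hord hW hq2 R hab hexp hbig
  set C := Subgroup.centralizer ({x} : Set G) with hC
  set N := Subgroup.normalizer (R.EE : Set G) with hN
  have hvC : padicValNat p (Nat.card C) = 2 := by
    rw [val_cent E hx hp hord hW hq2 R, hWbot, bot_inf_eq, Subgroup.card_bot, padicValNat.one]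
  have hvG : padicValNat p (Nat.card G) = 3 := by
    rw [val_card E hx hp hord hW hq2 R, hWbot, Subgroup.card_bot, padicValNat.one]
  rw [hvC] at hvN
  have hEN : R.EE ≤ N := Subgroup.le_normalizer
  obtain ⟨T, hT, hET⟩ := Sylow.exists_subgroup_card_pow_prime_le (G := N) p (n := 2) (m := 3)
    ((padicValNat_dvd_iff_le Nat.card_pos.ne').2 (by omega)) (R.EE.subgroupOf N)
    (by rw [Nat.card_congr (Subgroup.subgroupOfEquivOfLe hEN).toEquiv, R.card]) (by norm_num)
  set P0 := T.map N.subtype with hP0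
  have hP0card : Nat.card P0 = p ^ 3 := by
    rw [hP0, Nat.card_congr (T.equivMapOfInjective _ N.subtype_injective).toEquiv.symm, hT]
  let P : Sylow p G := Sylow.ofCard P0 (by rw [hP0card, Nat.factorization_def _ hp, hvG])
  have hPeq : (P : Subgroup G) = P0 := rfl
  have hPN : P0 ≤ N := Subgroup.map_subtype_le _
  have hEP : R.EE ≤ P0 := fun e he => ⟨⟨e, hEN he⟩, hET (Subgroup.mem_subgroupOf.2 he), rfl⟩
  have hPC : P0 ⊓ C = R.EE := by
    refine (Subgroup.eq_of_le_of_card_ge (le_inf hEP R.le) ?_).symm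
    obtain ⟨j, -, hj2⟩ := (Nat.dvd_prime_pow hp).1 (hP0card ▸ Subgroup.card_dvd_of_le (inf_le_left : P0 ⊓ C ≤ P0))
    have hj : j ≤ 2 := by
      have h1 : padicValNat p (p ^ j) ≤ padicValNat p (Nat.card C) :=
        (padicValNat_dvd_iff_le Nat.card_pos.ne').1
          (pow_padicValNat_dvd.trans (hj2 ▸ Subgroup.card_dvd_of_le inf_le_right))
      rw [padicValNat.prime_pow, hvC] at h1
      exact h1
    rw [hj2, R.card]
    exact Nat.pow_le_pow_right hp.pos hj
  obtain ⟨n, hnP, hnE⟩ : ∃ n ∈ P0, n ∉ R.EE := by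
    by_contra hcon
    push Not at hcon
    have := Nat.le_of_dvd Nat.card_pos (Subgroup.card_dvd_of_le hcon)
    rw [hP0card, R.card] at this
    have := (Nat.pow_le_pow_iff_right hp.one_lt).1 this
    omega
  have hnx : n * x * n⁻¹ ≠ x := fun h => hnE (hPC.le
    ⟨hnP, Subgroup.mem_centralizer_singleton_iff.2 (mul_inv_eq_iff_eq_mul.1 h)⟩)
  obtain ⟨f₀, hf₀, hf₀i, hnf⟩ := horb n (hPN hnP)
  have hf₀1 : f₀ ≠ 1 := fun h => hnx (by rw [hnf, h, mul_one])
  have hf₀p : orderOf f₀ = p := orderOf_eq_prime (hexp f₀ hf₀) hf₀1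
  set Z := Subgroup.zpowers f₀ with hZ
  have hs1 : E.s * (1 : G) * E.s = 1⁻¹ := by rw [mul_one, E.hs.2.2, inv_one]
  have hinj := (inv_bij E hx hp hord hW hq2 R hab hexp).1
  have hZinv : ∀ z ∈ Z, z ∈ R.EE ∧ E.s * z * E.s = z⁻¹ := by
    intro z hz
    obtain ⟨i, rfl⟩ := Subgroup.mem_zpowers_iff.1 hz
    refine ⟨Subgroup.zpow_mem _ hf₀ i, ?_⟩
    have h := conj_zpow (a := E.s) (b := f₀) (i := i)
    rw [inv_eq_of_mul_eq_one_right E.hs.2.2, hf₀i, inv_zpow] at h
    exact h.symm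
  have hinvZ : ∀ f ∈ R.EE, E.s * f * E.s = f⁻¹ → f ∈ Z := by
    intro f hf hfi
    let Inv := {f : G // f ∈ R.EE ∧ E.s * f * E.s = f⁻¹}
    have hc : Nat.card Inv = p := by
      rw [Nat.card_congr (Equiv.ofBijective _ (inv_bij E hx hp hord hW hq2 R hab hexp)), R.card_fix, pow_one]
    let emb : Z → Inv := fun z => ⟨z, hZinv z z.2⟩
    obtain ⟨z, hz⟩ := ((Nat.bijective_iff_injective_and_card emb).2
      ⟨fun z z' h => Subtype.ext (congrArg (fun y : Inv => y.1) h), by rw [hc, Nat.card_zpowers, hf₀p]⟩).2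
      ⟨f, hf, hfi⟩
    have hz' : (z : G) = f := congrArg (fun y : Inv => y.1) hz
    exact hz' ▸ z.2
  -- conjugates of `x` inside `EE`
  have hconjEE : ∀ g : G, g * x * g⁻¹ ∈ R.EE → ∃ z ∈ Z, g * x * g⁻¹ = x * z := by
    intro g hg
    set u := g * x * g⁻¹ with hu
    set Cu := Subgroup.centralizer ({u} : Set G)
    set M := R.EE.map (MulAut.conj g).toMonoidHom with hM
    have hMle : M ≤ Cu := by
      rintro _ ⟨e, he, rfl⟩
      refine Subgroup.mem_centralizer_singleton_iff.2 ?_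
      show g * e * g⁻¹ * (g * x * g⁻¹) = g * x * g⁻¹ * (g * e * g⁻¹)
      rw [conj_mul, conj_mul, Subgroup.mem_centralizer_singleton_iff.1 (R.le he)]
    have hEle : R.EE ≤ Cu := fun e he => Subgroup.mem_centralizer_singleton_iff.2 (hab e he u hg)
    have hcu : Nat.card Cu = Nat.card C := Nat.card_congr
      { toFun := fun y => ⟨g⁻¹ * y * g, Subgroup.mem_centralizer_singleton_iff.2 (by
          have h := Subgroup.mem_centralizer_singleton_iff.1 y.2
          calc g⁻¹ * (y : G) * g * x = g⁻¹ * ((y : G) * u) * g := by rw [hu]; group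
            _ = g⁻¹ * (u * y) * g := by rw [h]
            _ = _ := by rw [hu]; group)⟩
        invFun := fun y => ⟨g * y * g⁻¹, Subgroup.mem_centralizer_singleton_iff.2 (by
          rw [hu, conj_mul, conj_mul, Subgroup.mem_centralizer_singleton_iff.1 y.2])⟩
        left_inv := fun y => Subtype.ext (by show g * (g⁻¹ * y * g) * g⁻¹ = y; group)
        right_inv := fun y => Subtype.ext (by show g⁻¹ * (g * y * g⁻¹) * g = y; group) }
    have hMcard : Nat.card M = p ^ (1 + 1) := by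
      rw [hM, Nat.card_congr (Subgroup.equivMapOfInjective _ _ (MulAut.conj g).injective).toEquiv.symm, R.card]
    let S1 : Sylow p Cu := Sylow.ofCard (R.EE.subgroupOf Cu) (by
      rw [Nat.card_congr (Subgroup.subgroupOfEquivOfLe hEle).toEquiv, R.card, Nat.factorization_def _ hp, hcu, hvC])
    let S2 : Sylow p Cu := Sylow.ofCard (M.subgroupOf Cu) (by
      rw [Nat.card_congr (Subgroup.subgroupOfEquivOfLe hMle).toEquiv, hMcard, Nat.factorization_def _ hp, hcu, hvC])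
    obtain ⟨c, hc⟩ := MulAction.exists_smul_eq Cu S2 S1
    have hcN : ∀ e ∈ R.EE, ((c : G) * g) * e * ((c : G) * g)⁻¹ ∈ R.EE := by
      intro e he
      have h1 : (⟨g * e * g⁻¹, hMle ⟨e, he, rfl⟩⟩ : Cu) ∈ (S2 : Subgroup Cu) := ⟨e, he, rfl⟩
      have h2 : (MulAut.conj c) (⟨g * e * g⁻¹, hMle ⟨e, he, rfl⟩⟩ : Cu) ∈ (S1 : Subgroup Cu) := by
        rw [← hc]
        exact ⟨_, h1, rfl⟩
      have h3 : (c : G) * (g * e * g⁻¹) * (c : G)⁻¹ ∈ R.EE := h2
      rwa [show (c : G) * g * e * ((c : G) * g)⁻¹ = (c : G) * (g * e * g⁻¹) * (c : G)⁻¹ by group]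
    obtain ⟨f, hf, hfi, hfe⟩ := horb _ (Subgroup.mem_normalizer_fintype hcN)
    refine ⟨f, hinvZ f hf hfi, ?_⟩
    rw [← hfe, show (c : G) * g * x * ((c : G) * g)⁻¹ = (c : G) * u * (c : G)⁻¹ by rw [hu]; group,
      Subgroup.mem_centralizer_singleton_iff.1 c.2, mul_inv_cancel_right]
  -- the centre of `P`
  have hnZ : ∀ z ∈ Z, n * z = z * n := by
    have h1 : n * f₀ * n⁻¹ ∈ Z := by
      obtain ⟨z, hz, e⟩ := hconjEE (n * n) (by
        rw [show n * n * x * (n * n)⁻¹ = n * (n * x * n⁻¹) * n⁻¹ by group, hnf]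
        exact (Subgroup.mem_normalizer_iff.1 (hPN hnP) _).1 (mul_mem R.x_mem hf₀))
      have e' : n * n * x * (n * n)⁻¹ = x * f₀ * (n * f₀ * n⁻¹) := by
        calc n * n * x * (n * n)⁻¹ = n * (n * x * n⁻¹) * n⁻¹ := by group
          _ = n * (x * f₀) * n⁻¹ := by rw [hnf]
          _ = (n * x * n⁻¹) * (n * f₀ * n⁻¹) := by group
          _ = _ := by rw [hnf]
      rw [e'] at e
      rw [mul_assoc] at e
      have h2 : n * f₀ * n⁻¹ = f₀⁻¹ * z := by rw [← mul_left_cancel e, inv_mul_cancel_left]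
      rw [h2]
      exact mul_mem (inv_mem (Subgroup.mem_zpowers f₀)) hz
    obtain ⟨i, hi⟩ := Subgroup.mem_zpowers_iff.1 h1
    -- the automorphism of a group of order `p` induced by a `p`-element is trivial
    have hit : ∀ k : ℕ, n ^ k * f₀ * (n ^ k)⁻¹ = f₀ ^ (i ^ k) := by
      intro k
      induction k with
      | zero => simp
      | succ k ih =>
        calc n ^ (k + 1) * f₀ * (n ^ (k + 1))⁻¹ = n * (n ^ k * f₀ * (n ^ k)⁻¹) * n⁻¹ := by
              rw [pow_succ']; group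
          _ = n * f₀ ^ (i ^ k) * n⁻¹ := by rw [ih]
          _ = _ := by rw [← conj_zpow, ← hi, ← zpow_mul, pow_succ']
    have hn3 : n ^ p ^ 3 = 1 := by
      have h := pow_card_eq_one' (G := P0) (x := ⟨n, hnP⟩)
      rw [hP0card] at h
      exact congrArg Subtype.val h
    have h3 := hit (p ^ 3)
    rw [hn3, one_mul, inv_one, mul_one] at h3
    have h4 : ((i ^ p ^ 3 : ℤ) : ZMod p) = ((1 : ℤ) : ZMod p) := by
      rw [ZMod.intCast_eq_intCast_iff_dvd_sub]
      have h5 : f₀ ^ ((1 : ℤ) - i ^ p ^ 3) = 1 := by rw [zpow_sub, zpow_one, ← h3, mul_inv_cancel]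
      have h6 := orderOf_dvd_iff_zpow_eq_one.2 h5
      rwa [hf₀p] at h6
    rw [Int.cast_pow, pow_succ, pow_succ, pow_succ, pow_zero, one_mul, pow_mul, pow_mul, ZMod.pow_card,
      ZMod.pow_card, ZMod.pow_card, ZMod.intCast_eq_intCast_iff_dvd_sub, ← hf₀p, orderOf_dvd_iff_zpow_eq_one,
      zpow_sub, zpow_one, hi, mul_inv_eq_one] at h4
    intro z hz
    obtain ⟨j, rfl⟩ := Subgroup.mem_zpowers_iff.1 hz
    exact ((show Commute n f₀ from mul_inv_eq_iff_eq_mul.1 h4.symm).zpow_right j).eq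
  have hgen : R.EE ⊔ Subgroup.zpowers n = P0 := by
    refine Subgroup.eq_of_le_of_card_ge (sup_le hEP (Subgroup.zpowers_le.2 hnP)) ?_
    obtain ⟨j, -, hj2⟩ := (Nat.dvd_prime_pow hp).1
      (hP0card ▸ Subgroup.card_dvd_of_le (sup_le hEP (Subgroup.zpowers_le.2 hnP)))
    rw [hP0card, hj2]
    refine Nat.pow_le_pow_right hp.pos ?_
    by_contra hlt
    refine hnE ((Subgroup.eq_of_le_of_card_ge (le_sup_left : R.EE ≤ R.EE ⊔ Subgroup.zpowers n) ?_).ge
      (Subgroup.mem_sup_right (Subgroup.mem_zpowers n)))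
    rw [hj2, R.card]
    exact Nat.pow_le_pow_right hp.pos (by omega)
  have hZcent : ∀ z ∈ Z, P0 ≤ Subgroup.centralizer ({z} : Set G) := fun z hz => by
    rw [← hgen]
    exact sup_le (fun e he => Subgroup.mem_centralizer_singleton_iff.2 (hab e he z (hZinv z hz).1))
      (Subgroup.zpowers_le.2 (Subgroup.mem_centralizer_singleton_iff.2 (hnZ z hz)))
  have hZP : Z ≤ P0 := fun z hz => hEP (hZinv z hz).1
  have hcentZ : ∀ c ∈ P0, (∀ y ∈ P0, y * c = c * y) → c ∈ Z := by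
    intro c hc hcc
    obtain ⟨k, hk, f, hf, hfi, rfl⟩ := ee_split E hx hp hord hW hq2 R hab hexp
      (hPC.le ⟨hc, Subgroup.mem_centralizer_singleton_iff.2 (hcc x (hEP R.x_mem)).symm⟩)
    obtain ⟨i, rfl⟩ := Subgroup.mem_zpowers_iff.1 hk
    have hfZ := hinvZ f hf hfi
    have h1 : n * x ^ i * n⁻¹ = x ^ i := by
      have h := hcc n hnP
      calc n * x ^ i * n⁻¹ = n * (x ^ i * f) * (f⁻¹ * n⁻¹) := by group
        _ = x ^ i * f * n * (f⁻¹ * n⁻¹) := by rw [h]
        _ = x ^ i * (f * n * f⁻¹) * n⁻¹ := by group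
        _ = _ := by rw [← hnZ f hfZ, mul_inv_cancel_right, mul_inv_cancel_right]
    rw [← conj_zpow, hnf, (show Commute x f₀ from hab x R.x_mem f₀ hf₀).mul_zpow, mul_eq_left,
      ← orderOf_dvd_iff_zpow_eq_one, hf₀p, ← hord, orderOf_dvd_iff_zpow_eq_one] at h1
    rw [h1, one_mul]
    exact hfZ
  refine ⟨P, Z, hP0card, hEP, by rw [Nat.card_zpowers, hf₀p], fun z hz => (hZinv z hz).1,
    fun c => ⟨fun hc => ⟨hZP hc, fun y hy => Subgroup.mem_centralizer_singleton_iff.1 (hZcent c hc hy)⟩,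
      fun hc => hcentZ c hc.1 hc.2⟩,
    fun g h => conj_not_inverted E hx hp hord hW hq2 (g := g) (h := E.s)
      (by rw [inv_eq_of_mul_eq_one_right E.hs.2.2]; exact (hZinv _ h).2), hconjEE, fun z hz => ?_, ?_⟩
  · obtain ⟨i, rfl⟩ := Subgroup.mem_zpowers_iff.1 hz
    obtain ⟨k, hk⟩ := (mem_powers_iff_mem_zpowers (x := f₀) (y := f₀ ^ i)).2 hz
    refine ⟨n ^ k, ?_⟩
    rw [← hk]
    show n ^ k * x * (n ^ k)⁻¹ = x * f₀ ^ k
    clear hk
    induction k with
    | zero => simp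
    | succ k ih =>
      calc n ^ (k + 1) * x * (n ^ (k + 1))⁻¹ = n * (n ^ k * x * (n ^ k)⁻¹) * n⁻¹ := by rw [pow_succ']; group
        _ = n * x * (f₀ ^ k * n⁻¹) := by rw [ih]; group
        _ = n * x * (n⁻¹ * f₀ ^ k) := by
          rw [((show Commute n f₀ from hnZ f₀ (Subgroup.mem_zpowers f₀)).pow_right k).inv_left.eq]
        _ = x * f₀ * f₀ ^ k := by rw [← mul_assoc, hnf]
        _ = _ := by rw [mul_assoc, ← pow_succ']
  by_contra hall
  push Not at hall
  set L := Z ⊔ Subgroup.zpowers n with hL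
  haveI hLn : (L.subgroupOf P0).Normal := by
    refine Subgroup.normal_subgroupOf_of_le_normalizer ?_
    rw [← hgen]
    refine sup_le (fun e he => ?_) (Subgroup.zpowers_le.2 (Subgroup.le_normalizer
      (Subgroup.mem_sup_right (Subgroup.mem_zpowers n))))
    refine Subgroup.mem_normalizer_fintype fun y hy => ?_
    have hsup : L ≤ L.comap (MulAut.conj e).toMonoidHom := by
      refine sup_le (fun z hz => ?_) (Subgroup.zpowers_le.2 ?_)
      · show e * z * e⁻¹ ∈ L
        rw [hab e he z (hZinv z hz).1, mul_inv_cancel_right]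
        exact Subgroup.mem_sup_left hz
      · show e * n * e⁻¹ ∈ L
        obtain ⟨k, hk, f, hf, hfi, rfl⟩ := ee_split E hx hp hord hW hq2 R hab hexp he
        obtain ⟨i, rfl⟩ := Subgroup.mem_zpowers_iff.1 hk
        have e1 : n * x ^ i * n⁻¹ = x ^ i * f₀ ^ i := by
          rw [← conj_zpow, hnf, (show Commute x f₀ from hab x R.x_mem f₀ hf₀).mul_zpow]
        have e2 : x ^ i * f * n * (x ^ i * f)⁻¹ = (f₀ ^ i)⁻¹ * n := by
          calc x ^ i * f * n * (x ^ i * f)⁻¹ = x ^ i * (f * n * f⁻¹) * (x ^ i)⁻¹ := by group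
            _ = x ^ i * n * (x ^ i)⁻¹ := by rw [← hnZ f (hinvZ f hf hfi), mul_inv_cancel_right]
            _ = x ^ i * (n * x ^ i * n⁻¹)⁻¹ * n := by group
            _ = _ := by rw [e1, mul_inv_rev, ← mul_assoc (x ^ i),
              hab _ (Subgroup.zpow_mem _ R.x_mem i) _ (inv_mem (Subgroup.zpow_mem _ hf₀ i)),
              mul_inv_cancel_right]
        rw [e2]
        exact mul_mem (Subgroup.mem_sup_left (inv_mem (Subgroup.zpow_mem _ (Subgroup.mem_zpowers f₀) i)))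
          (Subgroup.mem_sup_right (Subgroup.mem_zpowers n))
    exact hsup hy
  have hLP : L ≤ P0 := sup_le hZP (Subgroup.zpowers_le.2 hnP)
  have hxL : x ∉ L := by
    intro h
    have hLc : L ≤ Subgroup.centralizer ({n} : Set G) :=
      sup_le (fun z hz => Subgroup.mem_centralizer_singleton_iff.2 (hnZ z hz).symm)
        (Subgroup.zpowers_le.2 (Subgroup.mem_centralizer_singleton_iff.2 rfl))
    refine hnx ?_
    rw [← Subgroup.mem_centralizer_singleton_iff.1 (hLc h), mul_inv_cancel_right]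
  have hEl : ∀ e ∈ R.EE, ∃ i : ℤ, ∃ z ∈ Z, e = x ^ i * z := fun e he => by
    obtain ⟨k, hk, f, hf, hfi, rfl⟩ := ee_split E hx hp hord hW hq2 R hab hexp he
    obtain ⟨i, rfl⟩ := Subgroup.mem_zpowers_iff.1 hk
    exact ⟨i, f, hinvZ f hf hfi, rfl⟩
  set π := QuotientGroup.mk' (L.subgroupOf P0)
  set xP : P0 := ⟨x, hEP R.x_mem⟩
  have hπ1 : π xP ≠ 1 := fun h => hxL ((QuotientGroup.eq_one_iff xP).1 h)
  have hcycq : ∀ y : P0 ⧸ L.subgroupOf P0, y ∈ Subgroup.zpowers (π xP) := by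
    intro y
    obtain ⟨⟨g, hg⟩, rfl⟩ := QuotientGroup.mk'_surjective _ y
    have hg' : g ∈ L ⊔ Subgroup.zpowers x := by
      refine (show R.EE ⊔ Subgroup.zpowers n ≤ L ⊔ Subgroup.zpowers x from sup_le (fun e he => ?_)
        ((Subgroup.zpowers_le.2 (Subgroup.mem_sup_right (Subgroup.mem_zpowers n))).trans le_sup_left))
        (hgen.ge hg)
      obtain ⟨i, z, hz, rfl⟩ := hEl e he
      exact mul_mem (Subgroup.mem_sup_right (Subgroup.zpow_mem _ (Subgroup.mem_zpowers x) i))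
        (Subgroup.mem_sup_left (Subgroup.mem_sup_left hz))
    have hle : L ⊔ Subgroup.zpowers x ≤ ((Subgroup.zpowers (π xP)).comap π).map P0.subtype := by
      refine sup_le (fun l hl => ⟨⟨l, hLP hl⟩, ?_, rfl⟩)
        (Subgroup.zpowers_le.2 ⟨xP, Subgroup.mem_zpowers _, rfl⟩)
      show π ⟨l, hLP hl⟩ ∈ Subgroup.zpowers (π xP)
      rw [show π ⟨l, hLP hl⟩ = 1 from (QuotientGroup.eq_one_iff _).2 (Subgroup.mem_subgroupOf.2 hl)]
      exact one_mem _
    obtain ⟨g', hg'', e⟩ := hle hg'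
    rw [show (⟨g, hg⟩ : P0) = g' from Subtype.ext e.symm]
    exact hg''
  letI : CommGroup (P0 ⧸ L.subgroupOf P0) :=
    { (inferInstance : Group (P0 ⧸ L.subgroupOf P0)) with
      mul_comm := fun y z => by
        obtain ⟨i, hi⟩ := Subgroup.mem_zpowers_iff.1 (hcycq y)
        obtain ⟨j, hj⟩ := Subgroup.mem_zpowers_iff.1 (hcycq z)
        rw [← hi, ← hj]
        exact ((Commute.refl (π xP)).zpow_zpow i j).eq }
  let φ : P0 →* P0 ⧸ L.subgroupOf P0 := π
  haveI : Fintype (G ⧸ P0) := Fintype.ofFinite _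
  have hkill : ∀ (g : G) (l : ℕ), 1 < l → l ∣ orderOf x → ∀ h : g⁻¹ * x ^ l * g ∈ P0, φ ⟨_, h⟩ = 1 := by
    intro g l hl hld h
    rw [hord] at hld
    have hlp : l = p := ((Nat.dvd_prime hp).1 hld).resolve_left hl.ne'
    have h1 : (⟨_, h⟩ : P0) = 1 := Subtype.ext (by
      show g⁻¹ * x ^ l * g = 1
      rw [hlp, ← hord, pow_orderOf_eq_one, mul_one, inv_mul_cancel])
    rw [h1, map_one]
  have htr : φ.transfer x = 1 := by
    rcases IsSimpleGroup.eq_bot_or_eq_top_of_normal φ.transfer.ker inferInstance with h | h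
    · exfalso
      have hinj := (MonoidHom.ker_eq_bot_iff φ.transfer).1 h
      exact hnx (mul_inv_eq_iff_eq_mul.2 (hinj (by rw [map_mul, map_mul, mul_comm])))
    · exact MonoidHom.mem_ker.1 (h ▸ Subgroup.mem_top x)
  rw [HallWielandt.transfer_eq_prod_fixed φ x hkill] at htr
  have hval : ∀ q : G ⧸ P0, HallWielandt.fixVal φ x q = if x • q = q then π xP else 1 := by
    intro q
    obtain ⟨g, rfl⟩ := QuotientGroup.mk_surjective q
    by_cases hg : g⁻¹ * x * g ∈ P0
    · rw [if_pos (by rw [MulAction.Quotient.smul_mk, eq_comm, QuotientGroup.eq, smul_eq_mul, ← mul_assoc]; exact hg),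
        HallWielandt.fixVal_mk φ hg]
      have h := hall g⁻¹ (by rwa [inv_inv])
      obtain ⟨z, hz, e⟩ := hconjEE g⁻¹ h
      rw [inv_inv] at e
      show π ⟨g⁻¹ * x * g, hg⟩ = π xP
      rw [show (⟨g⁻¹ * x * g, hg⟩ : P0) = xP * ⟨z, hZP hz⟩ from Subtype.ext e, map_mul,
        show π ⟨z, hZP hz⟩ = 1 from (QuotientGroup.eq_one_iff _).2
          (Subgroup.mem_subgroupOf.2 (Subgroup.mem_sup_left hz)), mul_one]
    · rw [if_neg (fun e => hg (by
        rwa [MulAction.Quotient.smul_mk, eq_comm, QuotientGroup.eq, smul_eq_mul, ← mul_assoc] at e)),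
        HallWielandt.fixVal_mk_of_notMem φ hg]
  rw [Finset.prod_congr rfl fun q _ => hval q, Finset.prod_ite, Finset.prod_const, Finset.prod_const_one,
    mul_one] at htr
  have hordπ : orderOf (π xP) = p := orderOf_eq_prime (by
    rw [← map_pow, show xP ^ p = 1 from Subtype.ext (by
      rw [Subgroup.coe_pow]; show x ^ p = 1; rw [← hord, pow_orderOf_eq_one]), map_one]) hπ1
  have hdiv : p ∣ (Finset.univ.filter fun q : G ⧸ P0 => x • q = q).card := hordπ ▸ orderOf_dvd_of_pow_eq_one htr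
  have hXp : IsPGroup p (Subgroup.zpowers x) := IsPGroup.of_card (n := 1) (by rw [Nat.card_zpowers, hord, pow_one])
  have hmod := hXp.card_modEq_card_fixedPoints (G ⧸ P0)
  have hfx : Nat.card (MulAction.fixedPoints (Subgroup.zpowers x) (G ⧸ P0)) =
      (Finset.univ.filter fun q : G ⧸ P0 => x • q = q).card := by
    rw [← Nat.card_eq_finsetCard]
    refine Nat.card_congr (Equiv.subtypeEquivRight fun q => ?_)
    rw [Finset.mem_filter]
    constructor
    · exact fun h => ⟨Finset.mem_univ _, h ⟨x, Subgroup.mem_zpowers x⟩⟩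
    · rintro ⟨-, h⟩ ⟨g, hg⟩
      exact (Subgroup.zpowers_le.2 (mem_stabilizer_iff.2 h : x ∈ stabilizer G q)) hg
  rw [hfx, ← Subgroup.index_eq_card] at hmod
  exact P.not_dvd_index (Nat.modEq_zero_iff_dvd.1 (hmod.trans (Nat.modEq_zero_iff_dvd.2 hdiv)))

end Cfsg.Agent.Transfer.RankOne
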