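import Cfsg.Agent.Lib.Transfer.RankOne.LocalReg

/-!
The order of the centraliser of an element of `V`, and the orders of subgroups of `V` through the induced field
automorphisms.
-/

set_option autoImplicit false
set_option linter.unusedSectionVars false
set_option linter.style.haveILetI false

namespace Cfsg.Agent.Transfer.RankOne

open MulAction
open Cfsg.Agent.Lie.RankOne (b_ne q_fix q_unique cent_q ne_of_q_smul)

universe u v

variable {G : Type u} {Ω : Type v} [Group G] [MulAction G Ω] [Finite G] [FaithfulSMul G Ω]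
  {a : Ω} {t : G} {Q : Subgroup G} {x : G}

/-- The fixed points of `x` other than `a` correspond to `C_Q(x)`. -/
theorem card_cq (H : Hyp G Ω a t Q) (hx : x ∈ vGrp a t) :
    Nat.card ↥(Q ⊓ Subgroup.centralizer ({x} : Set G)) + 1 = Nat.card (Fx Ω x) := by
  classical
  haveI := Lie.RankOne.finite_omega H.setup
  have e : ↥(Q ⊓ Subgroup.centralizer ({x} : Set G)) ≃ {c : Fx Ω x // c ≠ subA H hx} :=
    Equiv.ofBijective (fun y => ⟨⟨(y : G) • (t • a), by
        rw [← mul_smul, ← Subgroup.mem_centralizer_singleton_iff.1 y.2.2, mul_smul, x_fix_b H hx]⟩,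
      fun h => ne_of_q_smul H.setup y.2.1 (b_ne H.setup) (congrArg Subtype.val h)⟩)
      ⟨fun y y' h => Subtype.ext (q_unique H.setup y.2.1 y'.2.1
          (congrArg (fun c : {c : Fx Ω x // c ≠ subA H hx} => ((c : Fx Ω x) : Ω)) h)),
        fun c => by
          obtain ⟨q, hq, hqc, e⟩ := cent_q H.setup (x_subset hx) (c := ((c : Fx Ω x) : Ω))
            (by rintro y rfl; exact (c : Fx Ω y).2) (fun h => c.2 (Subtype.ext h))
          exact ⟨⟨q, hq, hqc⟩, Subtype.ext (Subtype.ext e)⟩⟩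
  rw [Nat.card_congr e, ← Nat.card_congr (Equiv.optionSubtypeNe (subA H hx)), Finite.card_option]

/-- The centraliser of `x` is transitive on its fixed points. -/
theorem card_cent (H : Hyp G Ω a t Q) (hx : x ∈ vGrp a t) :
    Nat.card (Subgroup.centralizer ({x} : Set G)) = Nat.card (Fx Ω x) *
      (Nat.card ↥(Q ⊓ Subgroup.centralizer ({x} : Set G)) *
        Nat.card ↥(dGrp a t ⊓ Subgroup.centralizer ({x} : Set G))) := by
  classical
  set C := Subgroup.centralizer ({x} : Set G) with hC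
  have hcm : ∀ g : C, x * (g : G) = (g : G) * x := fun g => (Subgroup.mem_centralizer_singleton_iff.1 g.2).symm
  have hor : orbit C a = {c : Ω | x • c = c} := by
    ext c
    constructor
    · rintro ⟨g, rfl⟩
      show x • ((g : G) • a) = (g : G) • a
      rw [← mul_smul, hcm g, mul_smul, x_fix_a H hx]
    · intro hc
      obtain ⟨g, hg, e⟩ := Lie.RankOne.cent_from_a H.setup (x_subset hx) (x_three H hx)
        (c := c) (by rintro y rfl; exact hc)
      exact ⟨⟨g, hg⟩, e⟩
  have e1 : Nat.card (orbit C a) = Nat.card (Fx Ω x) := by rw [hor]; rfl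
  have e2 : Nat.card ↥(Q ⊓ C) * Nat.card ↥(dGrp a t ⊓ C) = Nat.card (stabilizer C a) := by
    rw [← Nat.card_prod]
    refine Nat.card_congr (Equiv.ofBijective (fun p : ↥(Q ⊓ C) × ↥(dGrp a t ⊓ C) =>
      (⟨⟨(p.1 : G) * p.2, mul_mem p.1.2.2 p.2.2.2⟩, mem_stabilizer_iff.2
        (mem_stabilizer_iff.1 (mul_mem (H.setup.le p.1.2.1) p.2.2.1.1))⟩ : stabilizer C a)) ⟨fun p p' h => ?_, fun g => ?_⟩)
    · have h' : (p.1 : G) * p.2 = p'.1 * p'.2 := congrArg (fun z : stabilizer C a => ((z : C) : G)) h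
      have e1 : (p.1 : G) = p'.1 := q_unique H.setup p.1.2.1 p'.1.2.1 (by
        have := congrArg (fun g : G => g • (t • a)) h'
        simpa [mul_smul, mem_stabilizer_iff.1 p.2.2.1.2, mem_stabilizer_iff.1 p'.2.2.1.2] using this)
      rw [e1] at h'
      exact Prod.ext (Subtype.ext e1) (Subtype.ext (mul_left_cancel h'))
    · have hga : ((g : C) : G) ∈ stabilizer G a := mem_stabilizer_iff.2 (mem_stabilizer_iff.1 g.2)
      obtain ⟨q, hq, d, hd, e⟩ := Lie.RankOne.exists_qd H.setup hga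
      have hqc : q ∈ C := by
        obtain ⟨q', hq', hqc', e'⟩ := cent_q H.setup (x_subset hx) (c := ((g : C) : G) • (t • a))
          (by
            rintro y rfl
            rw [← mul_smul, hcm g.1, mul_smul, x_fix_b H hx])
          (fun h => b_ne H.setup (smul_left_cancel ((g : C) : G) (h.trans (mem_stabilizer_iff.1 hga).symm)))
        rw [show q = q' from q_unique H.setup hq hq' (by rw [e', e, mul_smul, mem_stabilizer_iff.1 hd.2])]
        exact hqc'
      refine ⟨(⟨q, hq, hqc⟩, ⟨d, hd, ?_⟩), Subtype.ext (Subtype.ext e.symm)⟩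
      show d ∈ C
      rw [show d = q⁻¹ * ((g : C) : G) by rw [e, inv_mul_cancel_left]]
      exact mul_mem (inv_mem hqc) g.1.2
  rw [← e1, e2, ← Nat.card_prod]
  exact (Nat.card_congr (MulAction.orbitProdStabilizerEquivGroup C a)).symm

variable {F : Type} [Field F] (E : Env a t Q F)
include E

/-- An element of the two-point stabiliser centralising `x` lies in `V` when `x` fixes one involution. -/
theorem d_cent_mem_v (hx : x ∈ vGrp a t)
    (hq2 : Nat.card ↥(zGrp G a ⊓ Subgroup.centralizer ({x} : Set G)) = 2) {d : G} (hd : d ∈ dGrp a t)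
    (hc : d * x = x * d) : d ∈ vGrp a t := by
  obtain ⟨k, hk, y, hy, e⟩ := exists_decomp E.hyp hd
  obtain ⟨e1, -⟩ := decomp_unique E.hyp (conj_kGrp E.hyp hx.1 hk) hk
    (mul_mem (mul_mem hx hy) (inv_mem hx)) hy (by
      rw [show x * k * x⁻¹ * (x * y * x⁻¹) = x * (k * y) * x⁻¹ by group, ← e, ← hc, mul_inv_cancel_right])
  obtain ⟨c, rfl⟩ := E.C.kap_surj k hk
  rw [E.sig_kap hx] at e1
  have h1 : E.sig hx (c : F) = c := congrArg Units.val (E.C.kap_inj e1)
  have h0 : E.sig hx 1 = 1 := map_one _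
  rw [E.card_cent_z hx] at hq2
  have hc1 : c = 1 := by
    by_contra hne
    haveI : Finite {y : F // E.sig hx y = y} := Nat.finite_of_card_ne_zero (by omega)
    haveI : Fintype {y : F // E.sig hx y = y} := Fintype.ofFinite _
    classical
    have h3 : ({⟨0, map_zero _⟩, ⟨1, h0⟩, ⟨(c : F), h1⟩} : Finset {y : F // E.sig hx y = y}).card = 3 :=
      Finset.card_eq_three.2 ⟨_, _, _, fun h => zero_ne_one (congrArg Subtype.val h),
        fun h => c.ne_zero (congrArg Subtype.val h).symm,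
        fun h => hne (Units.ext (congrArg Subtype.val h).symm), rfl⟩
    have h4 := Finset.card_le_univ ({⟨0, map_zero _⟩, ⟨1, h0⟩, ⟨(c : F), h1⟩} :
      Finset {y : F // E.sig hx y = y})
    rw [h3, ← Nat.card_eq_fintype_card, hq2] at h4
    omega
  have hk1 : E.C.kap c = 1 := by
    rw [hc1]
    exact mul_eq_left.1 ((E.C.kap_mul 1 1).symm.trans (by rw [one_mul]))
  rw [e, hk1, one_mul]
  exact hy

theorem dGrp_inf_cent (hx : x ∈ vGrp a t)
    (hq2 : Nat.card ↥(zGrp G a ⊓ Subgroup.centralizer ({x} : Set G)) = 2) :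
    dGrp a t ⊓ Subgroup.centralizer ({x} : Set G) = vGrp a t ⊓ Subgroup.centralizer ({x} : Set G) :=
  le_antisymm (fun _ hd => ⟨d_cent_mem_v E hx hq2 hd.1 (Subgroup.mem_centralizer_singleton_iff.1 hd.2), hd.2⟩)
    (inf_le_inf_right _ vGrp_le_dGrp)

/-- A subgroup of `V` containing `x` is `p` times its intersection with `W`. -/
theorem card_sub_v [Finite F] {p : ℕ} (hx : x ∈ vGrp a t) (hp : p.Prime) (hord : orderOf x = p)
    (hW : x ∉ wGrp a t) (hq2 : Nat.card ↥(zGrp G a ⊓ Subgroup.centralizer ({x} : Set G)) = 2)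
    {X : Subgroup G} (hX : X ≤ vGrp a t) (hxX : x ∈ X) :
    Nat.card X = p * Nat.card ↥(X ⊓ wGrp a t) := by
  classical
  let f : X →* (F ≃+* F) := MonoidHom.mk' (fun y => E.sig (hX y.2)) fun y y' => E.sig_mul (hX y.2) (hX y'.2)
  have hr : f.range = Subgroup.zpowers (E.sig hx) := by
    refine le_antisymm ?_ (Subgroup.zpowers_le.2 ⟨⟨x, hxX⟩, rfl⟩)
    rintro _ ⟨y, rfl⟩
    exact sig_mem_zpowers E hx hp hord hW hq2 (hX y.2)
  have hk : Nat.card f.ker = Nat.card ↥(X ⊓ wGrp a t) := Nat.card_congr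
    { toFun := fun y => ⟨y.1.1, y.1.2, (E.sig_one_iff (hX y.1.2)).1 (MonoidHom.mem_ker.1 y.2)⟩
      invFun := fun y => ⟨⟨y.1, y.2.1⟩, MonoidHom.mem_ker.2 ((E.sig_one_iff (hX y.2.1)).2 y.2.2)⟩
      left_inv := fun _ => rfl
      right_inv := fun _ => rfl }
  rw [← hk, ← Subgroup.card_mul_index f.ker, Subgroup.index_ker, hr, Nat.card_zpowers,
    E.sig_order hx hp hord hW, mul_comm]

end Cfsg.Agent.Transfer.RankOne
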