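import Cfsg.Agent.Lib.Transfer.RankOne.Basic
import Cfsg.Agent.Lib.Char.DihBlockInvolution
import Cfsg.Agent.Lib.Char.CohBasic
import Cfsg.Agent.Lib.Block.KleinFour

/-!
Characters induced from the regular normal subgroup `Q` of a point stabiliser in the rank-one set-up: the inner
products, and the weighted sum `∑ ⟨f, χ⟩ χ(s)² / χ(1)` computed by counting pairs of involutions.
-/

set_option autoImplicit false
set_option linter.unusedSectionVars false
set_option maxHeartbeats 800000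

namespace Cfsg.Agent.Transfer.RankOne

open MulAction
open scoped ComplexConjugate
open Cfsg.Agent.Char
open Cfsg.Agent.Lie.RankOne (b_ne q_fix q_unique exists_qd exists_q semireg invol_mem_Q fix_unique fix_unique' inv_t)

universe u v

variable {G : Type u} {Ω : Type v} [Group G] [MulAction G Ω] [Fintype G] [FaithfulSMul G Ω]
  {a : Ω} {t : G} {Q : Subgroup G} [Fintype Q] (H : Hyp G Ω a t Q)

include H

/-- Conjugation of an element of `Q` by an element of the two-point stabiliser. -/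
def qConj (d : dGrp a t) (x : Q) : Q :=
  ⟨(d : G)⁻¹ * x * d, by simpa using H.setup.conj_mem _ (inv_mem d.2.1) _ x.2⟩

theorem qConj_coe (d : dGrp a t) (x : Q) : ((qConj H d x : Q) : G) = (d : G)⁻¹ * x * d := rfl

theorem qConj_one_apply (x : Q) : qConj H 1 x = x := Subtype.ext (by simp [qConj_coe])

theorem qConj_one (d : dGrp a t) : qConj H d 1 = 1 := Subtype.ext (by simp [qConj_coe])

/-- Only the elements of the point stabiliser move a non-identity element of `Q` into `Q`. -/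
theorem mem_stab_of_conj {x g : G} (hx : x ∈ Q) (hx1 : x ≠ 1) (h : g⁻¹ * x * g ∈ Q) :
    g ∈ stabilizer G a := by
  refine mem_stabilizer_iff.2 ?_
  by_contra hne
  refine hx1 (semireg H.setup hx hne ?_)
  have h2 := q_fix H.setup h
  rwa [mul_smul, mul_smul, inv_smul_eq_iff] at h2

/-- The value of an induced class function on a non-identity element of `Q`. -/
theorem indFun_apply_Q {ξ : Q → ℂ} (hξ : IsClassFunction Q ξ) {x : Q} (hx : x ≠ 1) :
    indFun Q ξ (x : G) = ∑ᶠ d : dGrp a t, ξ (qConj H d x) := by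
  classical
  haveI : Fintype (dGrp a t) := Fintype.ofFinite _
  rw [finsum_eq_sum_of_fintype]
  have hx1 : (x : G) ≠ 1 := fun h => hx (Subtype.ext h)
  let e : dGrp a t × Q ↪ G := ⟨fun p => (p.1 : G) * p.2, fun p p' h => by
    have h' : (p.1 : G) * p.2 = p'.1 * p'.2 := h
    have e1 : (p.1 : G) * p.2 * (p.1 : G)⁻¹ = (p'.1 * p'.2 * (p'.1 : G)⁻¹) * (p'.1 * (p.1 : G)⁻¹) := by
      rw [← h']; group
    have e2 : ((p.1 : G) * p.2 * (p.1 : G)⁻¹) • (t • a) = ((p'.1 : G) * p'.2 * (p'.1 : G)⁻¹) • (t • a) := by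
      rw [e1]
      simp only [mul_smul, mem_stabilizer_iff.1 p'.1.2.2, mem_stabilizer_iff.1 (inv_mem p.1.2.2)]
    have e3 := q_unique H.setup (H.setup.conj_mem _ p.1.2.1 _ p.2.2) (H.setup.conj_mem _ p'.1.2.1 _ p'.2.2) e2
    have e4 : (p.1 : G) = p'.1 := by
      rw [e3] at e1
      have := (mul_eq_left.1 e1.symm)
      exact (mul_inv_eq_one.1 this).symm
    refine Prod.ext (Subtype.ext e4) (Subtype.ext ?_)
    rw [e4] at h'
    exact mul_left_cancel h'⟩
  have hsum : ∑ g : G, extendByZero Q ξ (g⁻¹ * x * g) = ∑ p ∈ Finset.univ.map e, extendByZero Q ξ (p⁻¹ * x * p) := by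
    refine (Finset.sum_subset (Finset.subset_univ _) fun g _ hg => ?_).symm
    refine extendByZero_not_mem ξ fun hm => hg ?_
    obtain ⟨q, hq, d, hd, rfl⟩ := exists_qd H.setup (mem_stab_of_conj H x.2 hx1 hm)
    refine Finset.mem_map.2 ⟨(⟨d, hd⟩, ⟨d⁻¹ * q * d, by simpa using H.setup.conj_mem _ (inv_mem hd.1) _ hq⟩),
      Finset.mem_univ _, ?_⟩
    show d * (d⁻¹ * q * d) = q * d
    group
  rw [indFun, hsum, Finset.sum_map, Fintype.sum_prod_type, Finset.mul_sum]
  refine Finset.sum_congr rfl fun d _ => ?_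
  have h1 : ∀ q : Q, extendByZero Q ξ ((e (d, q))⁻¹ * x * e (d, q)) = ξ (qConj H d x) := fun q => by
    have e1 : (e (d, q))⁻¹ * x * e (d, q) = ((q⁻¹ * qConj H d x * q : Q) : G) := by
      show ((d : G) * q)⁻¹ * x * ((d : G) * q) = _
      rw [Subgroup.coe_mul, Subgroup.coe_mul, Subgroup.coe_inv, qConj_coe]
      group
    rw [e1, extendByZero_apply]
    simpa using hξ (qConj H d x) q⁻¹
  rw [Finset.sum_congr rfl fun q _ => h1 q, Finset.sum_const, Finset.card_univ, nsmul_eq_mul,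
    ← Nat.card_eq_fintype_card, ← mul_assoc, inv_mul_cancel₀ (Nat.cast_ne_zero.2 Nat.card_pos.ne'), one_mul]

/-- The inner product of two induced functions vanishing at the identity. -/
theorem classInner_ind {ξ η : Q → ℂ} (hη : IsClassFunction Q η) (h0 : ξ 1 = 0) :
    classInner (indFun Q ξ) (indFun Q η) = ∑ᶠ d : dGrp a t, classInner ξ (fun x => η (qConj H d x)) := by
  classical
  haveI : Fintype (dGrp a t) := Fintype.ofFinite _
  rw [classInner_indFun Q ξ (indFun_classFun Q η), finsum_eq_sum_of_fintype]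
  simp only [classInner, ← Finset.mul_sum]
  congr 1
  rw [Finset.sum_comm]
  refine Finset.sum_congr rfl fun x _ => ?_
  by_cases hx : x = 1
  · subst hx
    simp [h0]
  · rw [indFun_apply_Q H hη hx, finsum_eq_sum_of_fintype, map_sum, Finset.mul_sum]

omit H in
/-- The weighted sum `∑ ⟨f, χ⟩ χ(s)² / χ(1)`. -/
noncomputable def lam (s : G) (f : G → ℂ) : ℂ :=
  ∑ χ : IrrCharacter G, classInner f (χ : G → ℂ) * ((χ : G → ℂ) s ^ 2 / (χ : G → ℂ) 1)

omit H in
theorem lam_sub (s : G) (f g : G → ℂ) : lam s (f - g) = lam s f - lam s g := by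
  simp [lam, classInner_sub_left, sub_mul, Finset.sum_sub_distrib]

omit H in
theorem lam_smul (s : G) (c : ℂ) (f : G → ℂ) : lam s (c • f) = c * lam s f := by
  simp [lam, classInner_smul_left, Finset.mul_sum, mul_assoc]

omit H in
/-- The weighted sum of a signed irreducible character. -/
theorem lam_signed (s : G) {f : G → ℂ} (hf : IsIrrCharacter G f ∨ IsIrrCharacter G (-f)) :
    lam s f = f s ^ 2 / f 1 := by
  classical
  have key : ∀ g : G → ℂ, IsIrrCharacter G g → lam s g = g s ^ 2 / g 1 := fun g hg => by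
    rw [lam, Finset.sum_eq_single (⟨g, hg⟩ : IrrCharacter G)]
    · rw [classInner_self_irr hg, one_mul]
    · intro χ _ hne
      rw [classInner_irr_ne hg χ.2 fun e => hne (Subtype.ext e.symm), zero_mul]
    · simp
  rcases hf with hf | hf
  · exact key f hf
  · have h := key _ hf
    have e : lam s f = -lam s (-f) := by
      rw [show f = (-1 : ℂ) • (-f) by simp, lam_smul]; simp
    rw [e, h]
    simp [neg_div_neg_eq, div_neg]

/-- The number of ways of writing an element of `Q` as a product of two involutions. -/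
theorem cnt_of_mem_Q {x : G} (hx : x ∈ Q) (hx1 : x ≠ 1) [Decidable (x ∈ zGrp G a)] :
    DihBlk.cnt x = if x ∈ zGrp G a then Nat.card (zGrp G a) - 2 else 0 := by
  classical
  have key : ∀ s : G, s ∈ DihBlk.invs G ∧ s * x ∈ DihBlk.invs G ↔
      x ∈ zGrp G a ∧ s ∈ zGrp G a ∧ s ≠ 1 ∧ s ≠ x := by
    intro s
    rw [DihBlk.mem_invs, DihBlk.mem_invs]
    constructor
    · rintro ⟨⟨h1, h2⟩, h3, h4⟩
      have hinv : s * x * s = x⁻¹ := eq_inv_of_mul_eq_one_left (by rw [mul_assoc]; exact h3)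
      have hsa : s ∈ stabilizer G a := by
        have : s⁻¹ * x * s ∈ Q := by
          rw [inv_eq_of_mul_eq_one_right h1, hinv]; exact inv_mem hx
        exact mem_stab_of_conj H hx hx1 this
      have hs : s ∈ zGrp G a := (mem_zGrp H).2 ⟨hsa, h1⟩
      have hsx : s * x ∈ zGrp G a := (mem_zGrp H).2 ⟨mul_mem hsa (H.setup.le hx), h3⟩
      refine ⟨?_, hs, h2, fun e => h4 (by rw [← e]; exact h1)⟩
      have := mul_mem hs hsx
      rwa [← mul_assoc, h1, one_mul] at this
    · rintro ⟨hxz, hs, h2, h3⟩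
      refine ⟨⟨((mem_zGrp H).1 hs).2, h2⟩, ((mem_zGrp H).1 (mul_mem hs hxz)).2, fun e => h3 ?_⟩
      rw [← inv_eq_of_mul_eq_one_right e, inv_eq_of_mul_eq_one_right ((mem_zGrp H).1 hs).2]
  rw [DihBlk.cnt, Nat.card_congr (Equiv.subtypeEquivRight key)]
  split_ifs with hz
  · haveI := Fintype.ofFinite (zGrp G a)
    have h1 : Nat.card {s : G // x ∈ zGrp G a ∧ s ∈ zGrp G a ∧ s ≠ 1 ∧ s ≠ x} =
        Nat.card {s : zGrp G a // s ∉ ({1, ⟨x, hz⟩} : Finset (zGrp G a))} := by
      refine Nat.card_congr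
        { toFun := fun s => ⟨⟨s.1, s.2.2.1⟩, by simp [Subtype.ext_iff, s.2.2.2.1, s.2.2.2.2]⟩
          invFun := fun s => ⟨s.1.1, hz, s.1.2, ?_, ?_⟩
          left_inv := fun _ => rfl
          right_inv := fun _ => rfl }
      · intro e; exact s.2 (by simp [Subtype.ext_iff, e])
      · intro e; exact s.2 (by simp [Subtype.ext_iff, e])
    rw [h1, Nat.card_eq_fintype_card, Fintype.card_subtype, Finset.filter_not, Finset.card_univ_diff,
      ← Nat.card_eq_fintype_card]
    congr 1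
    rw [show Finset.univ.filter (fun s : zGrp G a => s ∈ ({1, ⟨x, hz⟩} : Finset (zGrp G a))) = {1, ⟨x, hz⟩} by
      ext s; simp]
    exact Finset.card_pair fun e => hx1 (congrArg Subtype.val e).symm
  · haveI : IsEmpty {s : G // x ∈ zGrp G a ∧ s ∈ zGrp G a ∧ s ≠ 1 ∧ s ≠ x} := ⟨fun s => hz s.2.1⟩
    exact Nat.card_of_isEmpty

/-- The weighted sum of a function induced from `Q` and vanishing at the identity. -/
theorem lam_ind {s r : G} (hs : s ∈ Cfsg.involutionsIn (stabilizer G a : Set G)) (hr : r ∈ Q)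
    (e : t * s * t = r⁻¹ * t * r) {ξ : Q → ℂ} (h0 : ξ 1 = 0)
    [DecidablePred fun x : Q => (x : G) ∈ zGrp G a] :
    (Nat.card G : ℂ) * lam s (indFun Q ξ) = ((Nat.card (zGrp G a) : ℂ) - 2) * Nat.card Q *
      (Nat.card (vGrp a t) : ℂ) ^ 2 *
      ∑ x ∈ Finset.univ.filter (fun x : Q => (x : G) ∈ zGrp G a), ξ x := by
  classical
  have hI : ∀ χ : IrrCharacter G, ∑ y ∈ DihBlk.invs G, (χ : G → ℂ) y =
      ((DihBlk.invs G).card : ℂ) * (χ : G → ℂ) s := fun χ => by
    rw [Finset.sum_congr rfl (g := fun _ => (χ : G → ℂ) s) fun y hy => ?_, Finset.sum_const, nsmul_eq_mul]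
    obtain ⟨hy1, hy2⟩ := DihBlk.mem_invs.1 hy
    obtain ⟨g, hg⟩ := Lie.RankOne.all_conj H.setup hs.2.1 hs.2.2 hy2 hy1
    rw [← hg, IsIrr.classFun χ.2]
  have hIC : ((DihBlk.invs G).card : ℂ) * (Nat.card Q * Nat.card (vGrp a t)) = Nat.card G := by
    rw [← Nat.cast_mul, ← card_centralizer_dist H hs hr e, ← Nat.cast_mul]
    congr 1
    have h1 : (DihBlk.invs G).card = Nat.card {g : G // IsConj s g} := by
      rw [← Nat.card_eq_finsetCard]
      refine Nat.card_congr (Equiv.subtypeEquivRight fun g => ?_)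
      rw [DihBlk.mem_invs]
      constructor
      · intro h
        exact isConj_iff.2 (Lie.RankOne.all_conj H.setup hs.2.1 hs.2.2 h.2 h.1)
      · intro h
        obtain ⟨c, rfl⟩ := isConj_iff.1 h
        exact ⟨by rw [conj_mul, hs.2.2, mul_one, mul_inv_cancel], fun h => hs.2.1 (conj_eq_one_iff.1 h)⟩
    rw [h1, card_conjClass, Subgroup.index_mul_card]
  have hQ : (Nat.card Q : ℂ) ≠ 0 := Nat.cast_ne_zero.2 Nat.card_pos.ne'
  have hinv : ∀ x : Q, ∑ χ : IrrCharacter G, conj ((χ : G → ℂ) x) * ((χ : G → ℂ) s ^ 2 / (χ : G → ℂ) 1) *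
      ((DihBlk.invs G).card : ℂ) ^ 2 = (Nat.card G : ℂ) * DihBlk.cnt ((x : G)⁻¹) := fun x => by
    rw [DihBlk.cnt_formula]
    refine Finset.sum_congr rfl fun χ _ => ?_
    rw [hI χ, Block.irr_apply_inv]
    ring
  have h2 : ((DihBlk.invs G).card : ℂ) ^ 2 * lam s (indFun Q ξ) =
      (Nat.card Q : ℂ)⁻¹ * ∑ x : Q, ξ x * ((Nat.card G : ℂ) * DihBlk.cnt ((x : G)⁻¹)) := by
    have e1 : ∀ χ : IrrCharacter G, ((DihBlk.invs G).card : ℂ) ^ 2 *
        (classInner (indFun Q ξ) (χ : G → ℂ) * ((χ : G → ℂ) s ^ 2 / (χ : G → ℂ) 1)) =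
        ∑ x : Q, (Nat.card Q : ℂ)⁻¹ * (ξ x * (conj ((χ : G → ℂ) x) * ((χ : G → ℂ) s ^ 2 / (χ : G → ℂ) 1) *
          ((DihBlk.invs G).card : ℂ) ^ 2)) := fun χ => by
      rw [classInner_indFun Q ξ (IsIrr.classFun χ.2), classInner, Finset.mul_sum, Finset.sum_mul, Finset.mul_sum]
      exact Finset.sum_congr rfl fun x _ => by ring
    rw [lam, Finset.mul_sum, Finset.sum_congr rfl fun χ _ => e1 χ, Finset.sum_comm, Finset.mul_sum]
    refine Finset.sum_congr rfl fun x _ => ?_
    rw [← hinv x, Finset.mul_sum, Finset.mul_sum]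
  have h3 : ∑ x : Q, ξ x * ((Nat.card G : ℂ) * DihBlk.cnt ((x : G)⁻¹)) =
      (Nat.card G : ℂ) * ((Nat.card (zGrp G a) : ℂ) - 2) *
        ∑ x ∈ Finset.univ.filter (fun x : Q => (x : G) ∈ zGrp G a), ξ x := by
    rw [Finset.mul_sum, Finset.sum_filter]
    refine Finset.sum_congr rfl fun x _ => ?_
    by_cases hx : x = 1
    · subst hx
      simp [h0]
    rw [cnt_of_mem_Q H (inv_mem x.2) (by simpa using hx)]
    simp only [inv_mem_iff]
    split_ifs with hz
    · rw [Nat.cast_sub (le_trans (by norm_num) (four_le_q H))]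
      push_cast; ring
    · simp
  rw [h3] at h2
  have hI0 : ((DihBlk.invs G).card : ℂ) ≠ 0 := fun h => by
    rw [h, zero_mul] at hIC
    exact Nat.cast_ne_zero.2 (Nat.card_pos (α := G)).ne' hIC.symm
  refine mul_left_cancel₀ (pow_ne_zero 2 hI0) ?_
  rw [← mul_assoc, mul_comm _ (Nat.card G : ℂ), mul_assoc, h2, ← hIC]
  field_simp

/-- The distinguished involution has an integral value at every generalized character. -/
theorem int_at {s : G} (hs2 : s * s = 1) {f : G → ℂ} (hf : IsGeneralizedCharacter G f) :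
    ∃ n : ℤ, f s = n := by
  classical
  obtain ⟨c, -, rfl⟩ := IsGenChar.exists_decomp hf
  choose d hd using fun χ : IrrCharacter G => Block.char_involution_int χ hs2
  exact ⟨∑ χ, c χ * d χ, by simp [hd]⟩

end Cfsg.Agent.Transfer.RankOne
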