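import Cfsg.Agent.Lib.Transfer.RankOne.Family

/-!
Values at the distinguished involution of induced functions, and the degree relation for a pair of signed
characters of a free family.
-/

set_option autoImplicit false
set_option linter.unusedSectionVars false
set_option linter.style.haveILetI false

namespace Cfsg.Agent.Transfer.RankOne

open MulAction
open scoped ComplexConjugate
open Cfsg.Agent.Char
open Cfsg.Agent.Lie.RankOne (invol_mem_Q)

universe u v

variable {G : Type u} {Ω : Type v} [Group G] [MulAction G Ω] [Fintype G] [FaithfulSMul G Ω]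
  {a : Ω} {t : G} {Q : Subgroup G} [Fintype Q] (H : Hyp G Ω a t Q)
include H

omit H in
/-- The elements of `Z₀` inside `Q`. -/
noncomputable def zSet (Q : Subgroup G) [Fintype Q] (a : Ω) : Finset Q :=
  open scoped _root_.Classical in Finset.univ.filter fun x : Q => (x : G) ∈ zGrp G a

omit H in
theorem mem_zSet {x : Q} : x ∈ zSet Q a ↔ (x : G) ∈ zGrp G a := by
  classical
  simp [zSet]

theorem card_zSet : (zSet Q a).card = Nat.card (zGrp G a) := by
  classical
  rw [← Nat.card_eq_finsetCard]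
  exact Nat.card_congr
    { toFun := fun x => ⟨x.1.1, (mem_zSet).1 x.2⟩
      invFun := fun z => ⟨⟨z.1, zGrp_le H z.2⟩, (mem_zSet).2 z.2⟩
      left_inv := fun _ => rfl
      right_inv := fun _ => rfl }

theorem ind_at_s {s r : G} (hs : s ∈ Cfsg.involutionsIn (stabilizer G a : Set G)) (hr : r ∈ Q)
    (e : t * s * t = r⁻¹ * t * r) {ξ : Q → ℂ} (hξ : IsClassFunction Q ξ) :
    indFun Q ξ s = (Nat.card (vGrp a t) : ℂ) * (∑ x ∈ zSet Q a, ξ x - ξ 1) := by
  classical
  haveI : Fintype (dGrp a t) := Fintype.ofFinite _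
  haveI : Fintype (kGrp a t) := Fintype.ofFinite _
  haveI : Fintype (vGrp a t) := Fintype.ofFinite _
  have hsQ : s ∈ Q := invol_mem_Q H.setup hs.1 hs.2.2
  have hsz : s ∈ zGrp G a := Subgroup.subset_closure hs
  rw [show s = ((⟨s, hsQ⟩ : Q) : G) from rfl,
    indFun_apply_Q H hξ (fun h => hs.2.1 (congrArg Subtype.val h)), finsum_eq_sum_of_fintype]
  let f : vGrp a t × kGrp a t → dGrp a t :=
    fun p => ⟨p.1 * p.2, mul_mem (vGrp_le_dGrp p.1.2) (kGrp_le_dGrp H p.2.2)⟩
  have hf : Function.Bijective f := by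
    refine (Nat.bijective_iff_injective_and_card f).2 ⟨fun p p' h => ?_, ?_⟩
    · have h' := congrArg (fun d : dGrp a t => ((d : G))⁻¹) h
      simp only [f, mul_inv_rev] at h'
      obtain ⟨h1, h2⟩ := decomp_unique H (inv_mem p.2.2) (inv_mem p'.2.2) (inv_mem p.1.2) (inv_mem p'.1.2) h'
      exact Prod.ext (Subtype.ext (inv_injective h2)) (Subtype.ext (inv_injective h1))
    · rw [Nat.card_prod, card_dGrp H, mul_comm]
  rw [← (Equiv.ofBijective f hf).sum_comp, Fintype.sum_prod_type]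
  have hval : ∀ (x : vGrp a t) (k : kGrp a t), qConj H (f (x, k)) ⟨s, hsQ⟩ =
      ⟨(k : G)⁻¹ * s * k, by simpa using H.setup.conj_mem _ (inv_mem (kGrp_le_dGrp H k.2).1) _ hsQ⟩ := by
    intro x k
    refine Subtype.ext ?_
    rw [qConj_coe]
    show ((x : G) * k)⁻¹ * s * (x * k) = (k : G)⁻¹ * s * k
    calc ((x : G) * k)⁻¹ * s * (x * k) = (k : G)⁻¹ * ((x : G)⁻¹ * (s * x)) * k := by group
      _ = _ := by rw [(v_dist H hs hr e x.2.1).1 x.2, inv_mul_cancel_left]
  simp only [Equiv.ofBijective_apply, hval, Finset.sum_const, Finset.card_univ, nsmul_eq_mul,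
    ← Nat.card_eq_fintype_card]
  congr 1
  have h1 : (1 : Q) ∈ zSet Q a := (mem_zSet).2 (one_mem _)
  rw [← Finset.sum_erase_eq_sub h1]
  let g : kGrp a t → Q := fun k =>
    ⟨(k : G)⁻¹ * s * k, by simpa using H.setup.conj_mem _ (inv_mem (kGrp_le_dGrp H k.2).1) _ hsQ⟩
  have hg : Function.Injective g := fun k k' h => by
    have h' : (k : G)⁻¹ * s * k = (k' : G)⁻¹ * s * k' := congrArg Subtype.val h
    have hd : s * ((k : G) * (k' : G)⁻¹) = (k : G) * (k' : G)⁻¹ * s := by
      calc s * ((k : G) * (k' : G)⁻¹) = k * ((k : G)⁻¹ * s * k) * (k' : G)⁻¹ := by group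
        _ = _ := by rw [h']; group
    have hm := mul_mem k.2 (inv_mem k'.2)
    exact Subtype.ext (mul_inv_eq_one.1 (k_inter_v H hm ((v_dist H hs hr e (kGrp_le_dGrp H hm)).2 hd)))
  have himg : Finset.univ.image g = (zSet Q a).erase 1 := by
    refine Finset.eq_of_subset_of_card_le (fun x hx => ?_) ?_
    · obtain ⟨k, -, rfl⟩ := Finset.mem_image.1 hx
      have hz := conj_zGrp H (inv_mem (kGrp_le_dGrp H k.2).1) hsz
      rw [inv_inv] at hz
      refine Finset.mem_erase.2 ⟨fun h => hs.2.1 ?_, (mem_zSet).2 hz⟩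
      have h' : (k : G)⁻¹ * s * k = 1 := congrArg Subtype.val h
      calc s = k * ((k : G)⁻¹ * s * k) * (k : G)⁻¹ := by group
        _ = 1 := by rw [h']; group
    · rw [Finset.card_erase_of_mem h1, card_zSet H, Finset.card_image_of_injective _ hg, Finset.card_univ,
        ← Nat.card_eq_fintype_card]
      have := card_kGrp H
      omega
  rw [← himg, Finset.sum_image fun i _ j _ h => hg h]

/-- The degree relation for two members of a free family, one trivial and one non-trivial on `Z₀`. -/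
theorem degree_relation {s r : G} (hs : s ∈ Cfsg.involutionsIn (stabilizer G a : Set G)) (hr : r ∈ Q)
    (e : t * s * t = r⁻¹ * t * r) {f₁ f₀ : G → ℂ}
    (h₁ : IsIrrCharacter G f₁ ∨ IsIrrCharacter G (-f₁)) (h₀ : IsIrrCharacter G f₀ ∨ IsIrrCharacter G (-f₀))
    {k : ℕ} (hk : k ≠ 0) {ξ : Q → ℂ} (hξ : ξ 1 = 0) (heq : f₁ - (k : ℂ) • f₀ = indFun Q ξ)
    {y κ : ℂ} (hy : y ≠ 0) (hsum : ∑ x ∈ zSet Q a, ξ x = -((k : ℂ) * y * Nat.card (zGrp G a)))
    (h₁s : f₁ s = (k : ℂ) * y * (κ - Nat.card (vGrp a t)))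
    (h₀s : f₀ s = y * (κ + Nat.card (dGrp a t))) (h₁1 : f₁ 1 = (k : ℂ) * f₀ 1) :
    f₀ 1 * ((Nat.card (zGrp G a) : ℂ) - 2) = y * ((Nat.card Q : ℂ) + 1) *
      ((Nat.card (zGrp G a) : ℂ) - 1) * ((Nat.card (dGrp a t) : ℂ) - Nat.card (vGrp a t) + 2 * κ) := by
  classical
  have h01 : f₀ 1 ≠ 0 := by
    rcases h₀ with h | h
    · exact IsIrr.one_ne_zero h
    · exact fun h' => IsIrr.one_ne_zero h (by simp [h'])
  have hl := lam_ind H hs hr e hξ
  rw [show (Finset.univ.filter fun x : Q => (x : G) ∈ zGrp G a) = zSet Q a by ext x; simp [mem_zSet],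
    hsum, ← heq, lam_sub, lam_smul, lam_signed s h₁, lam_signed s h₀, h₁s, h₀s, h₁1] at hl
  have hG : (Nat.card G : ℂ) = (Nat.card Q : ℂ) * Nat.card (dGrp a t) * ((Nat.card Q : ℂ) + 1) := by
    exact_mod_cast Lie.RankOne.card_group H.setup
  have hqv : (Nat.card (zGrp G a) : ℂ) * Nat.card (vGrp a t) =
      (Nat.card (dGrp a t) : ℂ) + Nat.card (vGrp a t) := by
    rw [card_dGrp H, ← card_kGrp H]; push_cast; ring
  have hD : (Nat.card (dGrp a t) : ℂ) = ((Nat.card (zGrp G a) : ℂ) - 1) * Nat.card (vGrp a t) := by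
    linear_combination -hqv
  have hne : ∀ {n : ℕ}, 0 < n → (n : ℂ) ≠ 0 := fun hn => Nat.cast_ne_zero.2 hn.ne'
  have hQ := hne (Nat.card_pos (α := Q))
  have hv := hne (Nat.card_pos (α := vGrp a t))
  have hq := hne (Nat.card_pos (α := zGrp G a))
  have hkc : (k : ℂ) ≠ 0 := Nat.cast_ne_zero.2 hk
  rw [hG, hD] at hl
  rw [hD]
  field_simp at hl
  set q : ℂ := (Nat.card (zGrp G a) : ℂ)
  set v : ℂ := (Nat.card (vGrp a t) : ℂ)
  set N : ℂ := (Nat.card Q : ℂ)
  refine mul_left_cancel₀ (mul_ne_zero hq hv) ?_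
  linear_combination hl

end Cfsg.Agent.Transfer.RankOne
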