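import Cfsg.Agent.Lib.Transfer.RankOne.QuadForm

/-!
The cocycle of a group of Heisenberg type with the norm identity coming from the involutions: the squaring map is
the norm and the cocycle is sesquilinear.
-/

set_option autoImplicit false
set_option linter.unusedSectionVars false
set_option linter.style.haveILetI false

namespace Cfsg.Agent.Transfer.RankOne

variable {F : Type} [Field F] [Finite F] [CharP F 2] {K : Type} [Field K] [Finite K] [CharP K 2]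

/-- The hypotheses on the cocycle. -/
structure CocData (X₂ : QExt F K) where
  P : K → K → K
  S : K → F
  τ : K → F
  ψ : K →+* K
  c : K
  ζ : K
  hζ : ζ * X₂.J ζ = 1
  hζj : ∀ y, X₂.j y ≠ ζ
  hψ : ψ ζ * ζ = 1
  form : ∀ v, X₂.j (S v) = X₂.tr (c * v * ψ v)
  one : S 1 = 1
  S_ne : ∀ v, v ≠ 0 → S v ≠ 0
  τ_zero : τ 0 = 0
  τ_ζ : ∀ v, τ (ζ * v) = τ v
  self : ∀ x, P x x = X₂.j (S x)
  anti : ∀ x y, P x y + P y x = X₂.j (S (x + y) + S x + S y)
  trace : ∀ x y, X₂.tr (P x y) = X₂.j (τ (x + y) + τ x + τ y)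
  assoc : ∀ x y z, P x y + P (x + y) z = P y z + P x (y + z)
  P_ζ : ∀ x y, P (ζ * x) (ζ * y) = P x y
  scale : ∀ y, y ≠ 0 → ∃ γ : F, γ ≠ 0 ∧
    ∀ u v, S (X₂.j y * u) = γ * S u ∧ P (X₂.j y * u) (X₂.j y * v) = X₂.j γ * P u v
  scale_surj : ∀ γ : F, γ ≠ 0 → ∃ y, y ≠ 0 ∧ ∀ u, S (X₂.j y * u) = γ * S u
  star : ∀ x y, x ≠ 0 → y ≠ 0 → x ≠ y → τ x = τ y →
    (X₂.j (S x + τ x) + P x y) * X₂.J (X₂.j (S x + τ x) + P x y) = X₂.j (τ x * τ x)

namespace CocData

variable {X₂ : QExt F K} (C : CocData X₂)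
include C

theorem ζ_ne : C.ζ ≠ 0 := fun h => by
  have := C.hζ
  rw [h, zero_mul] at this
  exact zero_ne_one this

theorem one_add_ne : (1 : K) + C.ζ ≠ 0 := fun h =>
  C.hζj 1 (by rw [map_one]; exact CharTwo.add_eq_zero.1 h)

theorem ψ_ζ : C.ψ C.ζ = X₂.J C.ζ := mul_right_cancel₀ C.ζ_ne (C.hψ.trans (by rw [mul_comm, C.hζ]))

omit C in
theorem hom_J (φ : K →+* K) (x : K) : φ (X₂.J x) = X₂.J (φ x) := by rw [X₂.hJ, X₂.hJ, map_pow]

theorem tr_c : X₂.tr C.c = 1 := by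
  have h := C.form 1
  rw [C.one, map_one, map_one, mul_one, mul_one] at h
  exact h.symm

theorem S_zero : C.S 0 = 0 := X₂.j.injective (by rw [C.form, mul_zero, zero_mul, X₂.tr_zero, map_zero])

theorem S_ζ (v : K) : C.S (C.ζ * v) = C.S v := X₂.j.injective (by
  rw [C.form, C.form, map_mul,
    show C.c * (C.ζ * v) * (C.ψ C.ζ * C.ψ v) = (C.ψ C.ζ * C.ζ) * (C.c * v * C.ψ v) by ring, C.hψ, one_mul])

theorem τ_eq (v : K) : C.τ v = C.S v := by
  by_cases hv : v = 0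
  · rw [hv, C.τ_zero, C.S_zero]
  have h1ζ := C.one_add_ne
  set x := (1 + C.ζ)⁻¹ * v with hx
  have hxv : x + C.ζ * x = v := by rw [hx, ← one_add_mul, ← mul_assoc, mul_inv_cancel₀ h1ζ, one_mul]
  have hx0 : x ≠ 0 := mul_ne_zero (inv_ne_zero h1ζ) hv
  have hne : x ≠ C.ζ * x := fun h => hv (by rw [← hxv, ← h, CharTwo.add_self_eq_zero])
  have hy0 : C.ζ * x ≠ 0 := mul_ne_zero C.ζ_ne hx0
  have h1 := C.star x (C.ζ * x) hx0 hy0 hne (C.τ_ζ x).symm
  have h2 := C.star (C.ζ * x) x hy0 hx0 hne.symm (C.τ_ζ x)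
  rw [C.τ_ζ, C.S_ζ] at h2
  have ha := C.anti x (C.ζ * x)
  have ht := C.trace x (C.ζ * x)
  rw [hxv, C.S_ζ, add_assoc, CharTwo.add_self_eq_zero, add_zero] at ha
  rw [hxv, C.τ_ζ, add_assoc, CharTwo.add_self_eq_zero, add_zero] at ht
  rw [QExt.tr] at ht
  have hP : C.P (C.ζ * x) x = C.P x (C.ζ * x) + X₂.j (C.S v) := by
    linear_combination ha - C.P x (C.ζ * x) * CharTwo.two_eq_zero (R := K)
  rw [hP] at h2
  simp only [map_add, X₂.J_j] at h1 h2
  have h3 : X₂.j (C.S v) * (X₂.j (C.τ v) + X₂.j (C.S v)) = 0 := by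
    linear_combination h2 - h1 - X₂.j (C.S v) * ht -
      (X₂.j (C.S v) * (X₂.j (C.S x) + X₂.j (C.τ x))) * CharTwo.two_eq_zero (R := K)
  rcases mul_eq_zero.1 h3 with h3 | h3
  · exact absurd (X₂.j.injective (h3.trans (map_zero X₂.j).symm)) (C.S_ne v hv)
  · exact X₂.j.injective (CharTwo.add_eq_zero.1 h3)

theorem norm_P {x y : K} (hx : C.S x = 1) (hy : C.S y = 1) : C.P x y * X₂.J (C.P x y) = 1 := by
  by_cases hxy : x = y
  · rw [hxy, C.self, hy, map_one, map_one, mul_one]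
  have hx0 : x ≠ 0 := fun h => by rw [h, C.S_zero] at hx; exact zero_ne_one hx
  have hy0 : y ≠ 0 := fun h => by rw [h, C.S_zero] at hy; exact zero_ne_one hy
  have h := C.star x y hx0 hy0 hxy (by rw [C.τ_eq, C.τ_eq, hx, hy])
  rwa [C.τ_eq, CharTwo.add_self_eq_zero, map_zero, zero_add, hx, mul_one, map_one] at h

/-- The sesquilinear part. -/
def P₀ (x y : K) : K := C.c * x * C.ψ y + X₂.J (C.c * C.ψ x * y)

theorem P₀_ζ (x y : K) : C.P₀ (C.ζ * x) (C.ζ * y) = C.P₀ x y := by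
  simp only [P₀, map_mul]
  rw [C.ψ_ζ, X₂.J_J]
  linear_combination (C.c * x * C.ψ y + X₂.J C.c * X₂.J (C.ψ x) * X₂.J y) * C.hζ

theorem P₀_ζ_right (x y : K) : C.P₀ x (C.ζ * y) = X₂.J C.ζ * C.P₀ x y := by
  simp only [P₀, map_mul]
  rw [C.ψ_ζ]
  ring

theorem P₀_trace (x y : K) : X₂.tr (C.P₀ x y) = X₂.j (C.S (x + y) + C.S x + C.S y) := by
  rw [map_add, map_add, C.form, C.form, C.form]
  simp only [P₀, QExt.tr, map_add, map_mul, X₂.J_J]
  linear_combination -(C.c * x * C.ψ x + C.c * y * C.ψ y + X₂.J C.c * X₂.J x * X₂.J (C.ψ x) +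
    X₂.J C.c * X₂.J y * X₂.J (C.ψ y)) * CharTwo.two_eq_zero (R := K)

theorem P₀_self (x : K) : C.P₀ x x = X₂.j (C.S x) := by
  rw [C.form]
  simp only [P₀, QExt.tr, map_mul]
  ring

theorem P₀_swap (x y : K) : C.P₀ x y + C.P₀ y x = X₂.j (C.S (x + y) + C.S x + C.S y) := by
  rw [map_add, map_add, C.form, C.form, C.form]
  simp only [P₀, QExt.tr, map_add, map_mul]
  linear_combination -(C.c * x * C.ψ x + C.c * y * C.ψ y + X₂.J C.c * X₂.J x * X₂.J (C.ψ x) +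
    X₂.J C.c * X₂.J y * X₂.J (C.ψ y)) * CharTwo.two_eq_zero (R := K)

/-- The difference. -/
def f (x y : K) : K := C.P x y + C.P₀ x y

theorem f_real (x y : K) : X₂.J (C.f x y) = C.f x y := by
  have h1 := C.trace x y
  have h2 := C.P₀_trace x y
  simp only [C.τ_eq] at h1
  rw [← h2, QExt.tr, QExt.tr] at h1
  rw [f, map_add]
  linear_combination h1 + (C.P₀ x y * 0 + X₂.J (C.P₀ x y) - C.P x y) * CharTwo.two_eq_zero (R := K)

theorem f_comm (x y : K) : C.f x y = C.f y x := by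
  have h1 := C.anti x y
  rw [← C.P₀_swap x y] at h1
  simp only [f]
  linear_combination h1 + (C.P₀ x y - C.P y x) * CharTwo.two_eq_zero (R := K)

theorem f_assoc (x y z : K) : C.f x y + C.f (x + y) z = C.f y z + C.f x (y + z) := by
  simp only [f, P₀, map_add, map_mul]
  linear_combination C.assoc x y z

theorem f_four (x y z v : K) :
    C.f (x + y) (z + v) + C.f x y + C.f z v = C.f (x + z) (y + v) + C.f x z + C.f y v := by
  have h1 := C.f_assoc x y (z + v)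
  have h2 := C.f_assoc y z v
  have h3 := C.f_assoc x z (y + v)
  have h4 := C.f_assoc z y v
  rw [C.f_comm z y, add_comm z y] at h4
  rw [show z + (y + v) = y + (z + v) by ring] at h3
  linear_combination h1 + (h4 - h3) - h2 + (C.f z v - C.f y v) * CharTwo.two_eq_zero (R := K) * 0

/-- The function whose coboundary is `f`. -/
noncomputable def h (x : K) : K := C.f x (C.ζ * x) / (C.ζ + X₂.J C.ζ)

theorem g_ne : C.ζ + X₂.J C.ζ ≠ 0 := fun e => X₂.J_ne C.hζj (CharTwo.add_eq_zero.1 e).symm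

theorem h_real (x : K) : X₂.J (C.h x) = C.h x := by
  rw [h, map_div₀, C.f_real, map_add, X₂.J_J, add_comm (X₂.J C.ζ)]

theorem f_eq (x y : K) : C.f x y = C.h (x + y) + C.h x + C.h y := by
  haveI : Fintype K := Fintype.ofFinite K
  set ξ := C.ζ ^ (Fintype.card K / 2) with hξ
  have h2 : 2 ∣ Fintype.card K := by
    obtain ⟨⟨n, hn⟩, -, hcard⟩ := FiniteField.card K 2
    rw [hcard]
    exact dvd_pow_self 2 (by simp; omega)
  have hξ2 : ξ * ξ = C.ζ := by
    rw [hξ, ← pow_add, show Fintype.card K / 2 + Fintype.card K / 2 = Fintype.card K by omega, FiniteField.pow_card]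
  have hξJ : ξ * X₂.J ξ = 1 := by
    rw [hξ, map_pow, ← mul_pow, C.hζ, one_pow]
  have hpow : ∀ n : ℕ, ∀ u v, C.P (C.ζ ^ n * u) (C.ζ ^ n * v) = C.P u v ∧
      C.P₀ (C.ζ ^ n * u) (C.ζ ^ n * v) = C.P₀ u v ∧ C.S (C.ζ ^ n * u) = C.S u := by
    intro n
    induction n with
    | zero => intro u v; simp
    | succ n ih =>
      intro u v
      rw [pow_succ', mul_assoc, mul_assoc, C.P_ζ, C.P₀_ζ, C.S_ζ]
      exact ih u v
  obtain ⟨lam, hlam⟩ := X₂.tr_mem ξ
  have hmu : X₂.j lam * ξ = 1 + C.ζ := by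
    rw [hlam, QExt.tr, add_mul, hξ2, mul_comm (X₂.J ξ), hξJ, add_comm]
  have hlam0 : lam ≠ 0 := fun e => C.one_add_ne (by rw [← hmu, e, map_zero, zero_mul])
  obtain ⟨γ, -, hγ⟩ := C.scale lam hlam0
  have hψl : C.ψ (X₂.j lam) * X₂.j lam = X₂.j γ := by
    obtain ⟨u, hu⟩ := X₂.fixed (x := C.ψ (X₂.j lam)) (by rw [← hom_J, X₂.J_j])
    have h1 := (hγ 1 1).1
    rw [C.one, mul_one, mul_one] at h1
    have h2 := C.form (X₂.j lam)
    rw [h1, ← hu, show C.c * X₂.j lam * X₂.j u = X₂.j (lam * u) * C.c by rw [map_mul]; ring, X₂.tr_smul,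
      C.tr_c, mul_one] at h2
    rw [← hu, ← map_mul, h2, mul_comm]
  have hg : X₂.j γ = C.ζ + X₂.J C.ζ := by
    have e1 := congrArg C.ψ hmu
    rw [map_mul, map_add, map_one, C.ψ_ζ, hξ, map_pow, C.ψ_ζ, ← map_pow, ← hξ] at e1
    rw [← hψl]
    linear_combination C.ψ (X₂.j lam) * X₂.j lam * (-hξJ) + X₂.j lam * ξ * e1 + (1 + X₂.J C.ζ) * hmu +
      C.hζ + CharTwo.two_eq_zero (R := K)
  have hsc : ∀ u v, C.f ((1 + C.ζ) * u) ((1 + C.ζ) * v) = (C.ζ + X₂.J C.ζ) * C.f u v := by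
    intro u v
    rw [← hg, ← hmu, mul_assoc, mul_assoc, f, (hγ (ξ * u) (ξ * v)).2]
    have hp : C.P₀ (X₂.j lam * (ξ * u)) (X₂.j lam * (ξ * v)) = X₂.j γ * C.P₀ (ξ * u) (ξ * v) := by
      obtain ⟨u', hu⟩ := X₂.fixed (x := C.ψ (X₂.j lam)) (by rw [← hom_J, X₂.J_j])
      simp only [P₀, map_mul, ← hψl, ← hu, X₂.J_j]
      ring
    rw [hp, hξ, (hpow _ u v).1, (hpow _ u v).2.1, f, mul_add]
  have h4 := C.f_four x y (C.ζ * x) (C.ζ * y)
  have hfz : C.f (C.ζ * x) (C.ζ * y) = C.f x y := by simp only [f, C.P_ζ, C.P₀_ζ]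
  rw [hfz, ← mul_add, ← one_add_mul, ← one_add_mul, hsc, add_assoc, CharTwo.add_self_eq_zero, add_zero] at h4
  simp only [h, ← add_div]
  rw [eq_div_iff C.g_ne]
  linear_combination -h4 - (C.f x (C.ζ * x) + C.f y (C.ζ * y)) * CharTwo.two_eq_zero (R := K)

theorem h_scale {y γ : F} (hg : ∀ u v, C.S (X₂.j y * u) = γ * C.S u ∧
    C.P (X₂.j y * u) (X₂.j y * v) = X₂.j γ * C.P u v) (x : K) : C.h (X₂.j y * x) = X₂.j γ * C.h x := by
  obtain ⟨u', hu⟩ := X₂.fixed (x := C.ψ (X₂.j y)) (by rw [← hom_J, X₂.J_j])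
  have hψy : C.ψ (X₂.j y) * X₂.j y = X₂.j γ := by
    have h1 := (hg 1 1).1
    rw [C.one, mul_one, mul_one] at h1
    have h2 := C.form (X₂.j y)
    rw [h1, ← hu, show C.c * X₂.j y * X₂.j u' = X₂.j (y * u') * C.c by rw [map_mul]; ring, X₂.tr_smul,
      C.tr_c, mul_one] at h2
    rw [← hu, ← map_mul, h2, mul_comm]
  have hp : ∀ u v, C.P₀ (X₂.j y * u) (X₂.j y * v) = X₂.j γ * C.P₀ u v := fun u v => by
    simp only [P₀, map_mul, ← hψy, ← hu, X₂.J_j]
    ring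
  rw [h, h, mul_left_comm C.ζ, f, (hg x (C.ζ * x)).2, hp, ← mul_add, mul_div_assoc]
  rfl

theorem h_zero : C.h 0 = 0 := by
  rw [h, mul_zero, f, C.self, C.P₀_self, CharTwo.add_self_eq_zero, zero_div]

/-- The function takes two values on every line. -/
theorem h_cases {x : K} (hx : C.S x = 1) : C.h x = 0 ∨ C.h x = 1 := by
  have hy : C.S (C.ζ * x) = 1 := by rw [C.S_ζ, hx]
  have hn := C.norm_P hx hy
  have h1 := C.P₀_ζ_right x x
  rw [C.P₀_self, hx, map_one, mul_one] at h1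
  have hP : C.P x (C.ζ * x) = X₂.J C.ζ + C.h x * (C.ζ + X₂.J C.ζ) := by
    rw [h, div_mul_cancel₀ _ C.g_ne, f, h1]
    linear_combination -X₂.J C.ζ * CharTwo.two_eq_zero (R := K)
  rw [hP, map_add, map_mul, map_add, X₂.J_J, C.h_real] at hn
  have h3 : C.h x * (C.h x + 1) * (C.ζ + X₂.J C.ζ) ^ 2 = 0 := by
    linear_combination hn - C.hζ
  rcases mul_eq_zero.1 h3 with h3 | h3
  · exact (mul_eq_zero.1 h3).imp_right fun e => CharTwo.add_eq_zero.1 e
  · exact absurd (eq_zero_of_pow_eq_zero h3) C.g_ne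

theorem exists_line {x : K} (hx : x ≠ 0) : ∃ (y γ : F) (x₁ : K), y ≠ 0 ∧ x = X₂.j y * x₁ ∧ C.S x₁ = 1 ∧
    (∀ u v, C.S (X₂.j y * u) = γ * C.S u ∧ C.P (X₂.j y * u) (X₂.j y * v) = X₂.j γ * C.P u v) ∧ C.S x = γ := by
  obtain ⟨y, hy0, hy⟩ := C.scale_surj (C.S x) (C.S_ne x hx)
  obtain ⟨γ, -, hγ⟩ := C.scale y hy0
  have hγx : γ = C.S x := by
    have h1 := (hγ 1 1).1
    rw [hy 1, C.one, mul_one, mul_one] at h1
    exact h1.symm
  refine ⟨y, γ, (X₂.j y)⁻¹ * x, hy0, by rw [mul_inv_cancel_left₀ ((map_ne_zero X₂.j).2 hy0)], ?_, hγ, hγx.symm⟩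
  have h1 := hy ((X₂.j y)⁻¹ * x)
  rw [mul_inv_cancel_left₀ ((map_ne_zero X₂.j).2 hy0)] at h1
  exact (mul_eq_left₀ (C.S_ne x hx)).1 h1.symm

/-- The function is a multiple of the squaring map. -/
theorem h_const : (∀ x, C.h x = 0) ∨ ∀ x, C.h x = X₂.j (C.S x) := by
  have hcon : ∀ x y, C.S x = 1 → C.S y = 1 → C.h x = 0 → C.h y = 1 → False := by
    intro x y hx hy hx0 hy1
    have hz : ∀ u, C.S u = 1 → C.h u = 1 → C.P₀ x u * X₂.J (C.P₀ x u) = X₂.tr (C.P₀ x u) := by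
      intro u hu hu1
      have hne : x + u ≠ 0 := fun e => by
        rw [CharTwo.add_eq_zero.1 e, hu1] at hx0
        exact one_ne_zero hx0
      have hn := C.norm_P hx hu
      have hP : C.P x u = C.P₀ x u + (C.h (x + u) + 1) := by
        have e := C.f_eq x u
        rw [hx0, hu1, add_zero, f] at e
        linear_combination e - C.P₀ x u * CharTwo.two_eq_zero (R := K)
      obtain ⟨k, γ, x₁, -, he, hx₁, hg, hS⟩ := C.exists_line hne
      have ht := C.P₀_trace x u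
      rw [hx, hu, add_assoc, CharTwo.add_self_eq_zero, add_zero, hS, QExt.tr] at ht
      have hv : C.h (x + u) = 0 ∨ C.h (x + u) = X₂.j γ := by
        rw [he, C.h_scale hg]
        rcases C.h_cases hx₁ with e | e <;> rw [e]
        · exact Or.inl (mul_zero _)
        · exact Or.inr (mul_one _)
      rw [hP, map_add, map_add, map_one, C.h_real] at hn
      rw [QExt.tr]
      rcases hv with e | e <;> rw [e] at hn
      · linear_combination hn - (C.P₀ x u + X₂.J (C.P₀ x u)) * CharTwo.two_eq_zero (R := K)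
      · linear_combination hn - X₂.j γ * ht - (C.P₀ x u + X₂.J (C.P₀ x u) + X₂.j γ + X₂.j γ * X₂.j γ) *
          CharTwo.two_eq_zero (R := K)
    have hhζ : ∀ u, C.h (C.ζ * u) = C.h u := fun u => by
      rw [h, h, f, C.P_ζ, C.P₀_ζ]; rfl
    set v := C.P₀ x y with hv
    have e0 := hz y hy hy1
    have e1 := hz (C.ζ * y) (by rw [C.S_ζ, hy]) (by rw [hhζ, hy1])
    have e2 := hz (C.ζ * (C.ζ * y)) (by rw [C.S_ζ, C.S_ζ, hy]) (by rw [hhζ, hhζ, hy1])
    rw [C.P₀_ζ_right, ← hv] at e1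
    rw [C.P₀_ζ_right, C.P₀_ζ_right, ← hv] at e2
    simp only [QExt.tr, map_mul, X₂.J_J] at e0 e1 e2
    have f1 : v * (X₂.J C.ζ + 1) + X₂.J v * (C.ζ + 1) = 0 := by
      linear_combination -e1 + e0 + v * X₂.J v * C.hζ + (v + X₂.J v) * CharTwo.two_eq_zero (R := K)
    have f2 : v * (X₂.J C.ζ + 1) * X₂.J C.ζ + X₂.J v * (C.ζ + 1) * C.ζ = 0 := by
      linear_combination -e2 + e1 + v * X₂.J v * (C.ζ * X₂.J C.ζ) * C.hζ +
        (v * X₂.J C.ζ + X₂.J v * C.ζ) * CharTwo.two_eq_zero (R := K)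
    have f3 : v * (X₂.J C.ζ + 1) * (C.ζ + X₂.J C.ζ) = 0 := by
      linear_combination C.ζ * f1 + f2 - X₂.J v * (C.ζ + 1) * C.ζ * CharTwo.two_eq_zero (R := K)
    have hv0 : v = 0 := by
      rcases mul_eq_zero.1 f3 with e | e
      · rcases mul_eq_zero.1 e with e | e
        · exact e
        · exact absurd (CharTwo.add_eq_zero.1 e) fun e' => C.hζj 1 (by
            rw [map_one, ← X₂.J_J C.ζ, e', map_one])
      · exact absurd e C.g_ne
    have ht := C.P₀_trace x y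
    rw [← hv, hv0, X₂.tr_zero, hx, hy, add_assoc, CharTwo.add_self_eq_zero, add_zero, eq_comm, map_eq_zero] at ht
    refine C.S_ne (x + y) (fun e => ?_) ht
    rw [CharTwo.add_eq_zero.1 e, hy1] at hx0
    exact one_ne_zero hx0
  by_cases h1 : ∃ x, C.S x = 1 ∧ C.h x = 1
  · obtain ⟨y, hy, hy1⟩ := h1
    refine Or.inr fun x => ?_
    by_cases hx : x = 0
    · rw [hx, C.h_zero, C.S_zero, map_zero]
    obtain ⟨k, γ, x₁, -, he, hx₁, hg, hS⟩ := C.exists_line hx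
    rw [hS, he, C.h_scale hg, (C.h_cases hx₁).resolve_left fun e => hcon x₁ y hx₁ hy e hy1, mul_one]
  · refine Or.inl fun x => ?_
    by_cases hx : x = 0
    · rw [hx, C.h_zero]
    obtain ⟨k, γ, x₁, -, he, hx₁, hg, hS⟩ := C.exists_line hx
    rw [he, C.h_scale hg, (C.h_cases hx₁).resolve_right fun e => h1 ⟨x₁, hx₁, e⟩, mul_zero]

theorem P_cases : (∀ x y, C.P x y = C.P₀ x y) ∨ ∀ x y, C.P x y = C.P₀ y x := by
  rcases C.h_const with e | e
  · refine Or.inl fun x y => ?_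
    have h1 := C.f_eq x y
    rw [e, e, e, add_zero, add_zero, f] at h1
    exact CharTwo.add_eq_zero.1 h1
  · refine Or.inr fun x y => ?_
    have h1 := C.f_eq x y
    rw [e, e, e, ← map_add, ← map_add, ← C.P₀_swap x y, f] at h1
    linear_combination h1

theorem norm_P₀ {x y : K} (hx : C.S x = 1) (hy : C.S y = 1) : C.P₀ x y * X₂.J (C.P₀ x y) = 1 := by
  rcases C.P_cases with e | e
  · rw [← e]; exact C.norm_P hx hy
  · rw [← e]; exact C.norm_P hy hx

theorem line_one {y : K} (hy : C.S y = 1) : y * X₂.J y = 1 ∧ C.ψ y * y = 1 := by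
  have hn := C.norm_P₀ C.one hy
  have hc : C.c + X₂.J C.c = 1 := C.tr_c
  have hv := C.form y
  rw [hy, map_one, QExt.tr] at hv
  simp only [P₀, map_one, mul_one, map_add, map_mul, X₂.J_J] at hn hv
  set n := y * X₂.J y with hndef
  have hn' : C.ψ n = C.ψ y * X₂.J (C.ψ y) := by rw [hndef, map_mul, hom_J]
  set m := C.c * X₂.J C.c with hm
  have hm0 : m ≠ 0 := fun e => by
    rcases mul_eq_zero.1 e with e | e
    · rw [e, map_zero, add_zero] at hc; exact zero_ne_one hc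
    · rw [(map_eq_zero X₂.J).1 e, map_zero, add_zero] at hc; exact zero_ne_one hc
  set v := C.c * y * C.ψ y with hvdef
  have hjv : X₂.J v = X₂.J C.c * X₂.J y * X₂.J (C.ψ y) := by rw [hvdef, map_mul, map_mul]
  have e1 : v = C.c + m * (n + C.ψ n) := by
    rw [hn', hm, hndef, hvdef]
    linear_combination -hn + (C.c - 1) * hv + (X₂.J C.c * X₂.J y * X₂.J (C.ψ y)) * hc +
      C.c * (C.c * y * C.ψ y - 1) * CharTwo.two_eq_zero (R := K)
  have hnr : X₂.J n = n := by rw [hndef, map_mul, X₂.J_J, mul_comm]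
  have hψnr : X₂.J (C.ψ n) = C.ψ n := by rw [← hom_J, hnr]
  have hmr : X₂.J m = m := by rw [hm, map_mul, X₂.J_J, mul_comm]
  have e2 : v * X₂.J v = m * (n * C.ψ n) := by
    rw [hn', hm, hndef, hjv, hvdef]; ring
  have e3 : n * C.ψ n = 1 + (n + C.ψ n) + m * (n + C.ψ n) ^ 2 := by
    refine mul_left_cancel₀ hm0 (e2.symm.trans ?_)
    have hjv2 : X₂.J v = X₂.J C.c + m * (n + C.ψ n) := by
      rw [e1, RingHom.map_add X₂.J, RingHom.map_mul X₂.J, RingHom.map_add X₂.J, hnr, hψnr, hmr]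
    rw [hjv2, e1]
    linear_combination m * (n + C.ψ n) * hc
  have hn1 : n = 1 := by
    by_contra hne
    have ha : 1 + n ≠ 0 := fun e => hne (CharTwo.add_eq_zero.1 e).symm
    set b := (1 + C.ψ n) / (1 + n) with hb
    have hba : b * (1 + n) = 1 + C.ψ n := div_mul_cancel₀ _ ha
    have hbr : X₂.J b = b := by rw [hb, map_div₀, map_add, map_add, map_one, hnr, hψnr]
    have eb : b = m * (1 + b) ^ 2 := by
      refine mul_left_cancel₀ (pow_ne_zero 2 ha) ?_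
      have hψn : C.ψ n = b * (1 + n) + 1 := by linear_combination -hba - CharTwo.two_eq_zero (R := K)
      rw [hψn] at e3
      linear_combination e3 + (b * (1 + n) + 1) * CharTwo.two_eq_zero (R := K)
    have hc0 : X₂.J C.c ≠ 0 := fun e => hm0 (by rw [hm, e, mul_zero])
    set ρ := C.c / X₂.J C.c with hρ
    have hρc : ρ * X₂.J C.c = C.c := div_mul_cancel₀ _ hc0
    have eρ : ρ = m * (1 + ρ) ^ 2 := by
      refine mul_left_cancel₀ (pow_ne_zero 2 hc0) ?_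
      rw [hm]
      linear_combination (X₂.J C.c - C.c * X₂.J C.c * (2 * X₂.J C.c + ρ * X₂.J C.c + C.c)) * hρc -
        C.c * X₂.J C.c * (C.c + X₂.J C.c + 1) * hc
    have hρr : X₂.J ρ ≠ ρ := fun e => by
      rw [hρ, map_div₀, X₂.J_J] at e
      have hcc : C.c ≠ 0 := fun e' => hm0 (by rw [hm, e', zero_mul])
      rw [div_eq_div_iff hcc hc0] at e
      have e' : (C.c + X₂.J C.c) ^ 2 = 0 := by
        linear_combination e + (C.c * C.c + C.c * X₂.J C.c) * CharTwo.two_eq_zero (R := K)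
      rw [hc, one_pow] at e'
      exact one_ne_zero e'
    have e4 : (b + ρ) * (m * (b + ρ) + 1) = 0 := by
      linear_combination eb - eρ + (ρ + m * (b * b + b * ρ + b - ρ)) * CharTwo.two_eq_zero (R := K)
    rcases mul_eq_zero.1 e4 with e4 | e4
    · exact hρr (by rw [← CharTwo.add_eq_zero.1 e4, hbr])
    · have e5 : ρ = b + 1 / m := by
        field_simp
        linear_combination e4 - (1 + b * m) * CharTwo.two_eq_zero (R := K)
      exact hρr (by rw [e5, RingHom.map_add X₂.J, hbr, map_div₀, map_one, hmr])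
  refine ⟨hn1, ?_⟩
  rw [hn1, map_one, CharTwo.add_self_eq_zero, mul_zero, add_zero] at e1
  have hc0 : C.c ≠ 0 := fun e => hm0 (by rw [hm, e, zero_mul])
  refine mul_left_cancel₀ hc0 ?_
  rw [mul_one]
  exact (by ring : C.c * (C.ψ y * y) = C.c * y * C.ψ y).trans e1

theorem ψ_eq (x : K) : C.ψ x = X₂.J x := by
  have hreal : ∀ u, X₂.J (u * C.ψ u) = u * C.ψ u := fun u => by
    by_cases hu : u = 0
    · simp [hu]
    obtain ⟨k, γ, x₁, -, he, hx₁, -, -⟩ := C.exists_line hu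
    obtain ⟨l, hl⟩ := X₂.fixed (x := C.ψ (X₂.j k)) (by rw [← hom_J, X₂.J_j])
    have h2 := (C.line_one hx₁).2
    have h2' := congrArg X₂.J h2
    rw [map_mul, map_one] at h2'
    simp only [he, map_mul, ← hl, X₂.J_j]
    linear_combination X₂.j k * X₂.j l * (h2' - h2)
  have hfix : ∀ k, C.ψ (X₂.j k) = X₂.j k := fun k => by
    obtain ⟨l, hl⟩ := X₂.fixed (x := C.ψ (X₂.j k)) (by rw [← hom_J, X₂.J_j])
    have h := hreal (X₂.j k + C.ζ)
    rw [map_add C.ψ, C.ψ_ζ, ← hl] at h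
    simp only [map_mul, map_add, X₂.J_j, X₂.J_J] at h
    have e : (X₂.j l + X₂.j k) * (C.ζ + X₂.J C.ζ) = 0 := by
      linear_combination h + (X₂.j k * X₂.J C.ζ + C.ζ * X₂.j l) * CharTwo.two_eq_zero (R := K)
    rw [← hl]
    exact CharTwo.add_eq_zero.1 ((mul_eq_zero.1 e).resolve_right C.g_ne)
  by_cases hx : x = 0
  · simp [hx]
  obtain ⟨k, γ, x₁, -, he, hx₁, -, -⟩ := C.exists_line hx
  obtain ⟨h1, h2⟩ := C.line_one hx₁
  have hx₁0 : x₁ ≠ 0 := fun e => by rw [e, zero_mul] at h1; exact zero_ne_one h1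
  rw [he, map_mul, map_mul, hfix, X₂.J_j, mul_right_cancel₀ hx₁0 (h2.trans (by rw [mul_comm, h1]))]

theorem S_eq (x : K) : X₂.j (C.S x) = x * X₂.J x := by
  rw [C.form, C.ψ_eq, mul_assoc, QExt.tr, map_mul, map_mul, X₂.J_J, mul_comm (X₂.J x) x, ← add_mul]
  exact (congrArg (· * (x * X₂.J x)) C.tr_c).trans (one_mul _)

theorem P_eq : (∀ x y, C.P x y = x * X₂.J y) ∨ ∀ x y, C.P x y = X₂.J x * y := by
  have h0 : ∀ x y, C.P₀ x y = x * X₂.J y := fun x y => by
    simp only [P₀, C.ψ_eq, map_mul, X₂.J_J]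
    have hc : C.c + X₂.J C.c = 1 := C.tr_c
    linear_combination x * X₂.J y * hc
  rcases C.P_cases with e | e
  · exact Or.inl fun x y => by rw [e, h0]
  · exact Or.inr fun x y => by rw [e, h0, mul_comm]

end CocData

end Cfsg.Agent.Transfer.RankOne
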