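import Cfsg.Agent.Lib.Transfer.RankOne.CubeFree
import Cfsg.Agent.Lib.Transfer.RankOne.CardCent

/-!
The product `e w` is conjugate into `W`.
-/

set_option autoImplicit false
set_option linter.unusedSectionVars false
set_option linter.style.haveILetI false

namespace Cfsg.Agent.Transfer.RankOne

open MulAction Matrix
open scoped MatrixGroups
open Cfsg.Agent.Lie.RankOne (b_ne)

universe u v

section FieldAut

variable {F : Type} [Field F] [Finite F]

/-- The fixed field of an automorphism. -/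
theorem aut_fixed (σ : F ≃+* F) :
    Nat.card F = Nat.card {y : F // σ y = y} ^ orderOf σ ∧
      ∀ y, σ y = y → y ^ Nat.card {y : F // σ y = y} = y := by
  classical
  haveI : Finite (F ≃+* F) := Finite.of_injective (fun f => (f : F → F)) DFunLike.coe_injective
  haveI : Fintype (Subgroup.zpowers σ) := Fintype.ofFinite _
  have hfr := FixedPoints.finrank_eq_card (Subgroup.zpowers σ) F
  rw [← Nat.card_eq_fintype_card, Nat.card_zpowers] at hfr
  have hmem : ∀ y, y ∈ FixedPoints.subfield (Subgroup.zpowers σ) F ↔ σ y = y := fun y => by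
    refine ⟨fun h => h (⟨σ, Subgroup.mem_zpowers _⟩ : Subgroup.zpowers σ), fun h g => ?_⟩
    obtain ⟨g, i, rfl⟩ := g
    exact mem_stabilizer_iff.1 (Subgroup.zpow_mem _ (mem_stabilizer_iff.2 h : σ ∈ stabilizer (F ≃+* F) y) i)
  have hc : Nat.card (FixedPoints.subfield (Subgroup.zpowers σ) F) = Nat.card {y : F // σ y = y} :=
    Nat.card_congr (Equiv.subtypeEquivRight hmem)
  refine ⟨?_, fun y hy => ?_⟩
  · rw [← hc, Module.natCard_eq_pow_finrank (K := FixedPoints.subfield (Subgroup.zpowers σ) F) (V := F), hfr]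
  · haveI : Fintype (FixedPoints.subfield (Subgroup.zpowers σ) F) := Fintype.ofFinite _
    have h := congrArg Subtype.val (FiniteField.pow_card (⟨y, (hmem y).2 hy⟩ : FixedPoints.subfield (Subgroup.zpowers σ) F))
    rwa [SubmonoidClass.coe_pow, ← Nat.card_eq_fintype_card, hc] at h

/-- An automorphism of `r`-power order dividing the `r`-part of `q + 1` has smaller order. -/
theorem aut_small {r A : ℕ} (hr : r.Prime) (hr2 : r ≠ 2) (hA : 1 ≤ A) (hdvd : r ∣ Nat.card F + 1)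
    (hmax : ¬ r ^ (A + 1) ∣ Nat.card F + 1) {σ : F ≃+* F} (h : σ ^ r ^ A = 1) : σ ^ r ^ (A - 1) = 1 := by
  haveI := Fact.mk hr
  obtain ⟨hq, -⟩ := aut_fixed σ
  obtain ⟨i, hi, ho⟩ := (Nat.dvd_prime_pow hr).1 (orderOf_dvd_of_pow_eq_one h)
  rcases Nat.lt_or_ge i A with hiA | hiA
  · rw [← orderOf_dvd_iff_pow_eq_one, ho]
    exact pow_dvd_pow r (by omega)
  exfalso
  set q1 := Nat.card {y : F // σ y = y}
  rw [ho] at hq
  have h1 : (r : ℤ) ∣ (q1 : ℤ) - (-1) := by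
    have h2 : ((q1 ^ r ^ i + 1 : ℕ) : ZMod r) = 0 := (ZMod.natCast_eq_zero_iff _ _).2 (hq ▸ hdvd)
    rw [Nat.cast_add, Nat.cast_pow, ZMod.pow_card_pow, Nat.cast_one] at h2
    rw [sub_neg_eq_add, ← ZMod.intCast_zmod_eq_zero_iff_dvd]
    push_cast
    exact h2
  have h3 := dvd_sub_pow_of_dvd_sub h1 i
  rw [(hr.odd_of_ne_two hr2).pow.neg_one_pow, sub_neg_eq_add] at h3
  have h4 : r ^ (i + 1) ∣ q1 ^ r ^ i + 1 := Int.natCast_dvd_natCast.1 (by push_cast; exact h3)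
  exact hmax ((pow_dvd_pow r (by omega)).trans (hq ▸ h4))

end FieldAut

variable {G : Type u} {Ω : Type v} [Group G] [MulAction G Ω] [Finite G] [FaithfulSMul G Ω]
  {a : Ω} {t : G} {Q : Subgroup G} {F : Type} [Field F] [Finite F] [CharP F 2] {E : Env a t Q F}
  (hQ2 : IsPGroup 2 Q) (hna : ∃ x ∈ Q, ∃ y ∈ Q, x * y ≠ y * x)
  (hsz : Nat.card Q = Nat.card (zGrp G a) ^ 3) {hrz : E.r ∈ zGrp G a}
  {K : Type} [Field K] [Finite K] [CharP K 2] {X₂ : QExt F K} (D : CData E hrz X₂)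
include hQ2 hna hsz D

omit hsz in
theorem CData.y_pow : (D.e * D.w) ^ D.r = 1 := by
  rw [(D.comm_ew (hQ2 := hQ2) (hna := hna)).mul_pow, D.e_pow, D.w_pow, one_mul]

omit hsz hQ2 hna in
theorem CData.y_ne : D.e * D.w ≠ 1 := fun h => D.e_ne (l_inter_v E hrz D.he (by
  rw [eq_inv_of_mul_eq_one_left h]
  exact inv_mem (wGrp_le_vGrp D.hw)))

omit hsz in
theorem CData.y_order : orderOf (D.e * D.w) = D.r :=
  haveI := Fact.mk D.hr
  orderOf_eq_prime (D.y_pow hQ2 hna) (D.y_ne)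

/-- The fixed points of `e w`. -/
theorem CData.card_fix : Nat.card (Fx Ω (D.e * D.w)) = Nat.card (zGrp G a) + 1 := by
  classical
  have hw1 := w_ne E hQ2 hna hsz hrz D.hr D.hord
  have hwl : ∀ {g : G}, g ∈ lGrp E hrz → Commute D.w g := fun hg => w_comm_l E hQ2 hna hrz D.hw hg
  rw [E.card_F, ← QExt.card_cent X₂ (psi_ell E hrz (g := ⟨D.e, D.he⟩) fun p hp => D.efree p hp)]
  let T := {l : lGrp E hrz // l * ⟨D.e, D.he⟩ = ⟨D.e, D.he⟩ * l}
  have hout : ∀ {l : G}, l ∈ lGrp E hrz → ¬ InB E hrz (l • D.c₀) := fun hl h => D.hc₀ (by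
    have := lGrp_b E hrz (inv_mem hl) h
    rwa [inv_smul_smul] at this)
  have hwc : ¬ InB E hrz (D.w • D.c₀) := fun h => D.hc₀ (by
    have h1 := (fix_w E hQ2 hna hsz hrz D.hw hw1).2 h
    exact smul_left_cancel _ h1 ▸ h)
  let f : T → Fx Ω (D.e * D.w) := fun l => ⟨(l.1 : G) • D.c₀, by
    have hle : (l.1 : G) * D.e = D.e * (l.1 : G) := congrArg Subtype.val l.2
    rw [← mul_smul, show D.e * D.w * (l.1 : G) = (l.1 : G) * (D.e * D.w) by
      rw [mul_assoc, (hwl l.1.2).eq, ← mul_assoc, ← hle, mul_assoc], mul_smul, D.hfix]⟩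
  have hf : Function.Bijective f := by
    refine ⟨fun l l' h => Subtype.ext (Subtype.ext (inv_mul_eq_one.1 (l_semireg E hQ2 hna hsz hrz
      (mul_mem (inv_mem l.1.2) l'.1.2) D.hc₀ ?_))), fun p => ?_⟩
    · rw [mul_smul, ← show (l.1 : G) • D.c₀ = (l'.1 : G) • D.c₀ from congrArg Subtype.val h, inv_smul_smul]
    · have hp : ¬ InB E hrz (p : Ω) := fun hp => D.efree _ hp (by
        conv_rhs => rw [← p.2, mul_smul, (fix_w E hQ2 hna hsz hrz D.hw hw1).2 hp])
      obtain ⟨l, hl, hlp⟩ := l_trans E hQ2 hna hsz hrz D.hc₀ hp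
      have h1 := p.2
      rw [← hlp] at h1
      have hle : l * D.e = D.e * l := by
        refine inv_mul_eq_one.1 (l_semireg E hQ2 hna hsz hrz
          (mul_mem (inv_mem (mul_mem hl D.he)) (mul_mem D.he hl)) (c := D.w • D.c₀) hwc ?_)
        rw [mul_smul, inv_smul_eq_iff, ← mul_smul, ← mul_smul, mul_assoc, ← (hwl hl).eq, ← mul_assoc, mul_smul,
          h1, mul_assoc, mul_smul, D.hfix]
      exact ⟨⟨⟨l, hl⟩, Subtype.ext hle⟩, Subtype.ext hlp⟩
  rw [← Nat.card_congr (Equiv.ofBijective f hf)]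
  refine Nat.card_congr (Equiv.subtypeEquiv (Equiv.ofBijective _ ⟨psi_injective E hrz, psi_surjective E hrz⟩)
    fun l => ?_)
  show _ ↔ psi E hrz l * _ = _ * psi E hrz l
  rw [← map_mul, ← map_mul, (psi_injective E hrz).eq_iff]

omit hQ2 hna hsz D in
/-- Conjugate elements have equally many fixed points. -/
theorem card_fx_conj (g y : G) : Nat.card (Fx Ω (g * y * g⁻¹)) = Nat.card (Fx Ω y) :=
  (Nat.card_congr (Equiv.subtypeEquiv (MulAction.toPerm g) fun c => by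
    show y • c = c ↔ (g * y * g⁻¹) • (g • c) = g • c
    rw [← mul_smul, inv_mul_cancel_right, mul_smul, smul_left_cancel_iff])).symm

/-- The product is conjugate into `W`, when `r` is not three. -/
theorem CData.conj_w_ne_three (h3 : D.r ≠ 3) :
    ∃ g w₁ : G, w₁ ∈ wGrp a t ∧ g * w₁ * g⁻¹ = D.e * D.w := by
  classical
  have H := E.hyp
  haveI := Lie.RankOne.finite_omega H.setup
  haveI : Fintype (Fx Ω (D.e * D.w)) := Fintype.ofFinite _
  have hc := D.card_fix hQ2 hna hsz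
  have h4 := four_le_q H
  obtain ⟨c₁, c₂, c₃, h12, h13, h23⟩ := Fintype.two_lt_card_iff.1
    (show 2 < Fintype.card (Fx Ω (D.e * D.w)) by rw [← Nat.card_eq_fintype_card, hc]; omega)
  obtain ⟨f, f1, f2⟩ := is_two_pretransitive_iff.1 H.setup.two_transitive (fun e => h12 (Subtype.ext e))
    (b_ne H.setup).symm
  set d := f * (D.e * D.w) * f⁻¹ with hd
  have hfix : ∀ c : Fx Ω (D.e * D.w), d • (f • (c : Ω)) = f • (c : Ω) := fun c => by
    rw [hd, mul_smul, mul_smul, inv_smul_smul, c.2]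
  have hdD : d ∈ dGrp a t := ⟨mem_stabilizer_iff.2 (f1 ▸ hfix c₁), mem_stabilizer_iff.2 (f2 ▸ hfix c₂)⟩
  obtain ⟨k, hk, hkt⟩ := Lie.RankOne.conj_into_centralizer H.setup (X := {d}) (Set.singleton_subset_iff.2 hdD)
    ⟨a, t • a, f • (c₃ : Ω), (b_ne H.setup).symm,
      fun e => h13 (Subtype.ext (smul_left_cancel f (f1.trans e))),
      fun e => h23 (Subtype.ext (smul_left_cancel f (f2.trans e))), by
      rintro y rfl
      exact ⟨mem_stabilizer_iff.1 hdD.1, mem_stabilizer_iff.1 hdD.2, hfix c₃⟩⟩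
  have hv : k * d * k⁻¹ ∈ vGrp a t := mem_vGrp.2 ⟨mul_mem (mul_mem hk hdD) (inv_mem hk), hkt d rfl⟩
  have hconj : k * d * k⁻¹ = (k * f) * (D.e * D.w) * (k * f)⁻¹ := by rw [hd]; group
  refine ⟨(k * f)⁻¹, k * d * k⁻¹, ?_, by rw [hconj]; group⟩
  by_contra hW
  have hord : orderOf (k * d * k⁻¹) = D.r := by
    rw [hconj, ← D.y_order hQ2 hna]
    exact MulEquiv.orderOf_eq (MulAut.conj (k * f)) (D.e * D.w)
  obtain ⟨n, -, hn⟩ := exists_card_zGrp H
  have hcop : ¬ D.r ∣ Nat.card Q := fun h => D.hr2 ((Nat.prime_dvd_prime_iff_eq D.hr Nat.prime_two).1 (by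
    rw [hsz, hn, ← pow_mul] at h
    exact D.hr.dvd_of_dvd_pow h))
  have hp := E.card_pow hv D.hr hord hW hcop
  have hcq := card_cq H hv
  rw [hconj, card_fx_conj, hc, ← hconj] at hcq
  rw [Nat.add_right_cancel hcq, hsz] at hp
  exact h3 (Nat.pow_right_injective (show 2 ≤ Nat.card (zGrp G a) by omega) hp).symm

/-- The order of the centraliser of `w`. -/
theorem CData.three_mul_cent_dvd (h3 : D.r = 3) :
    3 * Nat.card (Subgroup.centralizer ({D.w} : Set G)) ∣ Nat.card G := by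
  classical
  have H := E.hyp
  have hw1 := w_ne E hQ2 hna hsz hrz D.hr D.hord
  have hv := wGrp_le_vGrp D.hw
  have hCQ : Q ⊓ Subgroup.centralizer ({D.w} : Set G) = zGrp G a := le_antisymm
    (fun y hy => cq_w E hQ2 hna hsz D.hw hw1 hy.1 (Subgroup.mem_centralizer_singleton_iff.1 hy.2).symm)
    (fun z hz => ⟨zGrp_le H hz, Subgroup.mem_centralizer_singleton_iff.2 (w_comm_z E hQ2 hna D.hw hz)⟩)
  have hC := card_cent H hv
  rw [← card_cq H hv, hCQ] at hC
  have hG := card_cent H (one_mem (vGrp a t))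
  have htop : Subgroup.centralizer ({1} : Set G) = ⊤ := eq_top_iff.2 fun g _ =>
    Subgroup.mem_centralizer_singleton_iff.2 (by rw [mul_one, one_mul])
  rw [← card_cq H (one_mem (vGrp a t)), htop, Subgroup.card_top, inf_top_eq, inf_top_eq, hsz] at hG
  rw [hC, hG]
  obtain ⟨k, hk⟩ := Subgroup.card_dvd_of_le (inf_le_left : dGrp a t ⊓ Subgroup.centralizer ({D.w} : Set G) ≤ dGrp a t)
  have hq3 : 3 ∣ Nat.card (zGrp G a) + 1 := by
    rw [E.card_F, ← h3]
    exact (dvd_pow_self _ (show D.A ≠ 0 by have := D.hA; omega)).trans D.hAdvd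
  obtain ⟨c, hc⟩ := hq3
  set q := Nat.card (zGrp G a)
  have hqe : q = 3 * (c - 1) + 2 := by omega
  rw [hk, hqe]
  generalize c - 1 = c'
  generalize Nat.card ↥(dGrp a t ⊓ Subgroup.centralizer ({D.w} : Set G)) = m
  exact ⟨(3 * c' * c' + 3 * c' + 1) * ((3 * c' + 2) * (3 * c' + 2)) * k, by ring⟩

/-- The product is conjugate into `W`, when `r` is three. -/
theorem CData.conj_w_three (h3 : D.r = 3) :
    ∃ g w₁ : G, w₁ ∈ wGrp a t ∧ g * w₁ * g⁻¹ = D.e * D.w := by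
  classical
  by_contra hnot
  push Not at hnot
  have H := E.hyp
  haveI := Fact.mk Nat.prime_three
  have hw1 := w_ne E hQ2 hna hsz hrz D.hr D.hord
  have hwl : ∀ {g : G}, g ∈ lGrp E hrz → Commute D.w g := fun hg => w_comm_l E hQ2 hna hrz D.hw hg
  set C := Subgroup.centralizer ({D.w} : Set G) with hCdef
  have hxC : D.x ∈ C := Subgroup.mem_centralizer_singleton_iff.2 (hwl D.hx).symm.eq
  have hwC : D.w ∈ C := Subgroup.mem_centralizer_singleton_iff.2 rfl
  obtain ⟨P₁, hP₁⟩ := (IsPGroup.of_card (p := 3) (G := Subgroup.zpowers (⟨D.x, hxC⟩ : C)) (n := D.A)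
    (by rw [Nat.card_zpowers, Subgroup.orderOf_mk, D.xord, h3])).exists_le_sylow
  have hwP : (⟨D.w, hwC⟩ : C) ∈ (P₁ : Subgroup C) := by
    haveI : (Subgroup.zpowers (⟨D.w, hwC⟩ : C)).Normal := ⟨fun y hy g => by
      obtain ⟨i, rfl⟩ := hy
      have hg : Commute g (⟨D.w, hwC⟩ : C) := Subtype.ext (Subgroup.mem_centralizer_singleton_iff.1 g.2)
      rw [(hg.zpow_right i).eq, mul_inv_cancel_right]
      exact Subgroup.zpow_mem _ (Subgroup.mem_zpowers _) i⟩
    have hp : IsPGroup 3 (Subgroup.zpowers (⟨D.w, hwC⟩ : C)) := IsPGroup.of_card (n := 1) (by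
      rw [Nat.card_zpowers, Subgroup.orderOf_mk, D.hord, h3, pow_one])
    have h := P₁.is_maximal' (IsPGroup.to_sup_of_normal_right P₁.isPGroup' hp) le_sup_left
    rw [← h]
    exact Subgroup.mem_sup_right (Subgroup.mem_zpowers _)
  set P := (P₁ : Subgroup C).map C.subtype with hPdef
  have hPC : P ≤ C := by
    rintro _ ⟨y, -, rfl⟩
    exact y.2
  have hPcard : Nat.card P = Nat.card (P₁ : Subgroup C) :=
    Subgroup.card_map_of_injective C.subtype_injective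
  obtain ⟨N, hN⟩ := P₁.isPGroup'.exists_card_eq
  have hdvd : 3 ^ (N + 1) ∣ Nat.card G := by
    refine dvd_trans ?_ (D.three_mul_cent_dvd hQ2 hna hsz h3)
    rw [pow_succ', ← hN]
    exact mul_dvd_mul_left 3 (Subgroup.card_subgroup_dvd_card _)
  obtain ⟨R, hR, hPR⟩ := Sylow.exists_subgroup_card_pow_succ hdvd (hPcard.trans hN)
  haveI : Group.IsNilpotent R := (IsPGroup.of_card (p := 3) hR).isNilpotent
  have hlt : P.subgroupOf R < ⊤ := lt_top_iff_ne_top.2 fun e => by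
    have h1 := Nat.card_congr (Subgroup.subgroupOfEquivOfLe hPR).toEquiv
    rw [e, Subgroup.card_top, hR, hPcard, hN] at h1
    have := Nat.pow_right_injective (le_refl 2 |>.trans (by norm_num : 2 ≤ 3)) h1
    omega
  obtain ⟨n, hnN, hnP⟩ := SetLike.exists_of_lt (Group.normalizerCondition_of_isNilpotent _ hlt)
  have hnorm : ∀ y ∈ P, (n : G) * y * (n : G)⁻¹ ∈ P := fun y hy =>
    (Subgroup.mem_normalizer_iff.1 hnN ⟨y, hPR hy⟩).1 hy
  have hnC : (n : G) ∉ C := fun hnC => hnP (by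
    have hRp : IsPGroup 3 (R.subgroupOf C) :=
      (IsPGroup.of_card (p := 3) hR).comap_of_injective C.subtype C.subtype_injective
    have h := P₁.is_maximal' hRp fun y hy => hPR ⟨y, hy, rfl⟩
    exact ⟨⟨n, hnC⟩, h ▸ n.2, rfl⟩)
  set w' := (n : G) * D.w * (n : G)⁻¹ with hw'
  have hw'P : w' ∈ P := hnorm _ ⟨⟨D.w, hwC⟩, hwP, rfl⟩
  have hcent : ∀ y ∈ P, w' * y = y * w' := by
    intro y hy
    have hy' : (n : G)⁻¹ * y * n ∈ P := (Subgroup.mem_normalizer_iff''.1 hnN ⟨y, hPR hy⟩).1 hy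
    have h1 : (n : G)⁻¹ * y * n * D.w = D.w * ((n : G)⁻¹ * y * n) :=
      Subgroup.mem_centralizer_singleton_iff.1 (hPC hy')
    calc w' * y = (n : G) * (D.w * ((n : G)⁻¹ * y * n)) * (n : G)⁻¹ := by rw [hw']; group
      _ = (n : G) * ((n : G)⁻¹ * y * n * D.w) * (n : G)⁻¹ := by rw [h1]
      _ = _ := by rw [hw']; group
  have hw'3 : w' ^ 3 = 1 := by
    rw [hw', conj_pow, ← h3, D.w_pow, mul_one, mul_inv_cancel]
  obtain ⟨l, hl, v', hv', hlv, hv'w⟩ := cent_w_lv E hQ2 hna hsz hrz D.hw hw1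
    (Subgroup.mem_centralizer_singleton_iff.1 (hPC hw'P))
  have hv'3 : v' ^ 3 = 1 := by
    refine l_inter_v E hrz ?_ (pow_mem hv' 3)
    have e : v' ^ 3 = (l * (v' * l * v'⁻¹) * (v' * (v' * l * v'⁻¹) * v'⁻¹))⁻¹ * w' ^ 3 := by
      simp only [hlv, pow_succ, pow_zero, one_mul]
      group
      simp [pow_succ, mul_assoc, zpow_ofNat]
    rw [e, hw'3, mul_one]
    exact inv_mem (mul_mem (mul_mem hl (v_conj_l E hrz hv' hl)) (v_conj_l E hrz hv' (v_conj_l E hrz hv' hl)))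
  have hxP : D.x ∈ P := ⟨⟨D.x, hxC⟩, hP₁ (Subgroup.mem_zpowers _), rfl⟩
  have hvx : v' * D.x * v'⁻¹ = l⁻¹ * D.x * l := by
    have h := hcent _ hxP
    rw [hlv] at h
    calc v' * D.x * v'⁻¹ = l⁻¹ * (l * v' * D.x) * v'⁻¹ := by group
      _ = l⁻¹ * (D.x * (l * v')) * v'⁻¹ := by rw [h]
      _ = _ := by group
  set M := psi E hrz ⟨D.x, D.hx⟩ with hM
  have htr : E.sig hv' (M.1 0 0 + M.1 1 1) = M.1 0 0 + M.1 1 1 := by
    rw [map_add, ← psi_conj_v E hrz hv', ← psi_conj_v E hrz hv', ← Matrix.trace_fin_two, ← Matrix.trace_fin_two,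
      show (⟨v' * (⟨D.x, D.hx⟩ : lGrp E hrz) * v'⁻¹, v_conj_l E hrz hv' D.hx⟩ : lGrp E hrz) =
        ⟨l, hl⟩⁻¹ * ⟨D.x, D.hx⟩ * ⟨l, hl⟩ from Subtype.ext hvx, map_mul, map_mul,
      Matrix.SpecialLinearGroup.coe_mul, Matrix.SpecialLinearGroup.coe_mul, Matrix.trace_mul_cycle,
      ← Matrix.SpecialLinearGroup.coe_mul, ← map_mul, mul_inv_cancel, map_one, Matrix.SpecialLinearGroup.coe_one,
      one_mul]
  have hMc : M * psi E hrz ⟨D.e, D.he⟩ = psi E hrz ⟨D.e, D.he⟩ * M := by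
    rw [hM, ← map_mul, ← map_mul]
    exact congrArg _ (Subtype.ext D.hxe)
  have hv'W : v' ∈ wGrp a t := by
    refine (E.sig_one_iff hv').1 ?_
    by_contra hne
    have h3' : E.sig hv' ^ 3 = 1 := by
      rw [← E.sig_pow hv', E.sig_one_iff, hv'3]
      exact one_mem _
    obtain ⟨hq, hfx⟩ := aut_fixed (E.sig hv')
    rw [orderOf_eq_prime h3' hne] at hq
    set q1 := Nat.card {y : F // E.sig hv' y = y}
    obtain ⟨k, -, hk⟩ := exists_card_zGrp H
    obtain ⟨m, -, hm⟩ := (Nat.dvd_prime_pow Nat.prime_two).1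
      (show q1 ∣ 2 ^ k by rw [← hk, E.card_F, hq]; exact dvd_pow_self _ (by norm_num))
    have hfix := X₂.fixes_of_comm D.psi_entry D.hM hMc
    have hpw := X₂.pow_of_trace D.hδ hfix (m := m) (hm ▸ hfx _ htr)
    have hord : orderOf M = 3 ^ D.A := by
      rw [hM, orderOf_injective _ (psi_injective E hrz), Subgroup.orderOf_mk, D.xord, h3]
    have hd1 : 3 ^ D.A ∣ q1 ^ 2 - 1 := by
      rw [← hord, hm]
      exact orderOf_dvd_of_pow_eq_one hpw
    refine D.hAmax ?_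
    rw [h3, hq]
    have hd0 : 3 ∣ q1 ^ 3 + 1 := by
      rw [← hq, ← h3]
      exact (dvd_pow_self _ (show D.A ≠ 0 by have := D.hA; omega)).trans D.hAdvd
    have hmod : q1 % 3 = 2 := by
      obtain ⟨d, hd⟩ := hd0
      have h1 : q1 ^ 3 % 3 = 2 := by omega
      rw [Nat.pow_mod] at h1
      have := Nat.mod_lt q1 (show 3 > 0 by norm_num)
      interval_cases h : q1 % 3 <;> simp_all
    obtain ⟨c, hc⟩ : ∃ c, q1 = 3 * c + 2 := ⟨q1 / 3, by omega⟩
    rw [hc] at hd1 ⊢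
    have e1 : (3 * c + 2) ^ 2 - 1 = (3 * c + 3) * (3 * c + 1) := by
      refine Nat.sub_eq_of_eq_add ?_
      ring
    rw [e1] at hd1
    have hcop : Nat.Coprime (3 ^ D.A) (3 * c + 1) :=
      ((Nat.Prime.coprime_iff_not_dvd Nat.prime_three).2 (by omega)).pow_left _
    rw [show (3 * c + 2) ^ 3 + 1 = (3 * c + 3) * (3 * (3 * c * c + 3 * c + 1)) by ring, pow_succ]
    exact mul_dvd_mul (hcop.dvd_of_dvd_mul_right hd1) (dvd_mul_right 3 _)
  obtain ⟨j, hj⟩ := D.w_uniq (hQ2 := hQ2) (hna := hna) (hsz := hsz) hv'W hv'w (h3 ▸ hv'3)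
  have hlr : l ^ D.r = 1 := by
    rw [h3]
    have h := hw'3
    rw [hlv, hj, ((hwl hl).symm.pow_right j).mul_pow, ← pow_mul, mul_comm j, pow_mul, ← h3, D.w_pow, one_pow,
      mul_one, h3] at h
    exact h
  have hlx : l * D.x = D.x * l := by
    refine (eq_inv_mul_iff_mul_eq.1 ?_)
    rw [← mul_assoc, ← hvx, w_comm_l E hQ2 hna hrz hv'W D.hx, mul_inv_cancel_right]
  obtain ⟨i, hi⟩ := D.comm_pow hl (by
    obtain ⟨i₀, hi₀⟩ := D.xgen
    rw [hi₀]
    exact (Commute.pow_right hlx i₀).eq) hlr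
  rw [hi, hj] at hlv
  haveI := Fact.mk D.hr
  by_cases hei : D.e ^ i = 1
  · rw [hei, one_mul] at hlv
    have hj3 : D.w ^ j = D.w ^ (j % 3) := by rw [← h3, ← D.hord, pow_mod_orderOf]
    rw [hj3] at hlv
    rcases (show j % 3 = 0 ∨ j % 3 = 1 ∨ j % 3 = 2 by omega) with h | h | h <;> rw [h] at hlv
    · rw [pow_zero, hw', conj_eq_one_iff] at hlv
      exact hw1 hlv
    · rw [pow_one, hw', mul_inv_eq_iff_eq_mul] at hlv
      exact hnC (Subgroup.mem_centralizer_singleton_iff.2 hlv)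
    · refine hw1 (w_not_real E hQ2 hna hsz hrz D.hw (h := (n : G)) ?_)
      rw [← hw', hlv]
      refine eq_inv_of_mul_eq_one_left ?_
      rw [← pow_succ, show 2 + 1 = D.r by omega, D.w_pow]
  · have hfree := free_of_fix E hQ2 hna hsz hrz D.hr2 D.hr (pow_mem D.hw i)
      (by rw [← pow_mul, mul_comm, pow_mul, D.w_pow, one_pow]) (pow_mem D.he i)
      (by rw [← pow_mul, mul_comm, pow_mul, D.e_pow, one_pow]) hei D.hc₀
      (D.fix_pow (hQ2 := hQ2) (hna := hna) i)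
    set p := (n : G) • a
    have hp : w' • p = p := by
      rw [hw', mul_smul, inv_smul_smul, mul_smul, mem_stabilizer_iff.1 D.hw.1.1.1]
    rw [hlv, mul_smul] at hp
    have hwjB : ∀ {c : Ω}, InB E hrz c → (D.w ^ j) • c = c := fun hc =>
      mem_stabilizer_iff.1 (pow_mem (mem_stabilizer_iff.2 ((fix_w E hQ2 hna hsz hrz D.hw hw1).2 hc)) j)
    have hpB : ¬ InB E hrz p := fun h => hfree p h (by rwa [hwjB h] at hp)
    obtain ⟨m, hm, hmp⟩ := l_trans E hQ2 hna hsz hrz D.hc₀ hpB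
    have hcj := D.fix_pow (hQ2 := hQ2) (hna := hna) j
    have hout : ¬ InB E hrz ((D.w ^ j) • D.c₀) := fun h => D.hc₀ (by
      have h1 := hwjB h
      exact smul_left_cancel _ h1 ▸ h)
    have hme : m⁻¹ * D.e ^ i * m = D.e ^ j := by
      refine (inv_mul_eq_one.1 (l_semireg E hQ2 hna hsz hrz (mul_mem (inv_mem (pow_mem D.he j))
        (mul_mem (mul_mem (inv_mem hm) (pow_mem D.he i)) hm)) hout ?_)).symm
      rw [mul_smul, inv_smul_eq_iff, ← mul_smul (D.e ^ j), hcj, mul_smul, mul_smul, inv_smul_eq_iff,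
        ← mul_smul m, ← ((hwl hm).pow_left j).eq, mul_smul, hmp, hp]
    have hej : D.e ^ j ≠ 1 := fun h => hei (by
      calc D.e ^ i = m * (m⁻¹ * D.e ^ i * m) * m⁻¹ := by group
        _ = 1 := by rw [hme, h]; group)
    have hconj : m⁻¹ * w' * m = (D.e * D.w) ^ j := by
      rw [hlv, (D.comm_ew (hQ2 := hQ2) (hna := hna)).mul_pow, ← hme,
        show m⁻¹ * (D.e ^ i * D.w ^ j) * m = m⁻¹ * D.e ^ i * (D.w ^ j * m) by group, ((hwl hm).pow_left j).eq]
      group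
    have hne : (D.e * D.w) ^ j ≠ 1 := fun h => by
      rw [h] at hconj
      have : w' = 1 := by
        calc w' = m * (m⁻¹ * w' * m) * m⁻¹ := by group
          _ = 1 := by rw [hconj]; group
      rw [hw', conj_eq_one_iff] at this
      exact hw1 this
    obtain ⟨i', hi'⟩ := mem_zpowers_prime D.hr (D.y_order hQ2 hna)
      (Subgroup.npow_mem_zpowers _ j) hne
    refine hnot (m⁻¹ * n) (D.w ^ i') (Subgroup.zpow_mem _ D.hw i') ?_
    rw [← hi', ← hconj, hw', show m⁻¹ * ((n : G) * D.w * (n : G)⁻¹) * m =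
      (m⁻¹ * n) * D.w * (m⁻¹ * n)⁻¹ by group]
    exact conj_zpow.symm

theorem CData.conj_w : ∃ g w₁ : G, w₁ ∈ wGrp a t ∧ g * w₁ * g⁻¹ = D.e * D.w := by
  by_cases h3 : D.r = 3
  · exact D.conj_w_three hQ2 hna hsz h3
  · exact D.conj_w_ne_three hQ2 hna hsz h3

end Cfsg.Agent.Transfer.RankOne
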