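import Cfsg.Agent.Lib.Transfer.RankOne.CubeConj

/-!
The map `δ` from the points off the orbit of `a` under the cells to the quadratic extension, and the involutions
exchanging the orbit with the fibres over the conjugate values.
-/

set_option autoImplicit false
set_option linter.unusedSectionVars false
set_option linter.style.haveILetI false

namespace Cfsg.Agent.Transfer.RankOne

open MulAction Matrix
open scoped MatrixGroups
open Cfsg.Agent.Lie.RankOne (b_ne)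

universe u v

section Mob

variable {F E : Type} [Field F] [Finite F] [CharP F 2] [Field E] [Finite E] [CharP E 2] (X₂ : QExt F E)

/-- The fractional linear action on the extension. -/
def QExt.mob (M : SL(2, F)) (x : E) : E :=
  (X₂.j (M.1 0 0) * x + X₂.j (M.1 0 1)) / (X₂.j (M.1 1 0) * x + X₂.j (M.1 1 1))

theorem QExt.den_ne {x : E} (hx : ∀ y, X₂.j y ≠ x) (M : SL(2, F)) :
    X₂.j (M.1 1 0) * x + X₂.j (M.1 1 1) ≠ 0 := fun h => by
  obtain ⟨h1, h2⟩ := X₂.indep hx (h.trans (by rw [map_zero, zero_mul, zero_add] :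
    (0 : E) = X₂.j 0 * x + X₂.j 0))
  have hd : M.1 0 0 * M.1 1 1 - M.1 0 1 * M.1 1 0 = 1 := by rw [← Matrix.det_fin_two]; exact M.2
  exact zero_ne_one (by linear_combination hd - M.1 0 0 * h2 + M.1 0 1 * h1 : (0 : F) = 1)

theorem QExt.out_J {x : E} (hx : ∀ y, X₂.j y ≠ x) : ∀ y, X₂.j y ≠ X₂.J x := fun y h => hx y (by
  have := congrArg X₂.J h
  rwa [X₂.J_j, X₂.J_J] at this)

theorem QExt.mob_J {x : E} (M : SL(2, F)) : X₂.J (X₂.mob M x) = X₂.mob M (X₂.J x) := by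
  simp only [mob, map_div₀, map_add, map_mul, X₂.J_j]

theorem QExt.mob_one (x : E) : X₂.mob 1 x = x := by simp [mob]

theorem QExt.mob_mul {x : E} (hx : ∀ y, X₂.j y ≠ x) (M N : SL(2, F)) :
    X₂.mob (M * N) x = X₂.mob M (X₂.mob N x) := by
  have h := X₂.den_ne hx N
  have h' := X₂.den_ne hx (M * N)
  simp only [mob, Matrix.SpecialLinearGroup.coe_mul, Matrix.mul_apply, Fin.sum_univ_two, map_add, map_mul] at h' ⊢
  field_simp
  ring

theorem QExt.mob_out {x : E} (hx : ∀ y, X₂.j y ≠ x) (M : SL(2, F)) : ∀ y, X₂.j y ≠ X₂.mob M x := fun y h => by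
  have h1 : X₂.mob M (X₂.J x) = X₂.mob M x := by rw [← X₂.mob_J, ← h, X₂.J_j]
  have h2 := congrArg (X₂.mob M⁻¹) h1
  rw [← X₂.mob_mul (X₂.out_J hx), ← X₂.mob_mul hx, inv_mul_cancel, X₂.mob_one, X₂.mob_one] at h2
  exact X₂.J_ne hx h2

theorem QExt.mob_fix {x : E} (hx : ∀ y, X₂.j y ≠ x) {M : SL(2, F)} (hM : X₂.Fixes x M) : X₂.mob M x = x := by
  unfold QExt.Fixes QExt.mult at hM
  rw [mob, hM, mul_div_cancel_left₀ _ (X₂.den_ne hx M)]

end Mob

variable {G : Type u} {Ω : Type v} [Group G] [MulAction G Ω] [Finite G] [FaithfulSMul G Ω]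
  {a : Ω} {t : G} {Q : Subgroup G} {F : Type} [Field F] [Finite F] [CharP F 2] (E : Env a t Q F)

/-- An element of the cells moving `a` is inverted by an element of `Z₀`. -/
theorem lGrp_real_z (hrz : E.r ∈ zGrp G a) {g : G} (hg : g ∈ lGrp E hrz) (ha : g • a ≠ a) :
    ∃ h ∈ zGrp G a, h * g * h⁻¹ = g⁻¹ := by
  have H := E.hyp
  rcases hg with ⟨z, hz, k, hk, rfl⟩ | ⟨z, hz, k, hk, z', hz', rfl⟩
  · exact absurd (by
      rw [mul_smul, mem_stabilizer_iff.1 (kGrp_le_dGrp H hk).1, Lie.RankOne.q_fix H.setup (zGrp_le H hz)]) ha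
  · have hk2 : (k * t) * (k * t) = 1 := by
      rw [show k * t * (k * t) = k * (t * k * t) by group, t_k H hk, mul_inv_cancel]
    have hki : (k * t)⁻¹ = k * t := inv_eq_of_mul_eq_one_right hk2
    have hw : z' * z ∈ zGrp G a := mul_mem hz' hz
    refine ⟨z'⁻¹ * (z' * z) * z', mul_mem (mul_mem (inv_mem hz') hw) hz', ?_⟩
    calc z'⁻¹ * (z' * z) * z' * (z * k * t * z') * (z'⁻¹ * (z' * z) * z')⁻¹
        = z'⁻¹ * ((z' * z) * (z' * z) * (k * t) * (z' * z)⁻¹) * z' := by group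
      _ = z'⁻¹ * ((k * t)⁻¹ * (z' * z)⁻¹) * z' := by rw [((mem_zGrp H).1 hw).2, one_mul, hki]
      _ = _ := by group

/-- The map `δ` and its properties. -/
structure DData (hrz : E.r ∈ zGrp G a) {K : Type} [Field K] (X₂ : QExt F K) where
  w : G
  r : ℕ
  δ : Ω → K
  hw : w ∈ wGrp a t
  hr : r.Prime
  hr2 : r ≠ 2
  hord : orderOf w = r
  hdvd : r ∣ Nat.card F + 1
  out : ∀ c, ¬ InB E hrz c → ∀ y, X₂.j y ≠ δ c
  add : ∀ c, ¬ InB E hrz c → ∀ y, δ (E.C.e y • c) = δ c + X₂.j y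
  mul : ∀ c, ¬ InB E hrz c → ∀ γ : Fˣ, δ (E.C.kap γ • c) = X₂.j γ * δ c
  inv : ∀ c, ¬ InB E hrz c → δ (t • c) = (δ c)⁻¹
  wfix : ∀ c, ¬ InB E hrz c → δ (w • c) = δ c
  swap : ∀ c, ¬ InB E hrz c → ∃ u : G, u • c = c ∧ u * u = 1 ∧ u ≠ 1 ∧
    ∀ p, InB E hrz p → ¬ InB E hrz (u • p) ∧ δ (u • p) = X₂.J (δ c)

variable (hQ2 : IsPGroup 2 Q) (hna : ∃ x ∈ Q, ∃ y ∈ Q, x * y ≠ y * x)
  (hsz : Nat.card Q = Nat.card (zGrp G a) ^ 3) (hrz : E.r ∈ zGrp G a)
  {K : Type} [Field K] [Finite K] [CharP K 2] (X₂ : QExt F K)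
include hQ2 hna hsz hrz

/-- An involution fixing the base point and carrying the orbit of `a` to points whose transporter inverts `e`. -/
theorem CData.exists_swap {X₂ : QExt F K} (D : CData E hrz X₂) :
    ∃ u : G, u • D.c₀ = D.c₀ ∧ u * u = 1 ∧ u ≠ 1 ∧ ∀ p, InB E hrz p →
      ∃ m ∈ lGrp E hrz, m • D.c₀ = u • p ∧ m * D.e * m⁻¹ = D.e⁻¹ ∧ ¬ InB E hrz (u • p) := by
  have H := E.hyp
  have hw1 := w_ne E hQ2 hna hsz hrz D.hr D.hord
  haveI := Fact.mk D.hr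
  obtain ⟨g₀, w₁, hw₁, hg₀⟩ := D.conj_w hQ2 hna hsz
  have hy₁ : orderOf w₁ = D.r := by
    rw [← D.y_order hQ2 hna, ← hg₀]
    exact (MulEquiv.orderOf_eq (MulAut.conj g₀) w₁).symm
  have hw₁1 : w₁ ≠ 1 := w_ne E hQ2 hna hsz hrz D.hr hy₁
  have hgc : InB E hrz (g₀⁻¹ • D.c₀) := (fix_w E hQ2 hna hsz hrz hw₁ hw₁1).1 (by
    rw [← mul_smul, show w₁ * g₀⁻¹ = g₀⁻¹ * (g₀ * w₁ * g₀⁻¹) by group, hg₀, mul_smul, D.hfix])
  obtain ⟨l₀, hl₀, hl₀a⟩ := lGrp_trans E hrz hgc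
  set g := g₀ * l₀ with hg
  have hga : g • a = D.c₀ := by rw [hg, mul_smul, hl₀a, smul_inv_smul]
  have hgw : g * w₁ * g⁻¹ = D.e * D.w := by
    rw [← hg₀, hg, show g₀ * l₀ * w₁ * (g₀ * l₀)⁻¹ = g₀ * (l₀ * w₁) * l₀⁻¹ * g₀⁻¹ by group,
      ← w_comm_l E hQ2 hna hrz hw₁ hl₀]
    group
  have hw₁e : w₁ = g⁻¹ * D.e * g * (g⁻¹ * D.w * g) := by
    calc w₁ = g⁻¹ * (g * w₁ * g⁻¹) * g := by group
      _ = _ := by rw [hgw]; group
  have hwl : ∀ {y : G}, y ∈ lGrp E hrz → Commute D.w y := fun hy => w_comm_l E hQ2 hna hrz D.hw hy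
  have hcent : ∀ y, y * (D.e * D.w) = D.e * D.w * y → g⁻¹ * y * g * w₁ = w₁ * (g⁻¹ * y * g) := fun y hy => by
    calc g⁻¹ * y * g * w₁ = g⁻¹ * (y * (g * w₁ * g⁻¹)) * g := by group
      _ = g⁻¹ * (g * w₁ * g⁻¹ * y) * g := by rw [hgw, hy]
      _ = _ := by group
  obtain ⟨lx, hlx, vx, hvx, hex, hvxw⟩ := cent_w_lv E hQ2 hna hsz hrz hw₁ hw₁1 (hcent D.x
    ((show Commute D.x D.e from D.hxe).mul_right (hwl D.hx).symm).eq)
  have hpow : ∀ i : ℕ, ∃ l ∈ lGrp E hrz, (lx * vx) ^ i = l * vx ^ i := by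
    intro i
    induction i with
    | zero => exact ⟨1, one_mem _, by simp⟩
    | succ i ih =>
      obtain ⟨l, hl, e⟩ := ih
      refine ⟨l * (vx ^ i * lx * (vx ^ i)⁻¹), mul_mem hl (v_conj_l E hrz (pow_mem hvx i) hlx), ?_⟩
      rw [pow_succ, e, pow_succ vx i]
      group
  have hxpow : ∀ i : ℕ, (g⁻¹ * D.x * g) ^ i = g⁻¹ * D.x ^ i * g := fun i => by
    have := conj_pow (a := g⁻¹) (b := D.x) (i := i)
    rwa [inv_inv] at this
  obtain ⟨i₀, hi₀⟩ := D.xgen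
  have hA := D.hA
  have hi₀' : D.r ^ (D.A - 1) ∣ i₀ := by
    have h1 : D.x ^ (i₀ * D.r) = 1 := by rw [pow_mul, ← hi₀, D.e_pow]
    have h2 := orderOf_dvd_of_pow_eq_one h1
    rw [D.xord, show D.r ^ D.A = D.r ^ (D.A - 1) * D.r by rw [← pow_succ, Nat.sub_add_cancel hA]] at h2
    exact Nat.dvd_of_mul_dvd_mul_right D.hr.pos h2
  have hσ : E.sig hvx ^ D.r ^ D.A = 1 := by
    obtain ⟨l, hl, e⟩ := hpow (D.r ^ D.A)
    rw [← hex, hxpow, ← D.xord, pow_orderOf_eq_one, mul_one, inv_mul_cancel, eq_comm] at e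
    rw [← E.sig_pow hvx, E.sig_one_iff, ← D.xord,
      l_inter_v E hrz (show vx ^ orderOf D.x ∈ lGrp E hrz from eq_inv_of_mul_eq_one_right e ▸ inv_mem hl)
        (pow_mem hvx _)]
    exact one_mem _
  have hσ' := aut_small D.hr D.hr2 hA ((dvd_pow_self _ (show D.A ≠ 0 by omega)).trans D.hAdvd) D.hAmax hσ
  obtain ⟨le, hle, hlee⟩ := hpow i₀
  rw [← hex, hxpow, ← hi₀] at hlee
  set ve := vx ^ i₀ with hve
  have hveW : ve ∈ wGrp a t := by
    refine (E.sig_one_iff (pow_mem hvx i₀)).1 ?_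
    obtain ⟨c, hc⟩ := hi₀'
    rw [E.sig_pow hvx, hc, pow_mul, hσ', one_pow]
  have hvl : Commute ve le := w_comm_l E hQ2 hna hrz hveW hle
  have her : le ^ D.r * ve ^ D.r = 1 := by
    rw [← hvl.symm.mul_pow, ← hlee]
    have := conj_pow (a := g⁻¹) (b := D.e) (i := D.r)
    rw [inv_inv] at this
    rw [this, D.e_pow, mul_one, inv_mul_cancel]
  have hver : ve ^ D.r = 1 := l_inter_v E hrz (eq_inv_of_mul_eq_one_right her ▸ inv_mem (pow_mem hle _))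
    (pow_mem (wGrp_le_vGrp hveW) _)
  have hler : le ^ D.r = 1 := by rwa [hver, mul_one] at her
  obtain ⟨D₁, hD₁w, hD₁r⟩ := exists_cdata E hQ2 hna hsz hrz X₂ hw₁ D.hr hy₁
  obtain ⟨k, hk⟩ := D₁.w_uniq (hQ2 := hQ2) (hna := hna) (hsz := hsz) hveW (by
    rw [hD₁w, hve]
    exact ((show Commute vx w₁ from hvxw).pow_left i₀).eq) (by rw [hD₁r]; exact hver)
  rw [hD₁w] at hk
  set l := le⁻¹ with hl
  have hlL : l ∈ lGrp E hrz := inv_mem hle
  have hlr : l ^ D.r = 1 := by rw [hl, inv_pow, hler, inv_one]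
  set j := 1 + k * (D.r - 1) with hj
  have hcw : Commute w₁ l := w_comm_l E hQ2 hna hrz hw₁ hlL
  have hws : g⁻¹ * D.w * g = l * w₁ ^ j := by
    have h1 : g⁻¹ * D.w * g = ve⁻¹ * l * w₁ := by
      rw [hl, ← _root_.mul_inv_rev, ← hlee]
      conv_rhs => rw [hw₁e]
      rw [inv_mul_cancel_left]
    have hr1 : ve⁻¹ = w₁ ^ (k * (D.r - 1)) := by
      rw [pow_mul, ← hk]
      refine inv_eq_of_mul_eq_one_right ?_
      rw [← pow_succ', Nat.sub_add_cancel D.hr.one_lt.le, hver]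
    rw [h1, hr1, (hcw.pow_left _).eq, mul_assoc, ← pow_succ, hj, add_comm]
  have hla : l • a ≠ a := fun h => D.hc₀ ((fix_w E hQ2 hna hsz hrz D.hw hw1).1 (by
    have hwa : w₁ ^ j ∈ stabilizer G a := pow_mem hw₁.1.1.1 _
    rw [← hga, ← mul_smul, show D.w * g = g * (g⁻¹ * D.w * g) by group, hws, mul_smul g, mul_smul l,
      mem_stabilizer_iff.1 hwa, h]))
  obtain ⟨z, hz, hzl⟩ := lGrp_real_z E hrz hlL hla
  have hl1 : l ≠ 1 := fun h => hla (by rw [h, one_smul])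
  have hz1 : z ≠ 1 := fun h => hl1 (by
    rw [h, one_mul, inv_one, mul_one] at hzl
    have h2 : l ^ 2 = 1 := by rw [pow_two]; exact eq_inv_iff_mul_eq_one.1 hzl
    exact orderOf_eq_one_iff.1 (Nat.eq_one_of_dvd_coprimes ((Nat.coprime_primes D.hr Nat.prime_two).2 D.hr2)
      (orderOf_dvd_of_pow_eq_one hlr) (orderOf_dvd_of_pow_eq_one h2)))
  have hzz := ((mem_zGrp H).1 hz).2
  set u := g * z * g⁻¹ with hu
  have huc : u • D.c₀ = D.c₀ := by
    rw [hu, ← hga, mul_smul, mul_smul, inv_smul_smul, mem_stabilizer_iff.1 ((mem_zGrp H).1 hz).1]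
  have huu : u * u = 1 := by
    rw [hu, conj_mul, hzz]; group
  refine ⟨u, huc, huu, fun h => hz1 (conj_eq_one_iff.1 h), ?_⟩
  -- the image of `w`
  set A := 2 * j with hAdef
  set B := 2 * j + (D.r - 1) with hBdef
  have huw : u * D.w * u⁻¹ = D.e ^ A * D.w ^ B := by
    have hzw : z * w₁ ^ j = w₁ ^ j * z := ((show Commute z w₁ from w_comm_z E hQ2 hna hw₁ hz).pow_right j).eq
    have h1 : z * (l * w₁ ^ j) * z⁻¹ = (l * w₁ ^ j)⁻¹ * w₁ ^ A := by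
      rw [show z * (l * w₁ ^ j) * z⁻¹ = z * l * z⁻¹ * (z * w₁ ^ j * z⁻¹) by group, hzl, hzw, mul_inv_cancel_right,
        _root_.mul_inv_rev, hAdef, two_mul, pow_add w₁ j j, ((hcw.pow_left j).inv_left.inv_right).eq]
      group
    have h2 : D.w⁻¹ = D.w ^ (D.r - 1) := by
      refine inv_eq_of_mul_eq_one_right ?_
      rw [← pow_succ', Nat.sub_add_cancel D.hr.one_lt.le, D.w_pow]
    calc u * D.w * u⁻¹ = g * (z * (g⁻¹ * D.w * g) * z⁻¹) * g⁻¹ := by rw [hu]; group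
      _ = g * ((g⁻¹ * D.w * g)⁻¹ * w₁ ^ A) * g⁻¹ := by rw [hws, h1]
      _ = D.w⁻¹ * (g * w₁ * g⁻¹) ^ A := by rw [conj_pow]; group
      _ = _ := by
        rw [hgw, (D.comm_ew (hQ2 := hQ2) (hna := hna)).mul_pow, h2, ← mul_assoc,
          ((hwl (pow_mem D.he A)).pow_left _).eq, mul_assoc, ← pow_add, hBdef, add_comm]
  have hlast : D.e ^ A ≠ 1 := fun h => by
    have hwA : D.w ^ A = 1 := by
      rw [← orderOf_dvd_iff_pow_eq_one, D.hord, ← D.eord, orderOf_dvd_iff_pow_eq_one]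
      exact h
    refine hw1 (w_not_real E hQ2 hna hsz hrz D.hw (h := u) ?_)
    rw [huw, h, one_mul, hBdef, pow_add, ← hAdef, hwA, one_mul]
    refine eq_inv_of_mul_eq_one_left ?_
    rw [← pow_succ, Nat.sub_add_cancel D.hr.one_lt.le, D.w_pow]
  have hfree := free_of_fix E hQ2 hna hsz hrz D.hr2 D.hr (pow_mem D.hw A)
    (by rw [← pow_mul, mul_comm, pow_mul, D.w_pow, one_pow]) (pow_mem D.he A)
    (by rw [← pow_mul, mul_comm, pow_mul, D.e_pow, one_pow]) hlast D.hc₀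
    (D.fix_pow (hQ2 := hQ2) (hna := hna) A)
  intro p hp
  have hfixp : (u * D.w * u⁻¹) • (u • p) = u • p := by
    rw [mul_smul, mul_smul, inv_smul_smul, (fix_w E hQ2 hna hsz hrz D.hw hw1).2 hp]
  rw [huw, mul_smul] at hfixp
  have hwB : ∀ {c : Ω}, InB E hrz c → (D.w ^ B) • c = c := fun hc =>
    mem_stabilizer_iff.1 (pow_mem (mem_stabilizer_iff.2 ((fix_w E hQ2 hna hsz hrz D.hw hw1).2 hc)) _)
  have hqB : ¬ InB E hrz (u • p) := fun h => hfree _ h (by rwa [hwB h] at hfixp)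
  obtain ⟨m, hm, hmq⟩ := l_trans E hQ2 hna hsz hrz D.hc₀ hqB
  have hcB := D.fix_pow (hQ2 := hQ2) (hna := hna) B
  have hout : ¬ InB E hrz ((D.w ^ B) • D.c₀) := fun h => D.hc₀ (by
    have h1 := hwB h
    exact smul_left_cancel _ h1 ▸ h)
  have hme : m⁻¹ * D.e ^ A * m = D.e ^ B := by
    refine (inv_mul_eq_one.1 (l_semireg E hQ2 hna hsz hrz (mul_mem (inv_mem (pow_mem D.he B))
      (mul_mem (mul_mem (inv_mem hm) (pow_mem D.he A)) hm)) hout ?_)).symm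
    rw [mul_smul, inv_smul_eq_iff, ← mul_smul (D.e ^ B), hcB, mul_smul, mul_smul, inv_smul_eq_iff,
      ← mul_smul m, ← ((hwl hm).pow_left B).eq, mul_smul, hmq, hfixp]
  refine ⟨m, hm, hmq, ?_, hqB⟩
  rcases D.conj_cases hm hme with h | h
  · exfalso
    rw [hBdef, pow_add, ← hAdef, mul_eq_left] at h
    have := D.e_pow
    rw [show D.r = D.r - 1 + 1 by have := D.hr.one_lt; omega, pow_succ, h, one_mul] at this
    exact D.e_ne this
  · have h4 : D.e ^ (A + A) = D.e := by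
      have h' : D.e ^ (A + A) * D.e ^ (D.r - 1) = 1 := by
        rw [← pow_add, ← h, ← pow_add, hBdef, hAdef]
        ring_nf
      calc D.e ^ (A + A) = D.e ^ (A + A) * (D.e ^ (D.r - 1) * D.e) := by
            rw [← pow_succ, Nat.sub_add_cancel D.hr.one_lt.le, D.e_pow, mul_one]
        _ = D.e := by rw [← mul_assoc, h', one_mul]
    have e1 : m⁻¹ * D.e * m = D.e⁻¹ := by
      refine eq_inv_of_mul_eq_one_left ?_
      calc m⁻¹ * D.e * m * D.e = m⁻¹ * D.e ^ (A + A) * m * D.e ^ (A + A) := by rw [h4]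
        _ = (m⁻¹ * D.e ^ A * m) * (m⁻¹ * D.e ^ A * m) * (D.e ^ A * D.e ^ A) := by rw [pow_add]; group
        _ = (D.e ^ B * D.e ^ B) * (D.e ^ A * D.e ^ A) := by rw [hme]
        _ = (D.e ^ B * D.e ^ A) * (D.e ^ B * D.e ^ A) := by
          simp only [← pow_add]; congr 1; omega
        _ = 1 := by rw [h, one_mul]
    calc m * D.e * m⁻¹ = (m * (m⁻¹ * D.e * m)⁻¹ * m⁻¹)⁻¹⁻¹ := by rw [e1, inv_inv, inv_inv]
      _ = _ := by group

/-- The map `δ` exists. -/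
theorem exists_ddata {w : G} {r : ℕ} (hw : w ∈ wGrp a t) (hr : r.Prime) (hord : orderOf w = r) :
    Nonempty (DData E hrz X₂) := by
  classical
  obtain ⟨D, -, -⟩ := exists_cdata E hQ2 hna hsz hrz X₂ hw hr hord
  set M := psi E hrz ⟨D.e, D.he⟩ with hMdef
  let δ : Ω → K := fun c =>
    if h : ∃ l : lGrp E hrz, (l : G) • D.c₀ = c then X₂.mob (psi E hrz h.choose) D.δ₀ else D.δ₀
  have hout : ∀ {l : G}, l ∈ lGrp E hrz → ¬ InB E hrz (l • D.c₀) := fun hl h => D.hc₀ (by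
    have := lGrp_b E hrz (inv_mem hl) h
    rwa [inv_smul_smul] at this)
  have hδ0 : ∀ l : lGrp E hrz, δ ((l : G) • D.c₀) = X₂.mob (psi E hrz l) D.δ₀ := fun l => by
    have h : ∃ l' : lGrp E hrz, (l' : G) • D.c₀ = (l : G) • D.c₀ := ⟨l, rfl⟩
    show dite _ _ _ = _
    rw [dif_pos h]
    congr 2
    refine Subtype.ext (inv_mul_eq_one.1 (l_semireg E hQ2 hna hsz hrz
      (mul_mem (inv_mem h.choose.2) l.2) D.hc₀ ?_))
    have hs := h.choose_spec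
    rw [mul_smul, inv_smul_eq_iff]
    exact hs.symm
  have hrepr : ∀ {c : Ω}, ¬ InB E hrz c → ∃ l : lGrp E hrz, (l : G) • D.c₀ = c := fun hc => by
    obtain ⟨l, hl, h⟩ := l_trans E hQ2 hna hsz hrz D.hc₀ hc
    exact ⟨⟨l, hl⟩, h⟩
  have hequiv : ∀ {c : Ω}, ¬ InB E hrz c → ∀ m : lGrp E hrz, δ ((m : G) • c) = X₂.mob (psi E hrz m) (δ c) := by
    intro c hc m
    obtain ⟨l, rfl⟩ := hrepr hc
    rw [← mul_smul, ← Subgroup.coe_mul, hδ0, hδ0, map_mul, X₂.mob_mul D.hδ]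
  have hout' : ∀ c, ¬ InB E hrz c → ∀ y, X₂.j y ≠ δ c := fun c hc => by
    obtain ⟨l, rfl⟩ := hrepr hc
    rw [hδ0]
    exact X₂.mob_out D.hδ _
  refine ⟨{ w := D.w, r := D.r, δ := δ, hw := D.hw, hr := D.hr, hr2 := D.hr2, hord := D.hord,
            hdvd := (dvd_pow_self _ (show D.A ≠ 0 by have := D.hA; omega)).trans D.hAdvd, out := hout',
            add := fun c hc y => ?_, mul := fun c hc γ => ?_, inv := fun c hc => ?_, wfix := fun c hc => ?_,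
            swap := fun c hc => ?_ }⟩
  · have h := hequiv hc ⟨_, z_le_lGrp E hrz (E.C.e_mem y)⟩
    rw [psi_eq E hrz (g := ⟨_, z_le_lGrp E hrz (E.C.e_mem y)⟩) (mrel_z E hrz y)] at h
    exact h.trans (by simp [QExt.mob, mU])
  · obtain ⟨v, hv⟩ := FiniteField.isSquare_of_char_two (ringChar.eq F 2) (γ : F)
    have hv0 : v ≠ 0 := fun e => γ.ne_zero (by rw [hv, e, zero_mul])
    obtain rfl : γ = Units.mk0 v hv0 * Units.mk0 v hv0 := Units.ext (by simpa using hv)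
    have h := hequiv hc ⟨_, k_le_lGrp E hrz (E.C.kap_mem (Units.mk0 v hv0 * Units.mk0 v hv0))⟩
    rw [psi_eq E hrz (g := ⟨_, k_le_lGrp E hrz (E.C.kap_mem (Units.mk0 v hv0 * Units.mk0 v hv0))⟩)
      (mrel_k E hrz (Units.mk0 v hv0))] at h
    refine h.trans ?_
    have hv0' : X₂.j v ≠ 0 := (map_ne_zero X₂.j).2 hv0
    simp [QExt.mob, mD]
    field_simp
  · have h := hequiv hc ⟨t, t_mem_lGrp E hrz⟩
    rw [psi_eq E hrz (g := ⟨t, t_mem_lGrp E hrz⟩) (mrel_t E hrz)] at h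
    exact h.trans (by simp [QExt.mob, mW])
  · obtain ⟨l, rfl⟩ := hrepr hc
    have hw0 : D.w • D.c₀ = D.e⁻¹ • D.c₀ := by
      rw [eq_inv_smul_iff, ← mul_smul, D.hfix]
    have e : D.w • ((l : G) • D.c₀) = ((l * ⟨D.e, D.he⟩⁻¹ : lGrp E hrz) : G) • D.c₀ := by
      rw [← mul_smul, w_comm_l E hQ2 hna hrz D.hw l.2, mul_smul, hw0, ← mul_smul]
      rfl
    rw [e, hδ0, hδ0, map_mul, X₂.mob_mul D.hδ, map_inv, ← hMdef]
    congr 1
    have h := congrArg (X₂.mob M⁻¹) (X₂.mob_fix D.hδ D.hM)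
    rw [← X₂.mob_mul D.hδ, inv_mul_cancel, X₂.mob_one] at h
    exact h.symm
  · obtain ⟨l, rfl⟩ := hrepr hc
    obtain ⟨u, huc, huu, hu1, hup⟩ := D.exists_swap E hQ2 hna hsz hrz
    refine ⟨(l : G) * u * (l : G)⁻¹, ?_, ?_, fun h => hu1 (conj_eq_one_iff.1 h), fun p hp => ?_⟩
    · rw [mul_smul, mul_smul, inv_smul_smul, huc]
    · rw [conj_mul, huu]; group
    · obtain ⟨m, hm, hmp, hme, hmB⟩ := hup _ (lGrp_b E hrz (inv_mem l.2) hp)
      rw [mul_smul, mul_smul, ← hmp, ← mul_smul, show (l : G) * m = ((l * ⟨m, hm⟩ : lGrp E hrz) : G) from rfl]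
      refine ⟨hout (l * ⟨m, hm⟩ : lGrp E hrz).2, ?_⟩
      rw [hδ0, hδ0, map_mul, X₂.mob_mul D.hδ, X₂.mob_J]
      congr 1
      have h1 := X₂.inv_fix D.hδ D.hM (fun h => by
        have h2 : orderOf M ∣ 2 := orderOf_dvd_of_pow_eq_one (by rw [pow_two]; exact h)
        rw [hMdef, D.psi_order] at h2
        exact D.hr2 ((Nat.prime_dvd_prime_iff_eq D.hr Nat.prime_two).1 h2)) (R := psi E hrz ⟨m, hm⟩) (by
        rw [← map_inv, ← map_mul, ← map_mul, ← map_inv]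
        exact congrArg _ (Subtype.ext hme))
      rw [QExt.mob, h1, mul_div_cancel_left₀ _ (X₂.den_ne D.hδ _)]

end Cfsg.Agent.Transfer.RankOne
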