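import Mathlib

/-!
An endomorphism of a finite elementary abelian 2-group with no invariant subgroup makes it a one-dimensional space
over a finite field.
-/

set_option autoImplicit false
set_option linter.style.haveILetI false

namespace Cfsg.Agent.Transfer.RankOne

universe v

/-- The field generated by an irreducible endomorphism. -/
theorem field_of_irred {W₀ : Type v} [AddCommGroup W₀] [Finite W₀] [Nontrivial W₀] [Module (ZMod 2) W₀]
    (T : Module.End (ZMod 2) W₀)
    (hirr : ∀ W : Submodule (ZMod 2) W₀, (∀ v ∈ W, T v ∈ W) → W = ⊥ ∨ W = ⊤) :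
    ∃ (K : Type v) (_ : Field K) (_ : Finite K) (f : W₀ → K), Function.Bijective f ∧
      (∀ x z, f (x + z) = f x + f z) ∧ ∃ μ : K, ∀ x, f (T x) = μ * f x := by
  classical
  obtain ⟨v₀, hv₀⟩ := exists_ne (0 : W₀)
  let L : Subalgebra (ZMod 2) (Module.End (ZMod 2) W₀) := Algebra.adjoin (ZMod 2) {T}
  have hTL : T ∈ L := Algebra.subset_adjoin (Set.mem_singleton T)
  have hcomm : ∀ k ∈ L, k * T = T * k := fun k hk => (Algebra.commute_of_mem_adjoin_self hk).symm.eq
  have hker : ∀ k ∈ L, ∀ v : W₀, v ≠ 0 → k v = 0 → k = 0 := fun k hk v hv hkv => by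
    rcases hirr (LinearMap.ker k) (fun x hx => by
      rw [LinearMap.mem_ker] at hx ⊢
      rw [← Module.End.mul_apply, hcomm k hk, Module.End.mul_apply, hx, map_zero]) with h | h
    · exact absurd (by rwa [← LinearMap.mem_ker, h, Submodule.mem_bot] at hkv) hv
    · exact LinearMap.ker_eq_top.1 h
  let ev : ↥L →ₗ[ZMod 2] W₀ :=
    { toFun := fun k => (k : Module.End (ZMod 2) W₀) v₀
      map_add' := fun _ _ => rfl
      map_smul' := fun _ _ => rfl }
  have hevinj : Function.Injective ev := LinearMap.ker_eq_bot.1 (LinearMap.ker_eq_bot'.2 fun k hk =>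
    Subtype.ext (hker k k.2 v₀ hv₀ hk))
  have hevsurj : Function.Surjective ev := by
    rcases hirr (LinearMap.range ev) (fun x hx => by
      obtain ⟨k, rfl⟩ := hx
      exact ⟨⟨T * k, L.mul_mem hTL k.2⟩, rfl⟩) with h | h
    · exfalso
      apply hv₀
      have : ev 1 ∈ LinearMap.range ev := ⟨1, rfl⟩
      rw [h, Submodule.mem_bot] at this
      exact this
    · exact LinearMap.range_eq_top.1 h
  let e : ↥L ≃ₗ[ZMod 2] W₀ := LinearEquiv.ofBijective ev ⟨hevinj, hevsurj⟩
  haveI : Finite ↥L := Finite.of_equiv _ e.symm.toEquiv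
  letI : CommRing ↥L := { (inferInstance : Ring ↥L) with
    mul_comm := fun a b => by
      have := Algebra.isMulCommutative_adjoin (R := ZMod 2) (s := {T}) (by simp)
      exact this.is_comm.comm a b }
  haveI : Nontrivial ↥L := e.toEquiv.nontrivial_congr.2 inferInstance
  haveI : NoZeroDivisors ↥L := ⟨fun {a b} hab => by
    by_contra! hne
    have h1 : ev b ≠ 0 := fun h => hne.2 (hevinj (h.trans (map_zero ev).symm))
    exact hne.1 (Subtype.ext (hker a a.2 (ev b) h1 (by
      show ((a * b : ↥L) : Module.End (ZMod 2) W₀) v₀ = 0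
      rw [hab]; rfl)))⟩
  haveI : IsDomain ↥L := NoZeroDivisors.to_isDomain _
  letI : Field ↥L := (Finite.isField_of_domain ↥L).toField
  refine ⟨↥L, inferInstance, inferInstance, fun x => e.symm x, e.symm.bijective, fun x z => map_add e.symm x z,
    ⟨T, hTL⟩, fun x => ?_⟩
  apply e.injective
  rw [e.apply_symm_apply]
  exact (congrArg T (e.apply_symm_apply x)).symm

end Cfsg.Agent.Transfer.RankOne
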