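import Cfsg.Agent.Lib.Transfer.RankOne.EllTorus

/-!
Biadditive maps of a finite field as sums over pairs of field endomorphisms, and anisotropic quadratic forms over
the subfield of index two which are invariant under an element of norm one and semi-invariant under the subfield.
-/

set_option autoImplicit false
set_option linter.unusedSectionVars false
set_option linter.style.haveILetI false

namespace Cfsg.Agent.Transfer.RankOne

open Finset

section Span

variable {K : Type} [Field K] [Finite K] [CharP K 2] [Fintype (K →+* K)]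

/-- Field endomorphisms are linearly independent. -/
theorem hom_sum_eq_zero {b : (K →+* K) → K} (h : ∀ x, ∑ φ, b φ * φ x = 0) : ∀ φ, b φ = 0 := by
  have hli := (linearIndependent_monoidHom K K).comp (fun φ : K →+* K => φ.toMonoidHom)
    (fun φ ψ e => RingHom.ext fun x => DFunLike.congr_fun e x)
  refine Fintype.linearIndependent_iff.1 hli b (funext fun x => ?_)
  simpa [Finset.sum_apply] using h x

/-- An additive map is a combination of field endomorphisms. -/
theorem exists_hom_sum (g : K →+ K) : ∃ b : (K →+* K) → K, ∀ x, g x = ∑ φ, b φ * φ x := by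
  classical
  letI : Algebra (ZMod 2) K := ZMod.algebra K 2
  haveI : Fintype K := Fintype.ofFinite K
  let L : ((K →+* K) → K) → (K →+ K) := fun b =>
    { toFun := fun x => ∑ φ, b φ * φ x
      map_zero' := by simp
      map_add' := fun x y => by simp only [map_add, mul_add, Finset.sum_add_distrib] }
  have hinj : Function.Injective L := fun b b' e => funext fun φ => sub_eq_zero.1
    (hom_sum_eq_zero (b := fun ψ => b ψ - b' ψ) (fun x => by
      have h : (∑ ψ, b ψ * ψ x) = ∑ ψ, b' ψ * ψ x := DFunLike.congr_fun e x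
      simp only [sub_mul, Finset.sum_sub_distrib, h, sub_self]) φ)
  haveI : Finite (K →+ K) := Finite.of_injective (fun f => (f : K → K)) DFunLike.coe_injective
  have h1 : Nat.card (K →+ K) ≤ Nat.card ((K →+* K) → K) := by
    set N := Module.finrank (ZMod 2) K with hN
    have hK : Nat.card K = 2 ^ N := by
      rw [Module.natCard_eq_pow_finrank (K := ZMod 2) (V := K), Nat.card_zmod]
    have hA : Nat.card (K →ₗ[ZMod 2] K) = 2 ^ (N * N) := by
      rw [Module.natCard_eq_pow_finrank (K := ZMod 2) (V := K →ₗ[ZMod 2] K), Nat.card_zmod, Module.finrank_linearMap]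
    have hle : N ≤ Nat.card (K →+* K) := by
      rw [hN, ← IsGalois.card_aut_eq_finrank (ZMod 2) K]
      exact Nat.card_le_card_of_injective (fun f : K ≃ₐ[ZMod 2] K => (f : K →+* K)) fun f f' e =>
        AlgEquiv.ext fun x => DFunLike.congr_fun e x
    haveI : Finite (K →ₗ[ZMod 2] K) := Finite.of_injective (fun f => (f : K → K)) DFunLike.coe_injective
    calc Nat.card (K →+ K) ≤ Nat.card (K →ₗ[ZMod 2] K) := Nat.card_le_card_of_injective
          (fun f => AddMonoidHom.toZModLinearMap 2 f) fun f f' e =>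
            AddMonoidHom.ext fun x => DFunLike.congr_fun e x
      _ = 2 ^ (N * N) := hA
      _ ≤ 2 ^ (N * Nat.card (K →+* K)) := Nat.pow_le_pow_right (by norm_num) (Nat.mul_le_mul_left N hle)
      _ = Nat.card ((K →+* K) → K) := by rw [Nat.card_fun, hK, ← pow_mul]
  obtain ⟨b, hb⟩ := ((Nat.bijective_iff_injective_and_card L).2
    ⟨hinj, le_antisymm (Nat.card_le_card_of_injective L hinj) h1⟩).2 g
  exact ⟨b, fun x => (DFunLike.congr_fun hb x).symm⟩

/-- The monomials in two variables are independent. -/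
theorem pair_sum_eq_zero {b : (K →+* K) → (K →+* K) → K}
    (h : ∀ x y, ∑ φ, ∑ ψ, b φ ψ * φ x * ψ y = 0) : ∀ φ ψ, b φ ψ = 0 := fun φ ψ => by
  refine hom_sum_eq_zero (b := fun φ => b φ ψ) (fun x => ?_) φ
  refine hom_sum_eq_zero (b := fun ψ => ∑ φ, b φ ψ * φ x) (fun y => ?_) ψ
  rw [← h x y, Finset.sum_comm (γ := K →+* K)]
  simp only [Finset.sum_mul]

/-- A biadditive map is a combination of monomials in two variables. -/
theorem exists_pair_sum (B : K → K → K) (h1 : ∀ x y z, B (x + y) z = B x z + B y z)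
    (h2 : ∀ x y z, B x (y + z) = B x y + B x z) :
    ∃ b : (K →+* K) → (K →+* K) → K, ∀ x y, B x y = ∑ φ, ∑ ψ, b φ ψ * φ x * ψ y := by
  classical
  choose c hc using fun x => exists_hom_sum (AddMonoidHom.mk' (B x) (h2 x))
  have hadd : ∀ ψ x y, c (x + y) ψ = c x ψ + c y ψ := fun ψ x y => sub_eq_zero.1
    (hom_sum_eq_zero (b := fun ψ => c (x + y) ψ - (c x ψ + c y ψ)) (fun z => by
      simp only [sub_mul, add_mul, Finset.sum_sub_distrib, Finset.sum_add_distrib, ← hc, AddMonoidHom.mk'_apply, h1,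
        sub_self]) ψ)
  choose b hb using fun ψ => exists_hom_sum (AddMonoidHom.mk' (fun x => c x ψ) (hadd ψ))
  refine ⟨fun φ ψ => b ψ φ, fun x y => ?_⟩
  have h := hc x y
  rw [AddMonoidHom.mk'_apply] at h
  rw [h, Finset.sum_comm]
  refine Finset.sum_congr rfl fun ψ _ => ?_
  have h' := hb ψ x
  rw [AddMonoidHom.mk'_apply] at h'
  rw [h', Finset.sum_mul]

end Span

variable {F : Type} [Field F] [Finite F] [CharP F 2] {K : Type} [Field K] [Finite K] [CharP K 2] (X₂ : QExt F K)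

/-- The trace to the subfield. -/
def QExt.tr (x : K) : K := x + X₂.J x

theorem QExt.tr_add (x y : K) : X₂.tr (x + y) = X₂.tr x + X₂.tr y := by
  simp only [tr, map_add]; ring

theorem QExt.tr_zero : X₂.tr 0 = 0 := by simp [tr]

theorem QExt.tr_j (y : F) : X₂.tr (X₂.j y) = 0 := by rw [tr, X₂.J_j, CharTwo.add_self_eq_zero]

theorem QExt.tr_J (x : K) : X₂.tr (X₂.J x) = X₂.tr x := by rw [tr, tr, X₂.J_J, add_comm]

theorem QExt.tr_mem (x : K) : ∃ y, X₂.j y = X₂.tr x := X₂.fixed (by rw [tr, map_add, X₂.J_J, add_comm])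

theorem QExt.tr_eq_zero {x : K} (h : X₂.tr x = 0) : ∃ y, X₂.j y = x :=
  X₂.fixed (CharTwo.add_eq_zero.1 h).symm

theorem QExt.tr_smul (y : F) (x : K) : X₂.tr (X₂.j y * x) = X₂.j y * X₂.tr x := by
  rw [tr, tr, map_mul, X₂.J_j, mul_add]

/-- An element with trace one. -/
theorem QExt.exists_tr_one {z : K} (hz : ∀ y, X₂.j y ≠ z) : ∃ e, X₂.tr e = 1 := by
  obtain ⟨y, hy⟩ := X₂.tr_mem z
  have hy0 : y ≠ 0 := fun h => by
    obtain ⟨y', hy'⟩ := X₂.tr_eq_zero (x := z) (by rw [← hy, h, map_zero])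
    exact hz y' hy'
  exact ⟨X₂.j y⁻¹ * z, by rw [X₂.tr_smul, ← hy, ← map_mul, inv_mul_cancel₀ hy0, map_one]⟩

/-- Endomorphisms agreeing on the subfield are equal or conjugate. -/
theorem QExt.hom_eq_or {φ ψ : K →+* K} (h : ∀ y, φ (X₂.j y) = ψ (X₂.j y)) : ψ = φ ∨ ψ = X₂.J.comp φ := by
  have hcomm : ∀ x, φ (X₂.J x) = X₂.J (φ x) := fun x => by rw [X₂.hJ, X₂.hJ, map_pow]
  have hx : ∀ x, ψ x = φ x ∨ ψ x = X₂.J (φ x) := fun x => by
    obtain ⟨u, hu⟩ := X₂.tr_mem x
    obtain ⟨v, hv⟩ := X₂.fixed (x := x * X₂.J x) (by rw [map_mul, X₂.J_J, mul_comm])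
    have hq : x * x + X₂.j u * x + X₂.j v = 0 := by
      rw [hu, hv, QExt.tr]
      linear_combination (x * x + x * X₂.J x) * CharTwo.two_eq_zero (R := K)
    have h1 := congrArg φ hq
    have h2 := congrArg ψ hq
    simp only [map_add, map_mul, map_zero, ← h] at h1 h2
    rw [hu, hv, QExt.tr, map_add, map_mul, hcomm] at h1 h2
    have h3 : (ψ x + φ x) * (ψ x + X₂.J (φ x)) = 0 := by linear_combination h2
    rcases mul_eq_zero.1 h3 with h3 | h3
    · exact Or.inl (CharTwo.add_eq_zero.1 h3)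
    · exact Or.inr (CharTwo.add_eq_zero.1 h3)
  by_contra hne
  push Not at hne
  obtain ⟨x, hx1⟩ := DFunLike.ne_iff.1 hne.1
  obtain ⟨y, hy1⟩ := DFunLike.ne_iff.1 hne.2
  have e1 : ψ x = X₂.J (φ x) := (hx x).resolve_left hx1
  have e2 : ψ y = φ y := (hx y).resolve_right hy1
  rcases hx (x + y) with h' | h'
  · rw [map_add, map_add, e2] at h'
    exact hx1 (add_right_cancel h')
  · rw [map_add, map_add, map_add, e1] at h'
    exact hy1 (add_left_cancel h')

/-- A quadratic map into the subfield, anisotropic, invariant under an element of norm one and semi-invariant under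
the subfield, is the trace of a monomial. -/
theorem QExt.exists_form (σ : K → F) {ζ : K} (hζ : ζ * X₂.J ζ = 1) (hζj : ∀ y, X₂.j y ≠ ζ)
    (h0 : ∀ x, x ≠ 0 → σ x ≠ 0) (h00 : σ 0 = 0)
    (hadd : ∀ x y z, σ (x + y + z) + σ (x + y) + σ z = (σ (x + z) + σ x + σ z) + (σ (y + z) + σ y + σ z))
    (hinv : ∀ x, σ (ζ * x) = σ x) (hsc : ∀ a : F, a ≠ 0 → ∃ γ : F, ∀ x, σ (X₂.j a * x) = γ * σ x) :
    ∃ (φ ψ : K →+* K) (c : K), ψ ζ * φ ζ = 1 ∧ ∀ x, X₂.j (σ x) = X₂.tr (c * φ x * ψ x) := by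
  classical
  haveI : Finite (K →+* K) := Finite.of_injective (fun f => (f : K → K)) DFunLike.coe_injective
  haveI : Fintype (K →+* K) := Fintype.ofFinite _
  set B : K → K → K := fun x y => X₂.j (σ (x + y) + σ x + σ y) with hB
  have hB1 : ∀ x y z, B (x + y) z = B x z + B y z := fun x y z => by
    simp only [hB, ← map_add]
    rw [hadd x y z]
  have hBs : ∀ x y, B x y = B y x := fun x y => by
    simp only [hB]; rw [add_comm y x]; congr 1; ring
  have hB2 : ∀ x y z, B x (y + z) = B x y + B x z := fun x y z => by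
    rw [hBs x, hB1, hBs y, hBs z]
  obtain ⟨b, hb⟩ := exists_pair_sum B hB1 hB2
  -- the support
  have hζ0 : ζ ≠ 0 := fun h => by rw [h, zero_mul] at hζ; exact zero_ne_one hζ
  have hsupp1 : ∀ φ ψ, b φ ψ ≠ 0 → ψ ζ * φ ζ = 1 := fun φ ψ hne => by
    have h := pair_sum_eq_zero (b := fun φ ψ => b φ ψ * (φ ζ * ψ ζ - 1)) (fun x y => ?_) φ ψ
    · rw [mul_comm]; exact sub_eq_zero.1 ((mul_eq_zero.1 h).resolve_left hne)
    · calc ∑ φ, ∑ ψ, b φ ψ * (φ ζ * ψ ζ - 1) * φ x * ψ y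
          = ∑ φ, ∑ ψ, (b φ ψ * φ (ζ * x) * ψ (ζ * y) - b φ ψ * φ x * ψ y) := by
            refine Finset.sum_congr rfl fun φ _ => Finset.sum_congr rfl fun ψ _ => ?_
            rw [map_mul, map_mul]; ring
        _ = B (ζ * x) (ζ * y) - B x y := by rw [hb, hb]; simp only [Finset.sum_sub_distrib]
        _ = 0 := by
          simp only [hB]
          rw [← mul_add, hinv, hinv, hinv, sub_self]
  have hsupp2 : ∀ a : F, a ≠ 0 → ∃ γ : F, ∀ φ ψ, b φ ψ ≠ 0 → φ (X₂.j a) * ψ (X₂.j a) = X₂.j γ := fun a ha => by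
    obtain ⟨γ, hγ⟩ := hsc a ha
    refine ⟨γ, fun φ ψ hne => ?_⟩
    have h := pair_sum_eq_zero (b := fun φ ψ => b φ ψ * (φ (X₂.j a) * ψ (X₂.j a) - X₂.j γ)) (fun x y => ?_) φ ψ
    · exact sub_eq_zero.1 ((mul_eq_zero.1 h).resolve_left hne)
    · calc ∑ φ, ∑ ψ, b φ ψ * (φ (X₂.j a) * ψ (X₂.j a) - X₂.j γ) * φ x * ψ y
          = ∑ φ, ∑ ψ, (b φ ψ * φ (X₂.j a * x) * ψ (X₂.j a * y) - X₂.j γ * (b φ ψ * φ x * ψ y)) := by
            refine Finset.sum_congr rfl fun φ _ => Finset.sum_congr rfl fun ψ _ => ?_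
            rw [map_mul, map_mul]; ring
        _ = B (X₂.j a * x) (X₂.j a * y) - X₂.j γ * B x y := by
          rw [hb, hb]; simp only [Finset.sum_sub_distrib, Finset.mul_sum]
        _ = 0 := by
          simp only [hB]
          rw [← mul_add, hγ, hγ, hγ, ← map_mul, sub_eq_zero]
          congr 1; ring
  obtain ⟨φ, ψ, hne⟩ : ∃ φ ψ, b φ ψ ≠ 0 := by
    by_contra hcon
    push Not at hcon
    have h1 : (1 : K) + ζ ≠ 0 := fun h => hζj 1 (by rw [map_one]; exact CharTwo.add_eq_zero.1 h)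
    have h := hb 1 ζ
    simp only [hcon, zero_mul, Finset.sum_const_zero] at h
    simp only [hB, map_eq_zero] at h
    have e := hinv 1
    rw [mul_one] at e
    rw [e, add_assoc, CharTwo.add_self_eq_zero, add_zero] at h
    exact h0 _ h1 h
  have hφψ := hsupp1 φ ψ hne
  -- every pair in the support
  have hclass : ∀ ρ ν, b ρ ν ≠ 0 → (ρ = φ ∧ ν = ψ) ∨ (ρ = ψ ∧ ν = φ) ∨
      (ρ = X₂.J.comp φ ∧ ν = X₂.J.comp ψ) ∨ (ρ = X₂.J.comp ψ ∧ ν = X₂.J.comp φ) := by
    intro ρ ν hρν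
    have hmul : ∀ y, ρ (X₂.j y) * ν (X₂.j y) = φ (X₂.j y) * ψ (X₂.j y) := fun y => by
      by_cases hy : y = 0
      · simp [hy]
      obtain ⟨γ, hγ⟩ := hsupp2 y hy
      rw [hγ _ _ hρν, hγ _ _ hne]
    have hsum : ∀ y, ρ (X₂.j y) + ν (X₂.j y) = φ (X₂.j y) + ψ (X₂.j y) := fun y => by
      have h1 := hmul (y + 1)
      have h2 := hmul y
      simp only [map_add, map_one] at h1
      linear_combination h1 - h2
    have hor : ∀ y, ρ (X₂.j y) = φ (X₂.j y) ∨ ρ (X₂.j y) = ψ (X₂.j y) := fun y => by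
      have h3 : (ρ (X₂.j y) - φ (X₂.j y)) * (ρ (X₂.j y) - ψ (X₂.j y)) = 0 := by
        linear_combination (ρ (X₂.j y)) * hsum y - hmul y
      exact (mul_eq_zero.1 h3).imp sub_eq_zero.1 sub_eq_zero.1
    have hcomp : ∀ (f g : K →+* K) (y : F), f (X₂.j y) = g (X₂.j y) →
        X₂.J (f (X₂.j y)) = X₂.J (g (X₂.j y)) := fun f g y e => congrArg _ e
    have hall : (∀ y, ρ (X₂.j y) = φ (X₂.j y)) ∨ ∀ y, ρ (X₂.j y) = ψ (X₂.j y) := by
      by_contra hcon
      push Not at hcon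
      obtain ⟨⟨y, hy⟩, ⟨y', hy'⟩⟩ := hcon
      have e1 := (hor y).resolve_left hy
      have e2 := (hor y').resolve_right hy'
      rcases hor (y + y') with h | h <;> simp only [map_add, e1, e2] at h
      · exact hy (e1.trans (add_right_cancel h))
      · exact hy' (e2.trans (add_left_cancel h))
    have key : ∀ f g : K →+* K, (∀ y, ρ (X₂.j y) = f (X₂.j y)) → g ζ * f ζ = 1 →
        (∀ y, ρ (X₂.j y) + ν (X₂.j y) = f (X₂.j y) + g (X₂.j y)) →
        (ρ = f ∧ ν = g) ∨ (ρ = X₂.J.comp f ∧ ν = X₂.J.comp g) := by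
      intro f g hf hfg hfs
      have hg : ∀ y, g (X₂.j y) = ν (X₂.j y) := fun y => by
        have := hfs y
        rw [hf y] at this
        exact (add_left_cancel this).symm
      have hJ : ∀ (k : K →+* K) x, k (X₂.J x) = X₂.J (k x) := fun k x => by rw [X₂.hJ, X₂.hJ, map_pow]
      have hne' : ∀ k : K →+* K, X₂.J (k ζ) ≠ k ζ := fun k e => X₂.J_ne hζj (k.injective (by rw [hJ, e]))
      have hρζ := hsupp1 ρ ν hρν
      have hf0 : f ζ ≠ 0 := (map_ne_zero f).2 hζ0
      have hinvf : X₂.J (f ζ) * f ζ = 1 := by rw [← hJ, ← map_mul, mul_comm, hζ, map_one]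
      rcases X₂.hom_eq_or (φ := f) (ψ := ρ) (fun y => (hf y).symm) with rfl | rfl <;>
        rcases X₂.hom_eq_or hg with rfl | rfl
      · exact Or.inl ⟨rfl, rfl⟩
      · exact absurd (mul_right_cancel₀ hf0 (hρζ.trans hfg.symm)) (hne' g)
      · refine absurd (mul_left_cancel₀ ((map_ne_zero ν).2 hζ0) ?_) (hne' f)
        rw [← hfg] at hρζ
        simpa using hρζ
      · exact Or.inr ⟨rfl, rfl⟩
    rcases hall with h | h
    · rcases key φ ψ h hφψ hsum with h' | h'
      · exact Or.inl h'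
      · exact Or.inr (Or.inr (Or.inl h'))
    · rcases key ψ φ h (by rw [mul_comm]; exact hφψ) (fun y => (hsum y).trans (add_comm _ _)) with h' | h'
      · exact Or.inr (Or.inl h')
      · exact Or.inr (Or.inr (Or.inr h'))
  obtain ⟨e, he⟩ := X₂.exists_tr_one hζj
  -- two coefficients
  set S : Finset ((K →+* K) × (K →+* K)) := Finset.univ.filter fun p => b p.1 p.2 ≠ 0 with hS
  have hBsum : ∀ x y, B x y = ∑ p ∈ S, b p.1 p.2 * p.1 x * p.2 y := fun x y => by
    rw [hb, ← Fintype.sum_prod_type (f := fun p : (K →+* K) × (K →+* K) => b p.1 p.2 * p.1 x * p.2 y), hS,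
      Finset.sum_filter]
    refine Finset.sum_congr rfl fun p _ => ?_
    split_ifs with h
    · rfl
    · rw [not_not.1 h, zero_mul, zero_mul]
  have hterm : ∀ p ∈ S, ∃ k₁ k₂ : K, ∀ x y,
      X₂.tr (e * (b p.1 p.2 * p.1 x * p.2 y)) = X₂.tr (k₁ * φ x * ψ y) + X₂.tr (k₂ * ψ x * φ y) := by
    intro p hp
    rw [hS, Finset.mem_filter] at hp
    rcases hclass p.1 p.2 hp.2 with ⟨h1, h2⟩ | ⟨h1, h2⟩ | ⟨h1, h2⟩ | ⟨h1, h2⟩ <;> rw [h1, h2]
    · exact ⟨e * b φ ψ, 0, fun x y => by simp [QExt.tr_zero, mul_assoc]⟩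
    · exact ⟨0, e * b ψ φ, fun x y => by simp [QExt.tr_zero, mul_assoc]⟩
    · refine ⟨X₂.J (e * b (X₂.J.comp φ) (X₂.J.comp ψ)), 0, fun x y => ?_⟩
      rw [← X₂.tr_J]
      simp only [map_mul, RingHom.comp_apply, X₂.J_J, zero_mul, X₂.tr_zero, add_zero]
      congr 1; ring
    · refine ⟨0, X₂.J (e * b (X₂.J.comp ψ) (X₂.J.comp φ)), fun x y => ?_⟩
      rw [← X₂.tr_J]
      simp only [map_mul, RingHom.comp_apply, X₂.J_J, zero_mul, X₂.tr_zero, zero_add]
      congr 1; ring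
  choose! k₁ k₂ hk using hterm
  have hB12 : ∀ x y, B x y = X₂.tr ((∑ p ∈ S, k₁ p) * φ x * ψ y) + X₂.tr ((∑ p ∈ S, k₂ p) * ψ x * φ y) := by
    intro x y
    have htr : ∀ f : (K →+* K) × (K →+* K) → K, X₂.tr (∑ p ∈ S, f p) = ∑ p ∈ S, X₂.tr (f p) := fun f => by
      simp only [QExt.tr, map_sum, Finset.sum_add_distrib]
    simp only [Finset.sum_mul, htr]
    rw [← Finset.sum_add_distrib, ← Finset.sum_congr rfl fun p hp => hk p hp x y, ← htr, ← Finset.mul_sum, ← hBsum]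
    obtain ⟨u, hu⟩ : ∃ u, B x y = X₂.j u := ⟨_, rfl⟩
    rw [hu, mul_comm, X₂.tr_smul, he, mul_one]
  set c₁ := ∑ p ∈ S, k₁ p
  set c₂ := ∑ p ∈ S, k₂ p
  -- one coefficient
  obtain ⟨c, hc⟩ : ∃ c, ∀ x y, B x y = X₂.tr (c * (φ x * ψ y + ψ x * φ y)) := by
    set d := c₁ + c₂ with hd
    have hd' : ∀ x y, X₂.tr (d * φ x * ψ y) = X₂.tr (d * ψ x * φ y) := fun x y => by
      have h := hBs x y
      rw [hB12, hB12, show c₁ * φ y * ψ x = c₁ * ψ x * φ y by ring, show c₂ * ψ y * φ x = c₂ * φ x * ψ y by ring] at h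
      simp only [hd, add_mul, X₂.tr_add]
      linear_combination h + (X₂.tr (c₂ * φ x * ψ y) - X₂.tr (c₂ * ψ x * φ y)) * CharTwo.two_eq_zero (R := K)
    have hψζ : ψ ζ = X₂.J (φ ζ) := by
      refine mul_right_cancel₀ ((map_ne_zero φ).2 hζ0) (hφψ.trans ?_)
      rw [show X₂.J (φ ζ) = φ (X₂.J ζ) by rw [X₂.hJ, X₂.hJ, map_pow], ← map_mul, mul_comm, hζ, map_one]
    have huv : ∀ x y, d * φ x * ψ y = X₂.J (d * ψ x * φ y) := fun x y => by
      have h1 := hd' x y
      have h2 := hd' x (ζ * y)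
      rw [map_mul, map_mul, hψζ] at h2
      simp only [QExt.tr, map_mul, X₂.J_J] at h1 h2
      have h3 : (X₂.J (φ ζ) + φ ζ) * (d * φ x * ψ y + X₂.J (d * ψ x * φ y)) = 0 := by
        simp only [map_mul]
        linear_combination h2 - φ ζ * h1 + (X₂.J (φ ζ) * X₂.J d * X₂.J (ψ x) * X₂.J (φ y) +
          φ ζ * d * φ x * ψ y) * CharTwo.two_eq_zero (R := K)
      refine CharTwo.add_eq_zero.1 ((mul_eq_zero.1 h3).resolve_left fun h4 => X₂.J_ne (x := φ ζ) ?_
        (CharTwo.add_eq_zero.1 h4))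
      intro u hu
      obtain ⟨u', hu'⟩ := X₂.fixed (x := ζ) (φ.injective (by
        rw [X₂.hJ, map_pow, ← X₂.hJ, ← hu, X₂.J_j]))
      exact hζj u' hu'
    by_cases hd0 : d = 0
    · have h12 : c₁ = c₂ := CharTwo.add_eq_zero.1 hd0
      exact ⟨c₁, fun x y => by rw [hB12, ← h12, ← X₂.tr_add, mul_add, mul_assoc, mul_assoc]⟩
    · have h11 := huv 1 1
      simp only [map_one, mul_one] at h11
      have hψ : ∀ y, ψ y = X₂.J (φ y) := fun y => by
        have h := huv 1 y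
        simp only [map_one, mul_one, map_mul, ← h11] at h
        exact mul_left_cancel₀ hd0 h
      set k := c₁ + X₂.J c₂ with hkdef
      have hBk : ∀ x y, B x y = X₂.tr (k * φ x * ψ y) := fun x y => by
        rw [hB12, ← X₂.tr_J (c₂ * ψ x * φ y), ← X₂.tr_add, hkdef]
        simp only [map_mul, hψ, X₂.J_J, add_mul]
      have hkk : X₂.J k = k := by
        rw [hkdef, map_add, X₂.J_J]
        rw [hd, map_add] at h11
        linear_combination (c₂ - X₂.J c₂) * CharTwo.two_eq_zero (R := K) - h11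
      obtain ⟨u, hu⟩ := X₂.fixed hkk
      refine ⟨k * e, fun x y => ?_⟩
      have hreal : X₂.J (φ x * ψ y + ψ x * φ y) = φ x * ψ y + ψ x * φ y := by
        simp only [map_add, map_mul, hψ, X₂.J_J]; ring
      obtain ⟨v, hv⟩ := X₂.fixed hreal
      rw [hBk, ← hv, ← hu, show X₂.j u * e * X₂.j v = X₂.j v * (X₂.j u * e) by ring, X₂.tr_smul, X₂.tr_smul, he,
        mul_one, hv, mul_assoc, X₂.tr_smul, QExt.tr]
      simp only [map_mul, hψ, X₂.J_J]
      ring
  refine ⟨φ, ψ, c, hφψ, fun x => ?_⟩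
  set D : K → K := fun x => X₂.j (σ x) + X₂.tr (c * φ x * ψ x) with hD
  have hDadd : ∀ x y, D (x + y) = D x + D y := fun x y => by
    have h := hc x y
    simp only [hB, map_add] at h
    simp only [hD, map_add]
    rw [show c * (φ x + φ y) * (ψ x + ψ y) = c * φ x * ψ x + c * φ y * ψ y + c * (φ x * ψ y + ψ x * φ y) by ring,
      X₂.tr_add, X₂.tr_add, ← h]
    linear_combination X₂.j (σ (x + y)) * CharTwo.two_eq_zero (R := K)
  have hDζ : ∀ x, D (ζ * x) = D x := fun x => by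
    simp only [hD]
    rw [hinv, map_mul, map_mul, show c * (φ ζ * φ x) * (ψ ζ * ψ x) = (ψ ζ * φ ζ) * (c * φ x * ψ x) by ring, hφψ,
      one_mul]
  have h1ζ : (1 : K) + ζ ≠ 0 := fun h => hζj 1 (by rw [map_one]; exact CharTwo.add_eq_zero.1 h)
  have h := hDadd ((1 + ζ)⁻¹ * x) (ζ * ((1 + ζ)⁻¹ * x))
  rw [hDζ, CharTwo.add_self_eq_zero, ← one_add_mul, ← mul_assoc, mul_inv_cancel₀ h1ζ, one_mul] at h
  exact CharTwo.add_eq_zero.1 h

end Cfsg.Agent.Transfer.RankOne
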