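import Cfsg.Agent.Lib.Transfer.RankOne.CubeDelta
import Cfsg.Agent.Lib.Transfer.RankOne.QuadForm
import Cfsg.Agent.Lib.Transfer.RankOne.FieldIrred

/-!
Coordinates from the quadratic extension on `Q` modulo `Z₀`, in which `K` and `w` are multiplications, and the
squaring map as the trace of a monomial.
-/

set_option autoImplicit false
set_option linter.unusedSectionVars false
set_option linter.style.haveILetI false

namespace Cfsg.Agent.Transfer.RankOne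

open MulAction

universe u v

variable {G : Type u} {Ω : Type v} [Group G] [MulAction G Ω] [Finite G] [FaithfulSMul G Ω]
  {a : Ω} {t : G} {Q : Subgroup G} {F : Type} [Field F] [Finite F] [CharP F 2] (E : Env a t Q F)

/-- Coordinates on `Q` modulo `Z₀`. -/
structure QBase (w : G) {K : Type} [Field K] (X₂ : QExt F K) where
  θ : G → K
  iota : Fˣ → F
  ζ : K
  S : K → F
  surj : ∀ v, ∃ x ∈ Q, θ x = v
  add : ∀ x ∈ Q, ∀ y ∈ Q, θ (x * y) = θ x + θ y
  ker : ∀ x ∈ Q, θ x = 0 ↔ x ∈ zGrp G a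
  wconj : ∀ x ∈ Q, θ (w * x * w⁻¹) = ζ * θ x
  kconj : ∀ γ : Fˣ, ∀ x ∈ Q, θ (E.C.kap γ * x * (E.C.kap γ)⁻¹) = X₂.j (iota γ) * θ x
  iota_ne : ∀ γ, iota γ ≠ 0
  iota_surj : ∀ y, y ≠ 0 → ∃ γ, iota γ = y
  hζ : ζ * X₂.J ζ = 1
  hζj : ∀ y, X₂.j y ≠ ζ
  sq : ∀ x ∈ Q, x * x = E.C.e (S (θ x))

variable {E} {w : G} {K : Type} [Field K] [Finite K] [CharP K 2] {X₂ : QExt F K}

namespace QBase

variable (B : QBase E w X₂)
include B

theorem S_zero : B.S 0 = 0 := by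
  have h := B.sq 1 (one_mem _)
  rw [(B.ker 1 (one_mem _)).2 (one_mem _), one_mul] at h
  exact (e_eq_one E.C).1 h.symm

theorem S_ne {v : K} (hv : v ≠ 0) : B.S v ≠ 0 := fun h => by
  obtain ⟨x, hx, rfl⟩ := B.surj v
  have h2 := B.sq x hx
  rw [h, e_zero E.C] at h2
  exact hv ((B.ker x hx).2 ((mem_zGrp' E.hyp).2 ⟨hx, h2⟩))

theorem inv_eq {x : G} (hx : x ∈ Q) : x⁻¹ = x * E.C.e (B.S (B.θ x)) := by
  refine inv_eq_of_mul_eq_one_right ?_
  rw [← mul_assoc, B.sq x hx, ← E.C.e_add, CharTwo.add_self_eq_zero, e_zero E.C]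

theorem swap_eq {x y : G} (hx : x ∈ Q) (hy : y ∈ Q) :
    y * x = x * y * E.C.e (B.S (B.θ x + B.θ y) + B.S (B.θ x) + B.S (B.θ y)) := by
  have H := E.hyp
  have hc : ∀ c : F, ∀ u ∈ Q, E.C.e c * u = u * E.C.e c := fun c u hu => zGrp_central H (E.C.e_mem c) hu
  have h := B.sq (x * y) (mul_mem hx hy)
  rw [B.add x hx y hy] at h
  calc y * x = x⁻¹ * (x * y * (x * y)) * y⁻¹ := by group
    _ = x * E.C.e (B.S (B.θ x)) * E.C.e (B.S (B.θ x + B.θ y)) * (y * E.C.e (B.S (B.θ y))) := by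
      rw [h, ← B.inv_eq hy, B.inv_eq hx]
    _ = x * (E.C.e (B.S (B.θ x) + B.S (B.θ x + B.θ y)) * y) * E.C.e (B.S (B.θ y)) := by rw [E.C.e_add]; group
    _ = x * y * (E.C.e (B.S (B.θ x) + B.S (B.θ x + B.θ y)) * E.C.e (B.S (B.θ y))) := by rw [hc _ y hy]; group
    _ = _ := by rw [← E.C.e_add]; congr 2; ring

theorem S_add (u v z : K) : B.S (u + v + z) + B.S (u + v) + B.S z =
    (B.S (u + z) + B.S u + B.S z) + (B.S (v + z) + B.S v + B.S z) := by
  have H := E.hyp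
  obtain ⟨x, hx, rfl⟩ := B.surj u
  obtain ⟨y, hy, rfl⟩ := B.surj v
  obtain ⟨g, hg, rfl⟩ := B.surj z
  have h1 := B.swap_eq (mul_mem hx hy) hg
  rw [B.add x hx y hy] at h1
  have h2 : g * (x * y) = x * y * g * (E.C.e (B.S (B.θ y + B.θ g) + B.S (B.θ y) + B.S (B.θ g)) *
      E.C.e (B.S (B.θ x + B.θ g) + B.S (B.θ x) + B.S (B.θ g))) := by
    calc g * (x * y) = g * x * y := by group
      _ = x * g * (E.C.e (B.S (B.θ x + B.θ g) + B.S (B.θ x) + B.S (B.θ g)) * y) := by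
        rw [B.swap_eq hx hg]; group
      _ = x * (g * y) * E.C.e (B.S (B.θ x + B.θ g) + B.S (B.θ x) + B.S (B.θ g)) := by
        rw [zGrp_central H (E.C.e_mem _) hy]; group
      _ = _ := by rw [B.swap_eq hy hg]; group
  rw [h1, ← E.C.e_add] at h2
  rw [E.C.e_inj (mul_left_cancel h2)]
  ring

theorem S_kconj (γ : Fˣ) (v : K) : B.S (X₂.j (B.iota γ) * v) = (γ : F) * B.S v := by
  obtain ⟨x, hx, rfl⟩ := B.surj v
  have hk : E.C.kap γ * x * (E.C.kap γ)⁻¹ ∈ Q :=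
    E.hyp.setup.conj_mem _ (kGrp_le_dGrp E.hyp (E.C.kap_mem γ)).1 x hx
  rw [← B.kconj γ x hx]
  refine E.C.e_inj ?_
  rw [← B.sq _ hk, ← E.C.conj, ← B.sq x hx]
  group

/-- Compose the coordinates with an automorphism of the extension and scale them. -/
theorem exists_change (φ : K ≃+* K) {k : K} (hk : k ≠ 0) :
    ∃ B' : QBase E w X₂, B'.ζ = φ B.ζ ∧ ∀ v, B'.S v = B.S (φ.symm (v / k)) := by
  have hJ : ∀ x, φ (X₂.J x) = X₂.J (φ x) := fun x => by rw [X₂.hJ, X₂.hJ, map_pow]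
  have hj : ∀ y, ∃ y', X₂.j y' = φ (X₂.j y) := fun y => X₂.fixed (by rw [← hJ, X₂.J_j])
  choose f hf using hj
  exact ⟨{
    θ := fun g => k * φ (B.θ g)
    iota := fun γ => f (B.iota γ)
    ζ := φ B.ζ
    S := fun v => B.S (φ.symm (v / k))
    surj := fun v => by
      obtain ⟨x, hx, h⟩ := B.surj (φ.symm (v / k))
      exact ⟨x, hx, by rw [h, RingEquiv.apply_symm_apply, mul_div_cancel₀ _ hk]⟩
    add := fun x hx y hy => by rw [B.add x hx y hy, map_add, mul_add]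
    ker := fun x hx => by rw [mul_eq_zero, or_iff_right hk, EmbeddingLike.map_eq_zero_iff, B.ker x hx]
    wconj := fun x hx => by rw [B.wconj x hx, map_mul]; ring
    kconj := fun γ x hx => by rw [B.kconj γ x hx, map_mul, hf]; ring
    iota_ne := fun γ h => B.iota_ne γ (X₂.j.injective (φ.injective (by rw [← hf, h]; simp)))
    iota_surj := fun y hy => by
      obtain ⟨y', hy'⟩ := X₂.fixed (x := φ.symm (X₂.j y)) (φ.injective (by
        rw [hJ, RingEquiv.apply_symm_apply, X₂.J_j]))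
      have hy'0 : y' ≠ 0 := fun h => hy (X₂.j.injective (φ.symm.injective (by rw [← hy', h]; simp)))
      obtain ⟨γ, hγ⟩ := B.iota_surj y' hy'0
      exact ⟨γ, X₂.j.injective (by rw [hf, hγ, hy', RingEquiv.apply_symm_apply])⟩
    hζ := by rw [← hJ, ← map_mul, B.hζ, map_one]
    hζj := fun y h => by
      obtain ⟨y', hy'⟩ := X₂.fixed (x := B.ζ) (φ.injective (by rw [hJ, ← h, X₂.J_j]))
      exact B.hζj y' hy'
    sq := fun x hx => by rw [mul_div_cancel_left₀ _ hk, RingEquiv.symm_apply_apply, B.sq x hx] },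
    rfl, fun v => rfl⟩

end QBase

/-- Coordinates with the squaring map the trace of a monomial. -/
structure QForm (E : Env a t Q F) (w : G) (X₂ : QExt F K) where
  B : QBase E w X₂
  ψ : K →+* K
  c : K
  hψ : ψ B.ζ * B.ζ = 1
  form : ∀ v, X₂.j (B.S v) = X₂.tr (c * v * ψ v)
  one : B.S 1 = 1

variable (E) (hQ2 : IsPGroup 2 Q) (hna : ∃ x ∈ Q, ∃ y ∈ Q, x * y ≠ y * x)
  (hsz : Nat.card Q = Nat.card (zGrp G a) ^ 3) (hrz : E.r ∈ zGrp G a) (X₂)
include hQ2 hna hsz hrz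

theorem exists_qbase {r : ℕ} (hw : w ∈ wGrp a t) (hr : r.Prime) (hr2 : r ≠ 2) (hord : orderOf w = r)
    (hdvd : r ∣ Nat.card F + 1) : Nonempty (QBase E w X₂) := by
  classical
  have H := E.hyp
  have hw1 := w_ne E hQ2 hna hsz hrz hr hord
  haveI := Fact.mk hr
  set Z' : Subgroup Q := (zGrp G a).subgroupOf Q with hZ'
  haveI : Z'.Normal := ⟨fun z hz g => by
    rw [hZ', Subgroup.mem_subgroupOf] at hz ⊢
    rw [Subgroup.coe_mul, Subgroup.coe_mul, Subgroup.coe_inv, ← zGrp_central H hz g.2, mul_inv_cancel_right]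
    exact hz⟩
  let W₀ := Additive (Q ⧸ Z')
  have hmk : ∀ x y : Q, (x : Q ⧸ Z') = y ↔ (x : G)⁻¹ * y ∈ zGrp G a := fun x y => by
    rw [QuotientGroup.eq, hZ', Subgroup.mem_subgroupOf]; rfl
  obtain ⟨hcm, hsq⟩ := q_shape H hQ2 hna
  letI : CommGroup (Q ⧸ Z') := { (inferInstance : Group (Q ⧸ Z')) with
    mul_comm := fun x y => by
      obtain ⟨x, rfl⟩ := QuotientGroup.mk_surjective x
      obtain ⟨y, rfl⟩ := QuotientGroup.mk_surjective y
      rw [← QuotientGroup.mk_mul, ← QuotientGroup.mk_mul, hmk]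
      have h := hcm y y.2 x x.2
      simp only [Subgroup.coe_mul, _root_.mul_inv_rev]
      convert h using 1
      group }
  letI : Module (ZMod 2) W₀ := AddCommGroup.zmodModule fun v => Additive.toMul.injective (by
    obtain ⟨x, hx⟩ := QuotientGroup.mk_surjective v.toMul
    show v.toMul ^ 2 = 1
    rw [← hx, pow_two, ← QuotientGroup.mk_mul, QuotientGroup.eq_one_iff, hZ', Subgroup.mem_subgroupOf]
    exact hsq x x.2)
  -- endomorphisms induced by the stabiliser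
  have hcQ : ∀ {g : G}, g ∈ stabilizer G a → ∀ x : Q, g * x * g⁻¹ ∈ Q := fun hg x =>
    H.setup.conj_mem _ hg x x.2
  let cj : ∀ g : stabilizer G a, Q →* Q := fun g =>
    { toFun := fun x => ⟨_, hcQ g.2 x⟩
      map_one' := Subtype.ext (by simp)
      map_mul' := fun x y => Subtype.ext (by simp [mul_assoc]) }
  have hcjz : ∀ g : stabilizer G a, Z' ≤ Z'.comap (cj g) := fun g x hx => by
    rw [Subgroup.mem_comap, hZ', Subgroup.mem_subgroupOf]
    rw [hZ', Subgroup.mem_subgroupOf] at hx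
    exact conj_zGrp H g.2 hx
  let act : stabilizer G a → Module.End (ZMod 2) W₀ := fun g =>
    AddMonoidHom.toZModLinearMap 2 (MonoidHom.toAdditive (QuotientGroup.map Z' Z' (cj g) (hcjz g)))
  have hact : ∀ (g : stabilizer G a) (x : Q),
      act g (Additive.ofMul (x : Q ⧸ Z')) = Additive.ofMul ((cj g x : Q) : Q ⧸ Z') := fun g x => rfl
  have hactm : ∀ g g' : stabilizer G a, act (g * g') = act g * act g' := fun g g' => LinearMap.ext fun v => by
    obtain ⟨x, hx⟩ := QuotientGroup.mk_surjective v.toMul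
    obtain rfl : v = Additive.ofMul (x : Q ⧸ Z') := Additive.toMul.injective hx.symm
    rw [Module.End.mul_apply, hact, hact, hact]
    congr 2
    refine Subtype.ext ?_
    show (g : G) * g' * x * ((g : G) * g')⁻¹ = (g : G) * ((g' : G) * x * (g' : G)⁻¹) * (g : G)⁻¹
    group
  obtain ⟨k₀, -, hk₀⟩ := exists_k_gen H
  have hk₀K : k₀ ∈ kGrp a t := hk₀ ▸ Subgroup.mem_zpowers k₀
  set k₀' : stabilizer G a := ⟨k₀, (kGrp_le_dGrp H hk₀K).1⟩
  set w' : stabilizer G a := ⟨w, hw.1.1.1⟩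
  have hk0ord : orderOf k₀ + 1 = Nat.card F := by
    rw [← Nat.card_zpowers, ← hk₀, card_kGrp H, E.card_F]
  have hcop : Nat.Coprime r (orderOf k₀) := (Nat.Prime.coprime_iff_not_dvd hr).2 fun h => hr2 (by
    have h2 : r ∣ 2 := by
      have := Nat.dvd_sub (hk0ord ▸ hdvd) h
      rwa [show orderOf k₀ + 1 + 1 - orderOf k₀ = 2 by omega] at this
    exact (Nat.prime_dvd_prime_iff_eq hr Nat.prime_two).1 h2)
  have hkw : Commute k₀' w' := Subtype.ext ((mem_wGrp.1 hw).2 k₀ hk₀K)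
  set T := act (k₀' * w')
  have hTpow : ∀ i : ℕ, act ((k₀' * w') ^ i) = T ^ i := fun i => by
    induction i with
    | zero =>
      rw [pow_zero, pow_zero]
      refine LinearMap.ext fun v => ?_
      obtain ⟨x, hx⟩ := QuotientGroup.mk_surjective v.toMul
      obtain rfl : v = Additive.ofMul (x : Q ⧸ Z') := Additive.toMul.injective hx.symm
      rw [hact, Module.End.one_apply]
      congr 2
      exact Subtype.ext (by simp [cj])
    | succ i ih => rw [pow_succ, hactm, ih, pow_succ]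
  have hkpow : ∃ i : ℕ, k₀' = (k₀' * w') ^ i := by
    obtain ⟨m, hm⟩ := exists_pow_eq_self_of_coprime (x := k₀) hcop
    refine ⟨r * m, ?_⟩
    rw [pow_mul, hkw.mul_pow, show w' ^ r = 1 from Subtype.ext (by
      rw [SubmonoidClass.coe_pow, Subgroup.coe_one, ← hord]; exact pow_orderOf_eq_one w), mul_one]
    exact Subtype.ext (by rw [SubmonoidClass.coe_pow, SubmonoidClass.coe_pow]; exact hm.symm)
  have hwpow : ∃ i : ℕ, w' = (k₀' * w') ^ i := by
    have hcop' : Nat.Coprime (orderOf k₀) (orderOf w) := by rw [hord]; exact hcop.symm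
    obtain ⟨m, hm⟩ := exists_pow_eq_self_of_coprime (x := w) hcop'
    refine ⟨orderOf k₀ * m, ?_⟩
    rw [pow_mul, hkw.mul_pow, show k₀' ^ orderOf k₀ = 1 from Subtype.ext (by
      rw [SubmonoidClass.coe_pow, Subgroup.coe_one]; exact pow_orderOf_eq_one k₀), one_mul]
    exact Subtype.ext (by rw [SubmonoidClass.coe_pow, SubmonoidClass.coe_pow]; exact hm.symm)
  haveI : Finite W₀ := Finite.of_equiv (Q ⧸ Z') Additive.ofMul
  obtain ⟨x₀, hx₀, hx₀z⟩ : ∃ x ∈ Q, x ∉ zGrp G a := by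
    by_contra hcon
    push Not at hcon
    obtain ⟨x, hx, y, hy, hne⟩ := hna
    exact hne (zGrp_central H (hcon x hx) hy)
  haveI : Nontrivial W₀ := ⟨⟨Additive.ofMul ((⟨x₀, hx₀⟩ : Q) : Q ⧸ Z'), 0, fun h => hx₀z (by
    have h' : ((⟨x₀, hx₀⟩ : Q) : Q ⧸ Z') = 1 := Additive.ofMul.injective h
    rw [QuotientGroup.eq_one_iff, hZ', Subgroup.mem_subgroupOf] at h'
    exact h')⟩⟩
  have hirr : ∀ W : Submodule (ZMod 2) W₀, (∀ v ∈ W, T v ∈ W) → W = ⊥ ∨ W = ⊤ := by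
    intro W hW
    have hWi : ∀ i : ℕ, ∀ v ∈ W, act ((k₀' * w') ^ i) v ∈ W := fun i => by
      rw [hTpow]
      induction i with
      | zero => exact fun v hv => by simpa using hv
      | succ i ih => exact fun v hv => by rw [pow_succ', Module.End.mul_apply]; exact hW _ (ih v hv)
    let X : Subgroup Q :=
      { carrier := {x | Additive.ofMul (x : Q ⧸ Z') ∈ W}
        mul_mem' := fun hx hy => by
          rw [Set.mem_setOf_eq, QuotientGroup.mk_mul, ofMul_mul]; exact W.add_mem hx hy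
        one_mem' := by rw [Set.mem_setOf_eq, QuotientGroup.mk_one, ofMul_one]; exact W.zero_mem
        inv_mem' := fun hx => by rw [Set.mem_setOf_eq, QuotientGroup.mk_inv, ofMul_inv]; exact W.neg_mem hx }
    set R := X.map Q.subtype
    have hmR : ∀ x : Q, (x : G) ∈ R ↔ Additive.ofMul (x : Q ⧸ Z') ∈ W := fun x =>
      ⟨fun ⟨y, hy, e⟩ => by
          obtain rfl : y = x := Subtype.ext e
          exact hy, fun h => ⟨x, h, rfl⟩⟩
    have hRQ : R ≤ Q := Subgroup.map_subtype_le X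
    have hZR : zGrp G a ≤ R := fun z hz => (hmR ⟨z, zGrp_le H hz⟩).2 (by
      rw [(QuotientGroup.eq_one_iff (⟨z, zGrp_le H hz⟩ : Q)).2 (by rw [hZ', Subgroup.mem_subgroupOf]; exact hz),
        ofMul_one]
      exact W.zero_mem)
    have hRinv : ∀ g : stabilizer G a, (∀ v ∈ W, act g v ∈ W) → ∀ x ∈ R, (g : G) * x * (g : G)⁻¹ ∈ R :=
      fun g hg x hx => (hmR ⟨_, hcQ g.2 ⟨x, hRQ hx⟩⟩).2 (hg _ ((hmR ⟨x, hRQ hx⟩).1 hx))
    have hRk : ∀ k ∈ kGrp a t, ∀ x ∈ R, k * x * k⁻¹ ∈ R := fun k hk x hx => by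
      obtain ⟨i, hi⟩ := hkpow
      rw [hk₀] at hk
      obtain ⟨n, rfl⟩ := (mem_powers_iff_mem_zpowers (x := k₀) (y := k)).2 hk
      have h := hRinv (k₀' ^ n) (by rw [hi, ← pow_mul]; exact hWi _) x hx
      rwa [SubmonoidClass.coe_pow] at h
    by_cases hx : ∃ x ∈ R, x ∉ zGrp G a
    · obtain ⟨x, hxR, hxz⟩ := hx
      by_cases hy : ∃ y ∈ Q, y ∉ R
      · exfalso
        obtain ⟨y, hy, hyR⟩ := hy
        obtain ⟨i, hi⟩ := hwpow
        have hwx : w * x * w⁻¹ ∈ R := hRinv w' (hi ▸ hWi i) x hxR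
        have hwxz : w * x * w⁻¹ ∉ zGrp G a := fun h => hxz (by
          have h2 := conj_zGrp H (inv_mem hw.1.1.1) h
          rwa [show w⁻¹ * (w * x * w⁻¹) * w⁻¹⁻¹ = x by group] at h2)
        obtain ⟨k, hk, z, hz, e⟩ := (mid_sub H hsz hRQ hRk hZR hxR hxz hy hyR).1 x hxR hxz _ hwx hwxz
        exact hxz (cq_w E hQ2 hna hsz hw hw1 (hRQ hxR) (w_fix_of_orbit E hQ2 hna hw (hRQ hxR) hxz hk hz e))
      · push Not at hy
        refine Or.inr (eq_top_iff.2 fun v _ => ?_)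
        obtain ⟨x, hx⟩ := QuotientGroup.mk_surjective v.toMul
        obtain rfl : v = Additive.ofMul (x : Q ⧸ Z') := Additive.toMul.injective hx.symm
        exact (hmR x).1 (hy x x.2)
    · push Not at hx
      refine Or.inl ((Submodule.eq_bot_iff _).2 fun v hv => ?_)
      obtain ⟨x, hx'⟩ := QuotientGroup.mk_surjective v.toMul
      obtain rfl : v = Additive.ofMul (x : Q ⧸ Z') := Additive.toMul.injective hx'.symm
      rw [(QuotientGroup.eq_one_iff x).2 (by rw [hZ', Subgroup.mem_subgroupOf]; exact hx _ ((hmR x).2 hv)), ofMul_one]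
  obtain ⟨L, iL, iL', f, hf, hfadd, μ, hμ⟩ := field_of_irred T hirr
  have hcardW : Nat.card W₀ = Nat.card K := by
    have h := Subgroup.card_eq_card_quotient_mul_card_subgroup Z'
    rw [show Nat.card Z' = Nat.card (zGrp G a) from Nat.card_congr
      (Subgroup.subgroupOfEquivOfLe (zGrp_le H)).toEquiv, hsz, pow_succ] at h
    rw [X₂.card, ← E.card_F]
    exact (mul_right_cancel₀ (by have := four_le_q H; omega) h).symm
  haveI := Fintype.ofFinite L
  haveI := Fintype.ofFinite K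
  let ε : L ≃+* K := FiniteField.ringEquivOfCardEq (by
    rw [← Nat.card_eq_fintype_card, ← Nat.card_eq_fintype_card, ← Nat.card_congr (Equiv.ofBijective f hf), hcardW])
  let θ : G → K := fun g => if h : g ∈ Q then ε (f (Additive.ofMul ((⟨g, h⟩ : Q) : Q ⧸ Z'))) else 0
  have hθ : ∀ x : Q, θ x = ε (f (Additive.ofMul (x : Q ⧸ Z'))) := fun x => dif_pos x.2
  have hsurj : ∀ v, ∃ x ∈ Q, θ x = v := fun v => by
    obtain ⟨u, hu⟩ := hf.2 (ε.symm v)
    obtain ⟨x, hx⟩ := QuotientGroup.mk_surjective u.toMul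
    refine ⟨x, x.2, ?_⟩
    rw [hθ, hx]
    show ε (f u) = v
    rw [hu, RingEquiv.apply_symm_apply]
  have hadd : ∀ x ∈ Q, ∀ y ∈ Q, θ (x * y) = θ x + θ y := fun x hx y hy => by
    have := hθ (⟨x, hx⟩ * ⟨y, hy⟩)
    rw [Subgroup.coe_mul] at this
    rw [this, QuotientGroup.mk_mul, ofMul_mul, hfadd, map_add, ← hθ, ← hθ]
  have hker : ∀ x ∈ Q, θ x = 0 ↔ x ∈ zGrp G a := fun x hx => by
    have h0 : f 0 = 0 := by
      have := hfadd 0 0
      rwa [add_zero, left_eq_add] at this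
    rw [hθ ⟨x, hx⟩, EmbeddingLike.map_eq_zero_iff, ← h0, hf.1.eq_iff, ← ofMul_one, Additive.ofMul.injective.eq_iff,
      QuotientGroup.eq_one_iff, hZ', Subgroup.mem_subgroupOf]
  have hscal : ∀ i : ℕ, ∀ x ∈ Q,
      θ (((k₀' * w') ^ i : stabilizer G a) * x * (((k₀' * w') ^ i : stabilizer G a) : G)⁻¹) = ε μ ^ i * θ x := by
    intro i x hx
    have hTi : ∀ v, f ((T ^ i) v) = μ ^ i * f v := fun v => by
      induction i with
      | zero => simp
      | succ i ih => rw [pow_succ', Module.End.mul_apply, hμ, ih, pow_succ', mul_assoc]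
    have h1 := hθ (cj ((k₀' * w') ^ i) ⟨x, hx⟩)
    refine h1.trans ?_
    rw [← hact, hTpow, hTi, map_mul, map_pow, ← hθ]
  obtain ⟨ik, hik⟩ := hkpow
  obtain ⟨iw, hiw⟩ := hwpow
  have hz₁ : θ x₀ ≠ 0 := fun h => hx₀z ((hker x₀ hx₀).1 h)
  set c₀ := ε μ ^ ik with hc₀
  set ζ := ε μ ^ iw with hζdef
  have hwc : ∀ x ∈ Q, θ (w * x * w⁻¹) = ζ * θ x := fun x hx => by
    have h := hscal iw x hx
    rwa [← hiw] at h
  have hkn : ∀ (n : ℕ), ∀ x ∈ Q, θ (k₀ ^ n * x * (k₀ ^ n)⁻¹) = c₀ ^ n * θ x := fun n x hx => by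
    have h := hscal (ik * n) x hx
    rw [pow_mul, ← hik, SubmonoidClass.coe_pow, pow_mul] at h
    exact h
  have hwr : ζ ^ r = 1 := by
    have h1 : ∀ n, θ (w ^ n * x₀ * (w ^ n)⁻¹) = ζ ^ n * θ x₀ := fun n => by
      induction n with
      | zero => simp
      | succ n ih =>
        rw [show w ^ (n + 1) * x₀ * (w ^ (n + 1))⁻¹ = w * (w ^ n * x₀ * (w ^ n)⁻¹) * w⁻¹ by rw [pow_succ']; group,
          hwc _ (H.setup.conj_mem _ (pow_mem hw.1.1.1 n) x₀ hx₀), ih, pow_succ', mul_assoc]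
    have h := h1 r
    rw [show w ^ r = 1 by rw [← hord]; exact pow_orderOf_eq_one w, one_mul, inv_one, mul_one] at h
    exact (mul_eq_right₀ hz₁).1 h.symm
  have hζ1 : ζ ≠ 1 := fun h => hx₀z (cq_w E hQ2 hna hsz hw hw1 hx₀ (w_fix_of_coset E hQ2 hna hw (by
    have hm : w * x₀ * w⁻¹ ∈ Q := H.setup.conj_mem _ hw.1.1.1 x₀ hx₀
    refine (hker _ (mul_mem (inv_mem hx₀) hm)).1 ?_
    have h2 := hadd x₀ hx₀ x₀⁻¹ (inv_mem hx₀)
    rw [mul_inv_cancel, (hker 1 (one_mem _)).2 (one_mem _)] at h2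
    rw [hadd _ (inv_mem hx₀) _ hm, hwc x₀ hx₀, h, one_mul, add_comm, ← h2])))
  have hζJ : ζ * X₂.J ζ = 1 := by
    obtain ⟨d, hd⟩ := hdvd
    rw [X₂.hJ, ← pow_succ', hd, pow_mul, hwr, one_pow]
  have hζj : ∀ y, X₂.j y ≠ ζ := fun y h => by
    have h2 : ζ ^ 2 = 1 := by rw [pow_two]; rwa [← h, X₂.J_j, h] at hζJ
    exact hζ1 (orderOf_eq_one_iff.1 (Nat.eq_one_of_dvd_coprimes ((Nat.coprime_primes hr Nat.prime_two).2 hr2)
      (orderOf_dvd_of_pow_eq_one hwr) (orderOf_dvd_of_pow_eq_one h2)))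
  -- the scalars of `K`
  have hc₀q : c₀ ^ orderOf k₀ = 1 := by
    have h := hkn (orderOf k₀) x₀ hx₀
    rw [pow_orderOf_eq_one, one_mul, inv_one, mul_one] at h
    exact (mul_eq_right₀ hz₁).1 h.symm
  have hpos : 0 < orderOf k₀ := orderOf_pos k₀
  have hc₀0 : c₀ ≠ 0 := fun h => by rw [h, zero_pow hpos.ne'] at hc₀q; exact zero_ne_one hc₀q
  obtain ⟨cF, hcF⟩ := X₂.fixed (x := c₀) (by
    rw [X₂.hJ, ← hk0ord, pow_succ, hc₀q, one_mul])
  have hexp : ∀ γ : Fˣ, ∃ n : ℕ, E.C.kap γ = k₀ ^ n := fun γ => by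
    have hm := E.C.kap_mem γ
    rw [hk₀] at hm
    obtain ⟨n, hn⟩ := (mem_powers_iff_mem_zpowers (x := k₀) (y := E.C.kap γ)).2 hm
    exact ⟨n, hn.symm⟩
  choose n hn using hexp
  have hkc : ∀ γ : Fˣ, ∀ x ∈ Q, θ (E.C.kap γ * x * (E.C.kap γ)⁻¹) = X₂.j (cF ^ n γ) * θ x := fun γ x hx => by
    rw [hn, hkn _ x hx, map_pow, hcF]
  have hiinj : Function.Injective fun γ => (Units.mk0 (cF ^ n γ) (pow_ne_zero _ fun h => hc₀0 (by
      rw [← hcF, h, map_zero])) : Fˣ) := fun γ γ' e => by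
    have e' : cF ^ n γ = cF ^ n γ' := congrArg Units.val e
    refine E.C.kap_inj ?_
    by_contra hne
    have hk1 : E.C.kap γ'⁻¹ * E.C.kap γ ≠ 1 := fun h => hne (by
      rw [← E.C.kap_mul] at h
      have h1 : E.C.kap (γ'⁻¹ * γ) = E.C.kap 1 := by
        rw [h]
        have := E.C.kap_mul 1 1
        rw [one_mul] at this
        exact (mul_eq_left.1 this.symm).symm
      rw [inv_mul_eq_one.1 (E.C.kap_inj h1)])
    have hkm : E.C.kap γ'⁻¹ * E.C.kap γ ∈ kGrp a t := mul_mem (E.C.kap_mem _) (E.C.kap_mem _)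
    refine hx₀z (k_coset_fpf H hkm hk1 hx₀ ?_)
    have hm : E.C.kap γ'⁻¹ * E.C.kap γ * x₀ * (E.C.kap γ'⁻¹ * E.C.kap γ)⁻¹ ∈ Q :=
      H.setup.conj_mem _ (kGrp_le_dGrp H hkm).1 x₀ hx₀
    refine (hker _ (mul_mem (inv_mem hx₀) hm)).1 ?_
    have h2 := hadd x₀ hx₀ x₀⁻¹ (inv_mem hx₀)
    rw [mul_inv_cancel, (hker 1 (one_mem _)).2 (one_mem _)] at h2
    have hm' : E.C.kap γ * x₀ * (E.C.kap γ)⁻¹ ∈ Q := H.setup.conj_mem _ (kGrp_le_dGrp H (E.C.kap_mem γ)).1 x₀ hx₀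
    have h3 : θ (E.C.kap γ'⁻¹ * E.C.kap γ * x₀ * (E.C.kap γ'⁻¹ * E.C.kap γ)⁻¹) = θ x₀ := by
      rw [show E.C.kap γ'⁻¹ * E.C.kap γ * x₀ * (E.C.kap γ'⁻¹ * E.C.kap γ)⁻¹ =
        E.C.kap γ'⁻¹ * (E.C.kap γ * x₀ * (E.C.kap γ)⁻¹) * (E.C.kap γ'⁻¹)⁻¹ by group, hkc _ _ hm', hkc γ x₀ hx₀, e',
        ← hkc γ' x₀ hx₀, ← hkc _ _ (H.setup.conj_mem _ (kGrp_le_dGrp H (E.C.kap_mem γ')).1 x₀ hx₀)]
      have h4 : E.C.kap γ'⁻¹ * E.C.kap γ' = 1 := by
        rw [← E.C.kap_mul, inv_mul_cancel]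
        have := E.C.kap_mul 1 1
        rw [one_mul] at this
        exact mul_eq_left.1 this.symm
      congr 1
      rw [eq_inv_of_mul_eq_one_left h4]
      group
    rw [hadd _ (inv_mem hx₀) _ hm, h3, add_comm, ← h2]
  have hisurj := (Finite.injective_iff_surjective).1 hiinj
  choose S hS using fun v => (hsurj v)
  have hSq : ∀ x ∈ Q, x * x = E.C.e ((E.C.e_surj _ (hsq _ (hS (θ x)).1)).choose) := fun x hx => by
    rw [(E.C.e_surj _ (hsq _ (hS (θ x)).1)).choose_spec]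
    set y := S (θ x)
    have hy : y ∈ Q := (hS (θ x)).1
    have hd : y⁻¹ * x ∈ zGrp G a := by
      refine (hker _ (mul_mem (inv_mem hy) hx)).1 ?_
      have h2 := hadd y hy y⁻¹ (inv_mem hy)
      rw [mul_inv_cancel, (hker 1 (one_mem _)).2 (one_mem _)] at h2
      rw [hadd _ (inv_mem hy) _ hx, add_comm, ← (hS (θ x)).2, ← h2]
    calc x * x = y * ((y⁻¹ * x) * y) * (y⁻¹ * x) := by group
      _ = y * (y * (y⁻¹ * x)) * (y⁻¹ * x) := by rw [zGrp_central H hd hy]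
      _ = _ := by rw [mul_assoc y, mul_assoc y (y⁻¹ * x), ((mem_zGrp H).1 hd).2, mul_one]
  exact ⟨{
    θ := θ
    iota := fun γ => cF ^ n γ
    ζ := ζ
    S := fun v => (E.C.e_surj _ (hsq _ (hS v).1)).choose
    surj := hsurj
    add := hadd
    ker := hker
    wconj := hwc
    kconj := hkc
    iota_ne := fun γ => pow_ne_zero _ fun h => hc₀0 (by rw [← hcF, h, map_zero])
    iota_surj := fun y hy => by
      obtain ⟨γ, hγ⟩ := hisurj (Units.mk0 y hy)
      exact ⟨γ, congrArg Units.val hγ⟩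
    hζ := hζJ
    hζj := hζj
    sq := hSq }⟩

theorem exists_qform {r : ℕ} (hw : w ∈ wGrp a t) (hr : r.Prime) (hr2 : r ≠ 2) (hord : orderOf w = r)
    (hdvd : r ∣ Nat.card F + 1) : Nonempty (QForm E w X₂) := by
  obtain ⟨B⟩ := exists_qbase E X₂ hQ2 hna hsz hrz hw hr hr2 hord hdvd
  obtain ⟨φ, ψ, c, hψ, hform⟩ := X₂.exists_form B.S B.hζ B.hζj (fun x hx => B.S_ne hx) B.S_zero B.S_add
    (fun x => by
      obtain ⟨g, hg, rfl⟩ := B.surj x
      have hm : w * g * w⁻¹ ∈ Q := E.hyp.setup.conj_mem _ hw.1.1.1 g hg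
      refine E.C.e_inj ?_
      rw [← B.wconj g hg, ← B.sq _ hm, ← B.sq g hg]
      calc w * g * w⁻¹ * (w * g * w⁻¹) = w * (g * g) * w⁻¹ := by group
        _ = g * g := by
          rw [← w_comm_z E hQ2 hna hw ((q_shape E.hyp hQ2 hna).2 g hg), mul_inv_cancel_right])
    (fun y hy => by
      obtain ⟨γ, rfl⟩ := B.iota_surj y hy
      exact ⟨γ, B.S_kconj γ⟩)
  let φ' : K ≃+* K := RingEquiv.ofBijective φ ((Finite.injective_iff_bijective).1 φ.injective)
  obtain ⟨B₁, hζ₁, hS₁⟩ := B.exists_change φ' one_ne_zero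
  have hform₁ : ∀ v, X₂.j (B₁.S v) = X₂.tr (c * v * ψ (φ'.symm v)) := fun v => by
    rw [hS₁, div_one, hform, show φ (φ'.symm v) = v from φ'.apply_symm_apply v]
  obtain ⟨γ, hγ⟩ : ∃ γ : Fˣ, (γ : F) * B₁.S 1 = 1 :=
    ⟨Units.mk0 (B₁.S 1)⁻¹ (inv_ne_zero (B₁.S_ne one_ne_zero)), inv_mul_cancel₀ (B₁.S_ne one_ne_zero)⟩
  rw [← B₁.S_kconj γ, mul_one] at hγ
  set k := X₂.j (B₁.iota γ) with hk
  have hk0 : k ≠ 0 := (map_ne_zero X₂.j).2 (B₁.iota_ne γ)
  obtain ⟨B₂, hζ₂, hS₂⟩ := B₁.exists_change (RingEquiv.refl K) (inv_ne_zero hk0)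
  refine ⟨{ B := B₂, ψ := ψ.comp φ'.symm.toRingHom, c := c * k * ψ (φ'.symm k), hψ := ?_, form := fun v => ?_,
            one := ?_ }⟩
  · rw [RingHom.comp_apply, hζ₂, RingEquiv.refl_apply, hζ₁]
    show ψ (φ'.symm (φ' B.ζ)) * φ B.ζ = 1
    rw [RingEquiv.symm_apply_apply, hψ]
  · rw [hS₂, hform₁]
    simp only [show ∀ v, (RingEquiv.refl K).symm v = v from fun _ => rfl, div_inv_eq_mul, RingHom.comp_apply,
      RingEquiv.toRingHom_eq_coe, RingEquiv.coe_toRingHom, map_mul]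
    congr 1
    ring
  · rw [hS₂]
    simpa using hγ

end Cfsg.Agent.Transfer.RankOne
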