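import Cfsg.Agent.Lib.Transfer.RankOne.LMoebius

/-!
An element `w` of prime order of `W`, a point `c₀` off the orbit of `a` under the cells, and the element `e` of the
cells with `e w` fixing `c₀`: `e` fixes no point of the orbit, and what its centraliser in the cells gives.
-/

set_option autoImplicit false
set_option linter.unusedSectionVars false
set_option linter.style.haveILetI false

namespace Cfsg.Agent.Transfer.RankOne

open MulAction Matrix
open scoped MatrixGroups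
open Cfsg.Agent.Lie.RankOne (b_ne q_fix exists_q)

universe u v

section Count

variable {F E : Type} [Field F] [Finite F] [CharP F 2] [Field E] [Finite E] [CharP E 2]

/-- The centraliser of a matrix without eigenvector has order `q + 1`. -/
theorem QExt.card_cent (X₂ : QExt F E) {M : SL(2, F)} (h : QExt.Ell M) :
    Nat.card {N : SL(2, F) // N * M = M * N} = Nat.card F + 1 := by
  classical
  obtain ⟨δ, hδ, hM⟩ := X₂.ell_fixed h
  have hc := QExt.ell_entry h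
  have hq1 : 1 < Nat.card F := Finite.one_lt_card
  have hker : Nat.card (powMonoidHom (Nat.card F + 1) : Eˣ →* Eˣ).ker = Nat.card F + 1 := by
    rw [IsCyclic.card_powMonoidHom_ker, Nat.card_units, X₂.card, Nat.gcd_comm]
    refine Nat.gcd_eq_left ⟨Nat.card F - 1, ?_⟩
    rw [← Nat.sq_sub_sq, one_pow]
  rw [← hker]
  have hm : ∀ N : {N : SL(2, F) // N * M = M * N}, X₂.mult δ N.1 * X₂.J (X₂.mult δ N.1) = 1 := fun N =>
    X₂.J_mult hδ (X₂.fixes_of_comm hc hM N.2)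
  let f : {N : SL(2, F) // N * M = M * N} → (powMonoidHom (Nat.card F + 1) : Eˣ →* Eˣ).ker := fun N =>
    ⟨Units.mk0 (X₂.mult δ N.1) (left_ne_zero_of_mul (a := X₂.mult δ N.1) (b := X₂.J (X₂.mult δ N.1))
      (by rw [hm N]; exact one_ne_zero)), MonoidHom.mem_ker.2 (Units.ext (by
      rw [powMonoidHom_apply, Units.val_pow_eq_pow_val, Units.val_mk0, pow_succ', ← X₂.hJ, Units.val_one]
      exact hm N))⟩
  refine Nat.card_congr (Equiv.ofBijective f ⟨fun N N' e => Subtype.ext (X₂.fixes_inj hδ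
    (X₂.fixes_of_comm hc hM N.2) (X₂.fixes_of_comm hc hM N'.2)
    (congrArg (fun u : (powMonoidHom (Nat.card F + 1) : Eˣ →* Eˣ).ker => ((u : Eˣ) : E)) e)), fun u => ?_⟩)
  have hu := congrArg Units.val (MonoidHom.mem_ker.1 u.2)
  rw [powMonoidHom_apply, Units.val_pow_eq_pow_val, pow_succ', ← X₂.hJ, Units.val_one] at hu
  obtain ⟨N, hN, hNu⟩ := X₂.exists_of_norm hδ hu
  exact ⟨⟨N, X₂.comm_of_fixes hδ hM hN⟩, Subtype.ext (Units.ext hNu)⟩

end Count

variable {G : Type u} {Ω : Type v} [Group G] [MulAction G Ω] [Finite G] [FaithfulSMul G Ω]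
  {a : Ω} {t : G} {Q : Subgroup G} {F : Type} [Field F] [Finite F] [CharP F 2] (E : Env a t Q F)

/-- The data. -/
structure CData (hrz : E.r ∈ zGrp G a) {K : Type} [Field K] (X₂ : QExt F K) where
  w : G
  e : G
  x : G
  r : ℕ
  A : ℕ
  c₀ : Ω
  δ₀ : K
  hw : w ∈ wGrp a t
  hr : r.Prime
  hr2 : r ≠ 2
  hord : orderOf w = r
  hc₀ : ¬ InB E hrz c₀
  he : e ∈ lGrp E hrz
  hfix : (e * w) • c₀ = c₀
  eord : orderOf e = r
  efree : ∀ p, InB E hrz p → e • p ≠ p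
  hδ : ∀ y, X₂.j y ≠ δ₀
  hM : X₂.Fixes δ₀ (psi E hrz ⟨e, he⟩)
  hx : x ∈ lGrp E hrz
  hxe : x * e = e * x
  xord : orderOf x = r ^ A
  xgen : ∃ i : ℕ, e = x ^ i
  hA : 1 ≤ A
  hAdvd : r ^ A ∣ Nat.card F + 1
  hAmax : ¬ r ^ (A + 1) ∣ Nat.card F + 1

variable (hQ2 : IsPGroup 2 Q) (hna : ∃ x ∈ Q, ∃ y ∈ Q, x * y ≠ y * x)
  (hsz : Nat.card Q = Nat.card (zGrp G a) ^ 3) (hrz : E.r ∈ zGrp G a)
include hQ2 hna hsz hrz

theorem w_ne {w : G} {r : ℕ} (hr : r.Prime) (hord : orderOf w = r) : w ≠ 1 := fun h => by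
  rw [h, orderOf_one] at hord
  exact hr.one_lt.ne hord

/-- An element of the cells which, times an element of `W`, fixes an outside point, fixes no point of the
orbit. -/
theorem free_of_fix {w l : G} {r : ℕ} (hr2 : r ≠ 2) (hr : r.Prime) (hw : w ∈ wGrp a t) (hwr : w ^ r = 1)
    (hl : l ∈ lGrp E hrz) (hlr : l ^ r = 1) (hl1 : l ≠ 1) {c : Ω} (hc : ¬ InB E hrz c) (h : (l * w) • c = c) :
    ∀ p, InB E hrz p → l • p ≠ p := by
  intro p hp hlp
  have H := E.hyp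
  obtain ⟨h₀, hh₀, hha⟩ := lGrp_trans E hrz hp
  set l' := h₀⁻¹ * l * h₀ with hl'
  have hl'L : l' ∈ lGrp E hrz := mul_mem (mul_mem (inv_mem hh₀) hl) hh₀
  have hl'a : l' • a = a := by rw [hl', mul_smul, mul_smul, hha, hlp, ← hha, inv_smul_smul]
  obtain ⟨z, hz, k, hk, e⟩ := lGrp_stab E hrz hl'L hl'a
  have hl'r : l' ^ r = 1 := by
    have h1 : (h₀⁻¹ * l * h₀⁻¹⁻¹) ^ r = 1 := by rw [conj_pow, hlr, mul_one, mul_inv_cancel]
    rwa [inv_inv] at h1
  have hk1 : k ≠ 1 := by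
    rintro rfl
    rw [mul_one] at e
    have h2 : l' ^ 2 = 1 := by rw [e, pow_two]; exact ((mem_zGrp H).1 hz).2
    have h3 : l' = 1 := orderOf_eq_one_iff.1 (Nat.eq_one_of_dvd_coprimes
      ((Nat.coprime_primes hr Nat.prime_two).2 hr2) (orderOf_dvd_of_pow_eq_one hl'r) (orderOf_dvd_of_pow_eq_one h2))
    exact hl1 (by
      calc l = h₀ * l' * h₀⁻¹ := by rw [hl']; group
        _ = 1 := by rw [h3]; group)
  let f : zGrp G a → zGrp G a := fun y => ⟨y * (k * (y : G)⁻¹ * k⁻¹), mul_mem y.2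
    (conj_zGrp H (kGrp_le_dGrp H hk).1 (inv_mem y.2))⟩
  have hf : Function.Bijective f := Finite.injective_iff_bijective.1 fun y y' hy => by
    have hy' : (y : G) * (k * (y : G)⁻¹ * k⁻¹) = y' * (k * (y' : G)⁻¹ * k⁻¹) := congrArg Subtype.val hy
    have hcom : k * ((y' : G)⁻¹ * y) = (y' : G)⁻¹ * y * k := by
      calc k * ((y' : G)⁻¹ * y) = (y' : G)⁻¹ * ((y' : G) * (k * (y' : G)⁻¹ * k⁻¹)) * k * y := by group
        _ = (y' : G)⁻¹ * (y * (k * (y : G)⁻¹ * k⁻¹)) * k * y := by rw [hy']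
        _ = _ := by group
    exact Subtype.ext (inv_mul_eq_one.1 (kGrp_fpf H hk hk1 (zGrp_le H (mul_mem (inv_mem y'.2) y.2)) hcom)).symm
  obtain ⟨y, hy⟩ := hf.2 ⟨z, hz⟩
  have hy' : (y : G) * (k * (y : G)⁻¹ * k⁻¹) = z := congrArg Subtype.val hy
  set n := h₀ * (y : G) with hn
  have hnL : n ∈ lGrp E hrz := mul_mem hh₀ (z_le_lGrp E hrz y.2)
  have hkn : k = n⁻¹ * l * n := by
    have e' : l' = y * k * (y : G)⁻¹ := by rw [e, ← hy']; group
    calc k = (y : G)⁻¹ * l' * y := by rw [e']; group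
      _ = _ := by rw [hn, hl']; group
  have hc' : ¬ InB E hrz (n⁻¹ • c) := fun h' => hc (by
    have := lGrp_b E hrz hnL h'
    rwa [smul_inv_smul] at this)
  have hkw : (k * w) • (n⁻¹ • c) = n⁻¹ • c := by
    have hwn : w * n⁻¹ = n⁻¹ * w := w_comm_l E hQ2 hna hrz hw (inv_mem hnL)
    rw [← mul_smul, mul_assoc, hwn, hkn, show n⁻¹ * l * n * (n⁻¹ * w) = n⁻¹ * (l * w) by group, mul_smul, h]
  obtain ⟨x, hx, hxc⟩ := exists_q H.setup (fun h' => hc' (Or.inl h'))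
  have hxz : x ∉ zGrp G a := fun h' => hc' (Or.inr ⟨x, h', hxc.symm⟩)
  rw [← hxc] at hkw
  have hcom : Commute (k * w) x := (fix_q_iff H (mul_mem (kGrp_le_dGrp H hk) hw.1.1) hx).1 hkw
  have hx2 := (q_shape H hQ2 hna).2 x hx
  have hk2 : k * (x * x) = x * x * k := by
    refine mul_right_cancel (b := w) ?_
    rw [mul_assoc, w_comm_z E hQ2 hna hw hx2, ← mul_assoc, (hcom.mul_right hcom).eq]
    group
  exact hxz ((mem_zGrp' H).2 ⟨hx, kGrp_fpf H hk hk1 (zGrp_le H hx2) hk2⟩)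

theorem exists_cdata {K : Type} [Field K] [Finite K] [CharP K 2] (X₂ : QExt F K) {w : G} {r : ℕ}
    (hw : w ∈ wGrp a t) (hr : r.Prime) (hord : orderOf w = r) :
    ∃ D : CData E hrz X₂, D.w = w ∧ D.r = r := by
  classical
  have H := E.hyp
  have hr2 : r ≠ 2 := fun h => by
    have h1 : r ∣ Nat.card (vGrp a t) := hord ▸ Subgroup.orderOf_dvd_natCard _ (wGrp_le_vGrp hw)
    exact Nat.not_even_iff_odd.2 (odd_vGrp H) (even_iff_two_dvd.2 (h ▸ h1))
  have hw1 := w_ne E hQ2 hna hsz hrz hr hord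
  obtain ⟨c₀, hc₀⟩ := exists_outside E hQ2 hna hsz hrz
  have hwc : ¬ InB E hrz (w • c₀) := fun h => hc₀ (by
    have h1 := (fix_w E hQ2 hna hsz hrz hw hw1).2 h
    exact smul_left_cancel _ h1 ▸ h)
  obtain ⟨e, he, hfix⟩ := l_trans E hQ2 hna hsz hrz hwc hc₀
  have hfix' : (e * w) • c₀ = c₀ := by rw [mul_smul, hfix]
  have he1 : e ≠ 1 := fun h => hc₀ ((fix_w E hQ2 hna hsz hrz hw hw1).1 (by rwa [h, one_smul] at hfix))
  have hwr : w ^ r = 1 := hord ▸ pow_orderOf_eq_one w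
  have her : e ^ r = 1 := by
    refine l_semireg E hQ2 hna hsz hrz (pow_mem he r) hc₀ ?_
    have h1 : (e * w) ^ r = e ^ r := by
      rw [(show Commute e w from (w_comm_l E hQ2 hna hrz hw he).symm).mul_pow, hwr, mul_one]
    rw [← h1]
    exact mem_stabilizer_iff.1 (pow_mem (mem_stabilizer_iff.2 hfix') r)
  haveI := Fact.mk hr
  have eord : orderOf e = r := orderOf_eq_prime her he1
  have efree := free_of_fix E hQ2 hna hsz hrz hr2 hr hw hwr he her he1 hc₀ hfix'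
  set M := psi E hrz ⟨e, he⟩ with hMdef
  have hell : QExt.Ell M := psi_ell E hrz fun p hp => efree p hp
  obtain ⟨δ₀, hδ, hM⟩ := X₂.ell_fixed hell
  have hMr : orderOf M = r := by
    rw [hMdef, orderOf_injective _ (psi_injective E hrz), Subgroup.orderOf_mk, eord]
  obtain ⟨A, m, hm, hAm⟩ := Nat.exists_eq_pow_mul_and_not_dvd (Nat.succ_ne_zero (Nat.card F)) r hr.ne_one
  have hrF := X₂.order_dvd hδ hM hMr
  have hA : 1 ≤ A := by
    by_contra hA0
    rw [show A = 0 by omega, pow_zero, one_mul] at hAm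
    exact hm (hAm ▸ hrF)
  have hAdvd : r ^ A ∣ Nat.card F + 1 := ⟨m, hAm⟩
  obtain ⟨N, hNo, hNM, i, hNi⟩ := X₂.exists_cent hδ hM hA hMr hAdvd
  obtain ⟨⟨x, hx⟩, hxN⟩ := psi_surjective E hrz N
  have hxe : x * e = e * x := congrArg Subtype.val (psi_injective E hrz (a₁ := ⟨x, hx⟩ * ⟨e, he⟩)
    (a₂ := ⟨e, he⟩ * ⟨x, hx⟩) (by rw [map_mul, map_mul, hxN, ← hMdef, hNM]))
  exact ⟨{
    w := w, e := e, x := x, r := r, A := A, c₀ := c₀, δ₀ := δ₀, hw := hw, hr := hr, hr2 := hr2, hord := hord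
    hc₀ := hc₀, he := he, hfix := hfix', eord := eord, efree := efree, hδ := hδ, hM := hM, hx := hx, hxe := hxe
    xord := by rw [← hNo, ← hxN, orderOf_injective _ (psi_injective E hrz), Subgroup.orderOf_mk]
    xgen := ⟨i, congrArg Subtype.val (psi_injective E hrz (a₁ := ⟨e, he⟩) (a₂ := ⟨x, hx⟩ ^ i)
      (by rw [map_pow, hxN, ← hMdef, hNi]))⟩
    hA := hA, hAdvd := hAdvd
    hAmax := fun h => hm ((Nat.mul_dvd_mul_iff_left (pow_pos hr.pos A)).1 (by rwa [← hAm, ← pow_succ])) }, rfl, rfl⟩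

namespace CData

variable {E hQ2 hna hsz hrz} {K : Type} [Field K] [Finite K] [CharP K 2] {X₂ : QExt F K} (D : CData E hrz X₂)

omit hQ2 hna hsz in
theorem w_pow : D.w ^ D.r = 1 := D.hord ▸ pow_orderOf_eq_one D.w

omit hQ2 hna hsz in
theorem e_pow : D.e ^ D.r = 1 := D.eord ▸ pow_orderOf_eq_one D.e

omit hQ2 hna hsz in
theorem e_ne : D.e ≠ 1 := fun h => by
  have := D.eord
  rw [h, orderOf_one] at this
  exact D.hr.one_lt.ne this

omit hQ2 hna hsz in
theorem psi_order : orderOf (psi E hrz ⟨D.e, D.he⟩) = D.r := by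
  rw [orderOf_injective _ (psi_injective E hrz), Subgroup.orderOf_mk, D.eord]

omit hQ2 hna hsz in
theorem psi_entry : (psi E hrz ⟨D.e, D.he⟩).1 1 0 ≠ 0 :=
  QExt.ell_entry (psi_ell E hrz fun p hp => D.efree p hp)

omit hQ2 hna hsz in
/-- The elements of the cells of order `r` commuting with `e` are its powers. -/
theorem comm_pow {l : G} (hl : l ∈ lGrp E hrz) (hc : l * D.e = D.e * l) (hlr : l ^ D.r = 1) :
    ∃ i : ℕ, l = D.e ^ i := by
  obtain ⟨i, hi⟩ := X₂.comm_root D.hδ D.hM D.psi_entry D.psi_order (N := psi E hrz ⟨l, hl⟩) (by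
    rw [← map_mul, ← map_mul]
    exact congrArg _ (Subtype.ext hc)) (by
    rw [← map_pow]
    exact (congrArg _ (Subtype.ext hlr : (⟨l, hl⟩ : lGrp E hrz) ^ D.r = 1)).trans (map_one _))
  exact ⟨i, congrArg Subtype.val (psi_injective E hrz (a₁ := ⟨l, hl⟩) (a₂ := ⟨D.e, D.he⟩ ^ i)
    (by rw [map_pow, hi]))⟩

omit hQ2 hna hsz in
/-- Powers of `e` conjugate in the cells are equal or inverse. -/
theorem conj_cases {m : G} (hm : m ∈ lGrp E hrz) {i j : ℕ} (h : m⁻¹ * D.e ^ i * m = D.e ^ j) :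
    D.e ^ j = D.e ^ i ∨ D.e ^ j * D.e ^ i = 1 := by
  have h' : (psi E hrz ⟨m, hm⟩)⁻¹ * psi E hrz ⟨D.e, D.he⟩ ^ i * psi E hrz ⟨m, hm⟩ =
      psi E hrz ⟨D.e, D.he⟩ ^ j := by
    rw [← map_inv, ← map_pow, ← map_mul, ← map_mul, ← map_pow]
    exact congrArg _ (Subtype.ext h)
  rcases X₂.conj_pow_cases D.hδ D.hM D.psi_order h' with h1 | h1
  · left
    exact congrArg Subtype.val (psi_injective E hrz (a₁ := ⟨D.e, D.he⟩ ^ j) (a₂ := ⟨D.e, D.he⟩ ^ i)
      (by rw [map_pow, map_pow, h1]))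
  · right
    exact congrArg Subtype.val (psi_injective E hrz (a₁ := ⟨D.e, D.he⟩ ^ j * ⟨D.e, D.he⟩ ^ i) (a₂ := 1)
      (by rw [map_mul, map_pow, map_pow, h1, map_one]))

omit hsz in
theorem comm_ew : Commute D.e D.w := (w_comm_l E hQ2 hna hrz D.hw D.he).symm

omit hsz in
theorem fix_pow (i : ℕ) : (D.e ^ i * D.w ^ i) • D.c₀ = D.c₀ := by
  rw [← (comm_ew (hQ2 := hQ2) (hna := hna) D).mul_pow]
  exact mem_stabilizer_iff.1 (pow_mem (mem_stabilizer_iff.2 D.hfix) i)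

/-- The elements of `W` of order `r` commuting with `w` are its powers. -/
theorem w_uniq {w' : G} (hw' : w' ∈ wGrp a t) (hc : w' * D.w = D.w * w') (hr : w' ^ D.r = 1) :
    ∃ i : ℕ, w' = D.w ^ i := by
  by_cases h1 : w' = 1
  · exact ⟨0, by rw [h1, pow_zero]⟩
  have hwc : ¬ InB E hrz (w' • D.c₀) := fun h => D.hc₀ (by
    have h2 := (fix_w E hQ2 hna hsz hrz hw' h1).2 h
    exact smul_left_cancel _ h2 ▸ h)
  obtain ⟨l, hl, hlc⟩ := l_trans E hQ2 hna hsz hrz hwc D.hc₀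
  have hfix' : (l * w') • D.c₀ = D.c₀ := by rw [mul_smul, hlc]
  have cwl : ∀ {y g : G}, y ∈ wGrp a t → g ∈ lGrp E hrz → Commute y g := fun hy hg =>
    w_comm_l E hQ2 hna hrz hy hg
  have hle : l * D.e = D.e * l := by
    refine (inv_mul_eq_one.1 (l_semireg E hQ2 hna hsz hrz
      (mul_mem (inv_mem (mul_mem hl D.he)) (mul_mem D.he hl)) (c := (D.w * w') • D.c₀) (fun h => ?_) ?_))
    · have h2 : InB E hrz (w' • D.c₀) := by
        have h3 := (fix_w E hQ2 hna hsz hrz D.hw (w_ne E hQ2 hna hsz hrz D.hr D.hord)).2 h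
        rw [mul_smul] at h h3
        exact smul_left_cancel _ h3 ▸ h
      exact hwc h2
    · rw [mul_smul, inv_smul_eq_iff]
      have e1 : (D.e * l) • (D.w * w') • D.c₀ = D.c₀ := by
        rw [← mul_smul, show D.e * l * (D.w * w') = D.e * (l * D.w) * w' by group, ← (cwl D.hw hl).eq,
          show D.e * (D.w * l) * w' = D.e * D.w * (l * w') by group, mul_smul, hfix', D.hfix]
      have e2 : (l * D.e) • (D.w * w') • D.c₀ = D.c₀ := by
        rw [← mul_smul, ← hc, show l * D.e * (w' * D.w) = l * (D.e * w') * D.w by group, ← (cwl hw' D.he).eq,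
          show l * (w' * D.e) * D.w = l * w' * (D.e * D.w) by group, mul_smul, D.hfix, hfix']
      rw [e1, e2]
  have hlr : l ^ D.r = 1 := by
    refine l_semireg E hQ2 hna hsz hrz (pow_mem hl _) D.hc₀ ?_
    have h2 : (l * w') ^ D.r = l ^ D.r := by rw [(cwl hw' hl).symm.mul_pow, hr, mul_one]
    rw [← h2]
    exact mem_stabilizer_iff.1 (pow_mem (mem_stabilizer_iff.2 hfix') _)
  obtain ⟨i, rfl⟩ := comm_pow D hl hle hlr
  refine ⟨i, (inv_mul_eq_one.1 ?_).symm⟩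
  by_contra hne
  refine D.hc₀ ((fix_w E hQ2 hna hsz hrz (mul_mem (inv_mem (pow_mem D.hw i)) hw') hne).1 ?_)
  rw [mul_smul, inv_smul_eq_iff]
  refine smul_left_cancel (D.e ^ i) ?_
  rw [← mul_smul, hfix', ← mul_smul, fix_pow (hQ2 := hQ2) (hna := hna) D]

end CData

end Cfsg.Agent.Transfer.RankOne
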