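import Cfsg.Agent.Lib.Transfer.RankOne.CubeNorm
import Cfsg.Agent.Lib.Transfer.RankOne.VBot
import Cfsg.Agent.Lib.Lie.SU3PresFrame
import Cfsg.Agent.Lib.Classical.UnitMultThreeGen
import Cfsg.Agent.Lib.Classical.UnitCenter

/-!
With hermitian coordinates the group is `PSU₃(q)`: it acts on its points as the unitary group does on the isotropic
lines.
-/

set_option autoImplicit false
set_option linter.unusedSectionVars false
set_option linter.style.haveILetI false

namespace Cfsg.Agent.Transfer.RankOne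

open MulAction Matrix
open scoped MatrixGroups
open Cfsg (SU PSU)
open Cfsg.Agent.Classical Cfsg.Agent.Classical.PSUAut Cfsg.Agent.Fus.UnitN Cfsg.Agent.Lie.SUGen
  Cfsg.Agent.Lie.SU3Pres
open Cfsg.Agent.Lie.RankOne (b_ne q_fix q_unique exists_q exists_qd t_smul_b)

universe u v

variable {G : Type u} {Ω : Type v} [Group G] [MulAction G Ω] [Finite G] [FaithfulSMul G Ω]
  {a : Ω} {t : G} {Q : Subgroup G} {F : Type} [Field F] [Finite F] [CharP F 2] {E : Env a t Q F}

section Gen

variable (hrz : E.r ∈ zGrp G a)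
include hrz

theorem kap_mem_closure (u : Fˣ) : E.C.kap (u * u) ∈ Subgroup.closure ((Q : Set G) ∪ {t}) := by
  have H := E.hyp
  have hz : ∀ y, E.C.e y ∈ lGrp E hrz := fun y => z_le_lGrp E hrz (E.C.e_mem y)
  have ht := t_mem_lGrp E hrz
  set A : lGrp E hrz := ⟨_, hz (u : F)⟩
  set A' : lGrp E hrz := ⟨_, hz (u : F)⁻¹⟩
  set T : lGrp E hrz := ⟨t, ht⟩
  have hA : psi E hrz A = mU (u : F) := psi_eq E hrz (mrel_z E hrz _)
  have hA' : psi E hrz A' = mU (u : F)⁻¹ := psi_eq E hrz (mrel_z E hrz _)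
  have hT : psi E hrz T = mW := psi_eq E hrz (mrel_t E hrz)
  have hk : psi E hrz ⟨_, k_le_lGrp E hrz (E.C.kap_mem (u * u))⟩ = mD u := psi_eq E hrz (mrel_k E hrz u)
  have e : (⟨_, k_le_lGrp E hrz (E.C.kap_mem (u * u))⟩ : lGrp E hrz) = A * T * A' * T * A * T := by
    refine psi_injective E hrz ?_
    have hu : (u : F) ≠ 0 := u.ne_zero
    have h2 : (2 : F) = 0 := CharTwo.two_eq_zero
    simp only [map_mul, hA, hA', hT, hk]
    refine Subtype.ext ?_
    simp only [Matrix.SpecialLinearGroup.coe_mul]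
    ext i j
    fin_cases i <;> fin_cases j <;>
      simp [mU, mW, mD, Matrix.mul_apply, Fin.sum_univ_two] <;> field_simp <;>
      ring_nf <;> simp [h2]
  have e' := congrArg Subtype.val e
  simp only [Subgroup.coe_mul, A, A', T] at e'
  rw [e']
  have hQ : ∀ y, E.C.e y ∈ Subgroup.closure ((Q : Set G) ∪ {t}) := fun y =>
    Subgroup.subset_closure (Or.inl (zGrp_le H (E.C.e_mem y)))
  have ht' : t ∈ Subgroup.closure ((Q : Set G) ∪ {t}) := Subgroup.subset_closure (Or.inr rfl)
  exact mul_mem (mul_mem (mul_mem (mul_mem (mul_mem (hQ _) ht') (hQ _)) ht') (hQ _)) ht'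

theorem closure_q_t [IsSimpleGroup G] : Subgroup.closure ((Q : Set G) ∪ {t}) = ⊤ := by
  have H := E.hyp
  have hQL : ∀ q ∈ Q, q ∈ Subgroup.closure ((Q : Set G) ∪ {t}) := fun q hq => Subgroup.subset_closure (Or.inl hq)
  have hKL : ∀ k ∈ kGrp a t, k ∈ Subgroup.closure ((Q : Set G) ∪ {t}) := fun k hk => by
    obtain ⟨c, rfl⟩ := E.C.kap_surj k hk
    obtain ⟨v, hv⟩ := FiniteField.isSquare_of_char_two (ringChar.eq F 2) (c : F)
    have hv0 : v ≠ 0 := fun h => c.ne_zero (by rw [hv, h, zero_mul])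
    rw [show c = Units.mk0 v hv0 * Units.mk0 v hv0 from Units.ext (by simpa using hv)]
    exact kap_mem_closure hrz _
  refine eq_top_of_invariant H (Subgroup.subset_closure (Or.inr rfl)) fun g hg x hx => ?_
  obtain ⟨q, hq, d, hd, rfl⟩ := exists_qd H.setup hg
  obtain ⟨k, hk, w, hw, rfl⟩ := exists_decomp H hd
  have hwx : w * x * w⁻¹ ∈ Subgroup.closure ((Q : Set G) ∪ {t}) := by
    induction hx using Subgroup.closure_induction with
    | mem y hy =>
      rcases hy with hy | hy
      · exact hQL _ (H.setup.conj_mem w hw.1.1 y hy)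
      · rw [Set.mem_singleton_iff] at hy
        subst hy
        rw [(mem_vGrp.1 hw).2, mul_inv_cancel_right]
        exact Subgroup.subset_closure (Or.inr rfl)
    | one => rw [mul_one, mul_inv_cancel]; exact one_mem _
    | mul y z _ _ hy hz => rw [← conj_mul]; exact mul_mem hy hz
    | inv y _ hy => rw [← conj_inv]; exact inv_mem hy
  rw [show q * (k * w) * x * (q * (k * w))⁻¹ = q * k * (w * x * w⁻¹) * k⁻¹ * q⁻¹ by group]
  exact mul_mem (mul_mem (mul_mem (mul_mem (hQL q hq) (hKL k hk)) hwx) (inv_mem (hKL k hk))) (inv_mem (hQL q hq))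

end Gen

variable {K : Type} [Field K] [Fintype K] [CharP K 2] {X₂ : QExt F K}


theorem HermData.one_coord (D : HermData E X₂) : D.θ 1 = 0 ∧ D.Δ 1 = 0 := by
  have h1 := D.θ_mul 1 (one_mem _) 1 (one_mem _)
  have h2 := D.Δ_mul 1 (one_mem _) 1 (one_mem _)
  rw [one_mul, left_eq_add] at h1
  rw [one_mul, h1, zero_mul, add_zero, left_eq_add] at h2
  exact ⟨h1, h2⟩

theorem HermData.Δ_ne (D : HermData E X₂) {x : G} (hx : x ∈ Q) (hx1 : x ≠ 1) : D.Δ x ≠ 0 := fun h => by
  have hn := D.norm x hx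
  rw [h, map_zero, add_zero, eq_comm, mul_eq_zero, map_eq_zero, or_self] at hn
  obtain ⟨h1, h2⟩ := D.one_coord
  exact hx1 (D.inj x hx 1 (one_mem _) (by rw [hn, h1]) (by rw [h, h2]))

set_option maxHeartbeats 1000000 in
/-- The group with hermitian coordinates is `PSU₃(q)`. -/
theorem psu_of_herm [IsSimpleGroup G] (hrz : E.r ∈ zGrp G a) (D : HermData E X₂) (hq : 4 ≤ Nat.card F) :
    Nonempty (G ≃* PSU 3 K (Nat.card F)) := by
  classical
  have H := E.hyp
  set q := Nat.card F
  have hF : Fintype.card K = q ^ 2 := by rw [← Nat.card_eq_fintype_card]; exact X₂.card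
  have hcj : ∀ x : K, qFrob hF x = X₂.J x := fun x => by rw [X₂.hJ, cj_pow hF]
  obtain ⟨e, n, f, B⟩ := exists_frame hF
  have hneg : ∀ x : K, -x = x := fun x => CharTwo.neg_eq x
  have hOK : ∀ x ∈ Q, OK hF (X₂.J (D.θ x)) (D.Δ x) := fun x hx => by
    show _ + _ + _ = (0 : K)
    rw [hcj, hcj, X₂.J_J, mul_comm, D.norm x hx, CharTwo.add_self_eq_zero]
  obtain ⟨h10, h11⟩ := D.one_coord
  -- the vector of a point
  let vec : Ω → Fin 3 → K := fun c =>
    if h : c = a then co e n f 1 0 0 else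
      co e n f (D.Δ (exists_q H.setup h).choose) (X₂.J (D.θ (exists_q H.setup h).choose)) 1
  have hva : vec a = co e n f 1 0 0 := dif_pos rfl
  have hvx : ∀ x ∈ Q, vec (x • (t • a)) = co e n f (D.Δ x) (X₂.J (D.θ x)) 1 := fun x hx => by
    have h : x • (t • a) ≠ a := Lie.RankOne.ne_of_q_smul H.setup hx (b_ne H.setup)
    show dite _ _ _ = _
    rw [dif_neg h]
    obtain ⟨h1, h2⟩ := (exists_q H.setup h).choose_spec
    rw [q_unique H.setup h1 hx h2]
  have hvb : vec (t • a) = co e n f 0 0 1 := by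
    have h := hvx 1 (one_mem _)
    rwa [one_smul, h10, h11, map_zero] at h
  have hinj : ∀ c c' : Ω, ∀ l : K, vec c = l • vec c' → c = c' := fun c c' l h => by
    by_cases hc : c = a <;> by_cases hc' : c' = a
    · rw [hc, hc']
    · obtain ⟨x, hx, rfl⟩ := exists_q H.setup hc'
      rw [hc, hva, hvx x hx, smul_co] at h
      obtain ⟨e1, -, e3⟩ := co_inj hF B h
      rw [mul_one] at e3
      rw [← e3, zero_mul] at e1
      exact absurd e1 one_ne_zero
    · obtain ⟨x, hx, rfl⟩ := exists_q H.setup hc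
      rw [hc', hva, hvx x hx, smul_co] at h
      obtain ⟨-, -, e3⟩ := co_inj hF B h
      rw [mul_zero] at e3
      exact absurd e3 one_ne_zero
    · obtain ⟨x, hx, rfl⟩ := exists_q H.setup hc
      obtain ⟨y, hy, rfl⟩ := exists_q H.setup hc'
      rw [hvx x hx, hvx y hy, smul_co] at h
      obtain ⟨e1, e2, e3⟩ := co_inj hF B h
      rw [mul_one] at e3
      rw [← e3, one_mul] at e1 e2
      rw [D.inj x hx y hy (by rw [← X₂.J_J (D.θ x), e2, X₂.J_J]) e1]
  -- pairs acting equally
  let R : Subgroup (G × SU 3 K q) :=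
    { carrier := {p | ∀ c, ∃ l : K, l ≠ 0 ∧ suVal p.2 *ᵥ vec c = l • vec (p.1 • c)}
      one_mem' := fun c => ⟨1, one_ne_zero, by
        rw [Prod.snd_one, Prod.fst_one, suVal_one', Matrix.one_mulVec, one_smul, one_smul]⟩
      mul_mem' := fun {p p'} hp hp' c => by
        obtain ⟨l, hl, e1⟩ := hp' c
        obtain ⟨l', hl', e2⟩ := hp (p'.1 • c)
        exact ⟨l * l', mul_ne_zero hl hl', by
          rw [Prod.snd_mul, Prod.fst_mul, mulVec_mul, e1, Matrix.mulVec_smul, e2, smul_smul, mul_smul p.1]⟩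
      inv_mem' := fun {p} hp c => by
        obtain ⟨l, hl, e1⟩ := hp (p.1⁻¹ • c)
        rw [smul_inv_smul] at e1
        refine ⟨l⁻¹, inv_ne_zero hl, ?_⟩
        rw [Prod.snd_inv, Prod.fst_inv]
        have h := congrArg (fun v => l⁻¹ • (suVal p.2⁻¹ *ᵥ v)) e1
        simp only [(inv_apply _ _).1, Matrix.mulVec_smul, inv_smul_smul₀ hl] at h
        exact h.symm }
  have hRQ : ∀ x ∈ Q, (x, Um hF B (X₂.J (D.θ x)) (D.Δ x)) ∈ R := fun x hx c => by
    refine ⟨1, one_ne_zero, ?_⟩
    rw [one_smul]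
    by_cases hc : c = a
    · subst hc
      rw [q_fix H.setup hx, hva, U_act hF B (hOK x hx)]
      congr 1 <;> ring
    obtain ⟨y, hy, rfl⟩ := exists_q H.setup hc
    show _ = vec (x • y • (t • a))
    rw [← mul_smul x y (t • a), hvx y hy, hvx _ (mul_mem hx hy), U_act hF B (hOK x hx), D.θ_mul x hx y hy, D.Δ_mul x hx y hy,
      hcj, X₂.J_J, map_add]
    congr 1
    · rw [sub_eq_add_neg, hneg, mul_one]; ring
    · ring
  have hRt : (t, Wm hF B) ∈ R := fun c => by
    show ∃ l : K, l ≠ 0 ∧ suVal (Wm hF B) *ᵥ vec c = l • vec (t • c)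
    by_cases hc : c = a
    · subst hc
      exact ⟨1, one_ne_zero, by rw [hva, hvb, W_act, one_smul, neg_zero]⟩
    obtain ⟨x, hx, rfl⟩ := exists_q H.setup hc
    by_cases hx1 : x = 1
    · subst hx1
      rw [one_smul, t_smul_b H.setup]
      exact ⟨1, one_ne_zero, by rw [hva, hvb, W_act, one_smul, neg_zero]⟩
    obtain ⟨y, hy, e1, e2, e3⟩ := D.t_act x hx hx1
    have hd := D.Δ_ne hx hx1
    refine ⟨D.Δ x, hd, ?_⟩
    rw [e1, hvx x hx, hvx y hy, W_act, smul_co, e2, e3, map_div₀, X₂.J_J, mul_inv_cancel₀ hd, mul_one, hneg,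
      mul_div_cancel₀ _ hd]
  let π₁ : R →* G := (MonoidHom.fst G (SU 3 K q)).comp R.subtype
  let π₂ : R →* SU 3 K q := (MonoidHom.snd G (SU 3 K q)).comp R.subtype
  have hπ₁ : Function.Surjective π₁ := by
    rw [← MonoidHom.range_eq_top, eq_top_iff, ← closure_q_t hrz, Subgroup.closure_le]
    rintro g (hg | hg)
    · exact ⟨⟨_, hRQ g hg⟩, rfl⟩
    · rw [Set.mem_singleton_iff] at hg
      exact ⟨⟨_, hRt⟩, hg.symm⟩
  have hπ₂ : Function.Surjective π₂ := by
    rw [← MonoidHom.range_eq_top]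
    refine UnitMult.eq_top_of_UW hF B (fun α b hab => ?_) ⟨⟨_, hRt⟩, rfl⟩
    obtain ⟨x, hx, e1, e2⟩ := D.surj (X₂.J α) b (by
      have h : b + qFrob hF b + α * qFrob hF α = 0 := hab
      rw [hcj, hcj] at h
      rw [X₂.J_J, mul_comm]
      exact CharTwo.add_eq_zero.1 h)
    refine ⟨⟨_, hRQ x hx⟩, ?_⟩
    show Um hF B (X₂.J (D.θ x)) (D.Δ x) = _
    rw [e1, e2, X₂.J_J]
  -- either projection determines the element
  have huniq : ∀ g g' s, (g, s) ∈ R → (g', s) ∈ R → g = g' := fun g g' s h h' =>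
    FaithfulSMul.eq_of_smul_eq_smul (α := Ω) fun c => by
      obtain ⟨l, hl, e1⟩ := h c
      obtain ⟨l', hl', e2⟩ := h' c
      refine hinj _ _ (l⁻¹ * l') ?_
      show vec (g • c) = (l⁻¹ * l') • vec (g' • c)
      rw [mul_smul, ← e2, e1, inv_smul_smul₀ hl]
  have hscal : ∀ s, ((1 : G), s) ∈ R ↔ s ∈ Subgroup.center (SU 3 K q) := by
    refine fun s => ⟨fun hs => ?_, fun hs c => ?_⟩
    · obtain ⟨η, hη⟩ : ∃ η : K, η + X₂.J η = 1 := by
        by_contra hcon
        push Not at hcon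
        have hall : ∀ x : K, ∃ y, X₂.j y = x := fun x => by
          by_contra hx
          push Not at hx
          obtain ⟨e, he⟩ := X₂.exists_tr_one hx
          exact hcon e he
        have h1 := Nat.card_le_card_of_surjective _ hall
        rw [X₂.card] at h1
        nlinarith
      obtain ⟨α, hα0, hα1⟩ : ∃ α : K, α ≠ 0 ∧ α ≠ 1 := by
        by_contra hcon
        push Not at hcon
        have h1 := Nat.card_le_card_of_surjective (fun o : Bool => if o then (1 : K) else 0) fun x => by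
          by_cases hx : x = 0
          · exact ⟨false, hx.symm⟩
          · exact ⟨true, (hcon x hx).symm⟩
        rw [X₂.card, Nat.card_eq_fintype_card (α := Bool), Fintype.card_bool] at h1
        nlinarith
      have hpt : ∀ b a' : K, b + X₂.J b = a' * X₂.J a' → ∃ c, vec c = co e n f b a' 1 := fun b a' h => by
        obtain ⟨x, hx, e1, e2⟩ := D.surj (X₂.J a') b (by rw [X₂.J_J, mul_comm]; exact h)
        exact ⟨x • (t • a), by rw [hvx x hx, e1, e2, X₂.J_J]⟩
      obtain ⟨c₁, hc₁⟩ := hpt η 1 (by rw [map_one, mul_one, hη])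
      obtain ⟨c₂, hc₂⟩ := hpt (η + 1) 1 (by
        rw [map_add, map_one, mul_one, ← hη]
        linear_combination (η + X₂.J η) * CharTwo.two_eq_zero (R := K))
      obtain ⟨c₃, hc₃⟩ := hpt (η * (α * X₂.J α)) α (by
        rw [map_mul, map_mul, X₂.J_J]
        linear_combination (α * X₂.J α) * hη)
      have hfix : ∀ c, ∃ l : K, suVal s *ᵥ vec c = l • vec c := fun c => by
        obtain ⟨l, -, hl⟩ := hs c
        exact ⟨l, by rw [hl, one_smul]⟩
      obtain ⟨l₁, hl₁⟩ := hfix a
      obtain ⟨l₃, hl₃⟩ := hfix (t • a)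
      obtain ⟨μ, hμ⟩ := hfix c₁
      obtain ⟨μ', hμ'⟩ := hfix c₂
      obtain ⟨ν, hν⟩ := hfix c₃
      rw [hva, smul_co] at hl₁
      rw [hvb, smul_co] at hl₃
      rw [hc₁, smul_co] at hμ
      rw [hc₂, smul_co] at hμ'
      rw [hc₃, smul_co] at hν
      simp only [mul_zero, mul_one] at hl₁ hl₃ hμ hμ' hν
      -- the image of `e`
      have he : co e n f l₁ 0 0 + co e n f (μ * η) μ μ = co e n f (μ' * (η + 1)) μ' μ' := by
        rw [← hl₁, ← hμ, ← hμ', ← Matrix.mulVec_add, co_add]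
        congr 2 <;> ring
      rw [co_add, zero_add] at he
      obtain ⟨e1, e2, -⟩ := co_inj hF B he
      have hl1μ : l₁ = μ := by rw [← e2] at e1; linear_combination e1
      obtain ⟨y0, y1, y2, hn⟩ := exists_co hF B (suVal s *ᵥ co e n f 0 1 0)
      have hgen : ∀ x y z : K, suVal s *ᵥ co e n f x y z =
          co e n f (x * l₁ + y * y0) (y * y1) (y * y2 + z * l₃) := fun x y z => by
        rw [show co e n f x y z = x • co e n f 1 0 0 + (y • co e n f 0 1 0 + z • co e n f 0 0 1) by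
          rw [smul_co, smul_co, smul_co, co_add, co_add]; simp, Matrix.mulVec_add, Matrix.mulVec_add,
          Matrix.mulVec_smul, Matrix.mulVec_smul, Matrix.mulVec_smul, hl₁, hl₃, hn, smul_co, smul_co, smul_co,
          co_add, co_add]
        congr 1 <;> ring
      rw [hgen] at hμ hν
      obtain ⟨a1, a2, a3⟩ := co_inj hF B hμ
      obtain ⟨b1, b2, b3⟩ := co_inj hF B hν
      rw [one_mul] at a1 a2 a3
      have hy1 : y1 = μ := a2
      have hy0 : y0 = 0 := by rw [hl1μ] at a1; linear_combination a1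
      have hνμ : ν = μ := by
        rw [hy1] at b2
        exact mul_right_cancel₀ hα0 (by linear_combination -b2)
      have hl3 : l₃ = μ := by
        have h : (α + 1) * (μ + l₃) = 0 := by
          linear_combination b3 - α * a3 + hνμ +
            ((1 + α) * l₃) * 0 + (μ + α * l₃) * CharTwo.two_eq_zero (R := K)
        rcases mul_eq_zero.1 h with h | h
        · exact absurd (CharTwo.add_eq_zero.1 h) hα1
        · exact (CharTwo.add_eq_zero.1 h).symm
      have hy2 : y2 = 0 := by linear_combination a3 - hl3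
      refine mem_center_of_suVal_scalar (c := μ) (Matrix.ext_iff_mulVec.2 fun v => ?_)
      obtain ⟨x, y, z, rfl⟩ := exists_co hF B v
      rw [hgen, hl1μ, hy0, hy1, hy2, hl3, Matrix.scalar_apply, ← Matrix.smul_one_eq_diagonal,
        Matrix.smul_mulVec, Matrix.one_mulVec, smul_co]
      congr 1 <;> ring
    · obtain ⟨l, hl⟩ := suVal_scalar_of_mem_center hF hs
      have hl0 : l ≠ 0 := fun h => by
        have h' := congrArg Matrix.det hl
        rw [h, Matrix.scalar_apply, Matrix.det_diagonal, Fin.prod_univ_three] at h'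
        simp only [mul_zero] at h'
        exact one_ne_zero ((show (suVal s).det = 1 from s.1.2).symm.trans h')
      refine ⟨l, hl0, ?_⟩
      show suVal s *ᵥ _ = _
      rw [one_smul, hl, Matrix.scalar_apply, ← Matrix.smul_one_eq_diagonal, Matrix.smul_mulVec, Matrix.one_mulVec]
  choose sec hsec using hπ₂
  have hsec' : ∀ s, ((sec s : G × SU 3 K q).1, s) ∈ R := fun s => by
    have h := (sec s).2
    rwa [show ((sec s : G × SU 3 K q)) = ((sec s : G × SU 3 K q).1, s) from Prod.ext rfl (hsec s)] at h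
  let φ : SU 3 K q →* G := MonoidHom.mk' (fun s => (sec s : G × SU 3 K q).1) fun s s' =>
    huniq _ _ (s * s') (hsec' (s * s')) (R.mul_mem (hsec' s) (hsec' s'))
  have hφ : Function.Surjective φ := fun g => by
    obtain ⟨⟨⟨g', s⟩, hp⟩, rfl⟩ := hπ₁ g
    exact ⟨s, huniq _ _ s (hsec' s) hp⟩
  have hker : φ.ker = Subgroup.center (SU 3 K q) := Subgroup.ext fun s => by
    rw [← hscal]
    refine ⟨fun h => ?_, fun h => huniq _ _ s (hsec' s) h⟩
    have h1 := hsec' s
    rwa [show (sec s : G × SU 3 K q).1 = 1 from h] at h1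
  exact ⟨((QuotientGroup.quotientMulEquivOfEq hker.symm).trans
    (QuotientGroup.quotientKerEquivOfSurjective φ hφ)).symm⟩

end Cfsg.Agent.Transfer.RankOne
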