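import Cfsg.Agent.Lib.Transfer.RankOne.CubeField
import Cfsg.Agent.Lib.Transfer.RankOne.CubeAlg

/-!
The coordinates of the unital on `Q`: the law of `Q` and the action of `t`.
-/

set_option autoImplicit false
set_option linter.unusedSectionVars false
set_option linter.style.haveILetI false

namespace Cfsg.Agent.Transfer.RankOne

open MulAction
open Cfsg.Agent.Lie.RankOne (b_ne q_fix q_unique exists_q)

universe u v

variable {G : Type u} {Ω : Type v} [Group G] [MulAction G Ω] [Finite G] [FaithfulSMul G Ω]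
  {a : Ω} {t : G} {Q : Subgroup G} {F : Type} [Field F] [Finite F] [CharP F 2] {E : Env a t Q F}

/-- Hermitian coordinates. -/
structure HermData (E : Env a t Q F) {K : Type} [Field K] (X₂ : QExt F K) where
  θ : G → K
  Δ : G → K
  θ_mul : ∀ x ∈ Q, ∀ y ∈ Q, θ (x * y) = θ x + θ y
  Δ_mul : ∀ x ∈ Q, ∀ y ∈ Q, Δ (x * y) = Δ x + Δ y + θ x * X₂.J (θ y)
  norm : ∀ x ∈ Q, Δ x + X₂.J (Δ x) = θ x * X₂.J (θ x)
  inj : ∀ x ∈ Q, ∀ y ∈ Q, θ x = θ y → Δ x = Δ y → x = y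
  surj : ∀ u η, η + X₂.J η = u * X₂.J u → ∃ x ∈ Q, θ x = u ∧ Δ x = η
  t_act : ∀ x ∈ Q, x ≠ 1 → ∃ y ∈ Q, t • (x • (t • a)) = y • (t • a) ∧ θ y = θ x / X₂.J (Δ x) ∧ Δ y = (Δ x)⁻¹

variable {hrz : E.r ∈ zGrp G a} {K : Type} [Field K] [Finite K] [CharP K 2] {X₂ : QExt F K}

theorem inB_q {x : G} (hx : x ∈ Q) : InB E hrz (x • (t • a)) ↔ x ∈ zGrp G a := by
  have H := E.hyp
  refine ⟨?_, fun h => Or.inr ⟨x, h, rfl⟩⟩
  rintro (h | ⟨z, hz, h⟩)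
  · exact absurd h (Lie.RankOne.ne_of_q_smul H.setup hx (b_ne H.setup))
  · rwa [q_unique H.setup hx (zGrp_le H hz) h]

section Delta

variable (D : DData E hrz X₂)

/-- The map `δ` read on `Q`. -/
noncomputable def DData.onQ (x : G) : K :=
  open scoped _root_.Classical in
  if x ∈ zGrp G a then X₂.j (Function.invFun E.C.e x) else D.δ (x • (t • a))

theorem DData.onQ_e (y : F) : D.onQ (E.C.e y) = X₂.j y := by
  rw [DData.onQ, if_pos (E.C.e_mem y), Function.leftInverse_invFun E.C.e_inj y]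

theorem DData.onQ_out {x : G} (hx : x ∉ zGrp G a) : D.onQ x = D.δ (x • (t • a)) := if_neg hx

theorem DData.onQ_mul_e {x : G} (hx : x ∈ Q) (y : F) : D.onQ (x * E.C.e y) = D.onQ x + X₂.j y := by
  by_cases hz : x ∈ zGrp G a
  · obtain ⟨y', rfl⟩ := E.C.e_surj x hz
    rw [← E.C.e_add, D.onQ_e, D.onQ_e, map_add]
  · rw [D.onQ_out (fun h => hz ((mul_mem_cancel_right (E.C.e_mem y)).1 h)), D.onQ_out hz,
      ← zGrp_central E.hyp (E.C.e_mem y) hx, mul_smul, D.add _ (mt (inB_q hx).1 hz)]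

theorem DData.onQ_w (hQ2 : IsPGroup 2 Q) (hna : ∃ x ∈ Q, ∃ y ∈ Q, x * y ≠ y * x) {x : G} (hx : x ∈ Q) :
    D.onQ (D.w * x * D.w⁻¹) = D.onQ x := by
  by_cases hz : x ∈ zGrp G a
  · rw [← w_comm_z E hQ2 hna D.hw hz, mul_inv_cancel_right]
  · have hnz : D.w * x * D.w⁻¹ ∉ zGrp G a := fun h => hz (by
      have h2 := conj_zGrp E.hyp (inv_mem D.hw.1.1.1) h
      rwa [show D.w⁻¹ * (D.w * x * D.w⁻¹) * D.w⁻¹⁻¹ = x by group] at h2)
    rw [D.onQ_out hnz, D.onQ_out hz, mul_smul, inv_smul_eq_iff.2 (mem_stabilizer_iff.1 D.hw.1.1.2).symm, mul_smul,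
      D.wfix _ (mt (inB_q hx).1 hz)]

theorem DData.onQ_k (γ : Fˣ) {x : G} (hx : x ∈ Q) :
    D.onQ (E.C.kap γ * x * (E.C.kap γ)⁻¹) = X₂.j γ * D.onQ x := by
  have H := E.hyp
  have hk := kGrp_le_dGrp H (E.C.kap_mem γ)
  by_cases hz : x ∈ zGrp G a
  · obtain ⟨y, rfl⟩ := E.C.e_surj x hz
    rw [E.C.conj, D.onQ_e, D.onQ_e, map_mul]
  · have hnz : E.C.kap γ * x * (E.C.kap γ)⁻¹ ∉ zGrp G a := fun h => hz (by
      have h2 := conj_zGrp H (inv_mem hk.1) h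
      rwa [show (E.C.kap γ)⁻¹ * (E.C.kap γ * x * (E.C.kap γ)⁻¹) * (E.C.kap γ)⁻¹⁻¹ = x by group] at h2)
    rw [D.onQ_out hnz, D.onQ_out hz, mul_smul, inv_smul_eq_iff.2 (mem_stabilizer_iff.1 hk.2).symm, mul_smul,
      D.mul _ (mt (inB_q hx).1 hz)]

include D in
theorem DData.exists_t {x : G} (hx : x ∈ Q) (hz : x ∉ zGrp G a) :
    ∃ y ∈ Q, y ∉ zGrp G a ∧ t • (x • (t • a)) = y • (t • a) ∧ D.onQ y = (D.onQ x)⁻¹ := by
  have H := E.hyp
  have hout : ¬ InB E hrz (t • (x • (t • a))) := fun h => hz ((inB_q (hrz := hrz) hx).1 (by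
    have := lGrp_b E hrz (t_mem_lGrp E hrz) h
    rwa [← mul_smul t, H.setup.mul_self, one_smul] at this))
  obtain ⟨y, hy, e⟩ := exists_q H.setup (fun h => hout (Or.inl h))
  rw [← e] at hout
  have hyz : y ∉ zGrp G a := fun h => hout ((inB_q hy).2 h)
  exact ⟨y, hy, hyz, e.symm, by rw [D.onQ_out hyz, D.onQ_out hz, e, D.inv _ (mt (inB_q hx).1 hz)]⟩

/-- The image of the orbit under the involution fixing `q₀ • (t • a)`. -/
theorem DData.swap_point {q₀ : G} (hq : q₀ ∈ Q) (hz : q₀ ∉ zGrp G a) :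
    ∃ T : F, T ≠ 0 ∧ X₂.j T = X₂.tr (D.onQ q₀) ∧ ∀ μ : F, ∃ q₁ ∈ Q, q₁ ∉ zGrp G a ∧ q₀⁻¹ * q₁ ∉ zGrp G a ∧
      (q₀ * t * E.C.e T⁻¹ * t * q₀⁻¹) • (E.C.e μ • (t • a)) = q₁ • (t • a) ∧
      (t * E.C.e T⁻¹ * t) • ((q₀⁻¹ * E.C.e μ) • (t • a)) = (q₀⁻¹ * q₁) • (t • a) ∧
      D.onQ q₁ = X₂.J (D.onQ q₀) ∧
      D.onQ (q₀⁻¹ * q₁) = ((D.onQ (q₀⁻¹ * E.C.e μ))⁻¹ + X₂.j T⁻¹)⁻¹ := by
  have H := E.hyp
  have hq0a : q₀ • a = a := q_fix H.setup hq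
  have hc : ¬ InB E hrz (q₀ • (t • a)) := mt (inB_q hq).1 hz
  obtain ⟨u, huc, huu, hu1, hup⟩ := D.swap _ hc
  have hg : (q₀ * t)⁻¹ * u * (q₀ * t) ∈ zGrp G a := by
    refine (mem_zGrp H).2 ⟨mem_stabilizer_iff.2 ?_, ?_⟩
    · rw [mul_smul, mul_smul, mul_smul, huc, ← mul_smul q₀, inv_smul_smul]
    · calc (q₀ * t)⁻¹ * u * (q₀ * t) * ((q₀ * t)⁻¹ * u * (q₀ * t)) = (q₀ * t)⁻¹ * (u * u) * (q₀ * t) := by group
        _ = 1 := by rw [huu]; group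
  obtain ⟨y, hy⟩ := E.C.e_surj _ hg
  have hy0 : y ≠ 0 := by
    rintro rfl
    rw [e_zero E.C, eq_comm, mul_eq_one_iff_eq_inv] at hy
    exact hu1 (by
      calc u = (q₀ * t) * ((q₀ * t)⁻¹ * u) := by group
        _ = 1 := by rw [hy]; group)
  have hu : u = q₀ * t * E.C.e y * t * q₀⁻¹ := by
    rw [hy, show q₀ * t * ((q₀ * t)⁻¹ * u * (q₀ * t)) * t * q₀⁻¹ = u * q₀ * (t * t) * q₀⁻¹ by group,
      H.setup.mul_self]
    group
  have hua : u • a = (q₀ * E.C.e y⁻¹) • (t • a) := by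
    simp only [hu, mul_smul]
    rw [inv_smul_eq_iff.2 hq0a.symm, t_e E hrz hy0]
  obtain ⟨hua', hua''⟩ := hup a (Or.inl rfl)
  have hz' : q₀ * E.C.e y⁻¹ ∉ zGrp G a := fun h => hz ((mul_mem_cancel_right (E.C.e_mem _)).1 h)
  rw [hua, ← D.onQ_out hz', D.onQ_mul_e hq, ← D.onQ_out hz] at hua''
  have hT : X₂.j y⁻¹ = X₂.tr (D.onQ q₀) := by
    rw [QExt.tr]
    linear_combination hua'' - D.onQ q₀ * CharTwo.two_eq_zero (R := K)
  refine ⟨y⁻¹, inv_ne_zero hy0, hT, fun μ => ?_⟩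
  rw [inv_inv]
  set p := q₀⁻¹ * E.C.e μ with hp
  have hpQ : p ∈ Q := mul_mem (inv_mem hq) (zGrp_le H (E.C.e_mem μ))
  have hpz : p ∉ zGrp G a := fun h => hz (inv_mem_iff.1 ((mul_mem_cancel_right (E.C.e_mem μ)).1 h))
  obtain ⟨y₁, hy₁, hy₁z, e₁, d₁⟩ := D.exists_t hpQ hpz
  have hy₂Q : y₁ * E.C.e y ∈ Q := mul_mem hy₁ (zGrp_le H (E.C.e_mem y))
  obtain ⟨y₃, hy₃, hy₃z, e₃, d₃⟩ :=
    D.exists_t hy₂Q (fun h => hy₁z ((mul_mem_cancel_right (E.C.e_mem y)).1 h))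
  rw [D.onQ_mul_e hy₁, d₁] at d₃
  have e4 : (t * E.C.e y * t) • (p • (t • a)) = y₃ • (t • a) := by
    rw [mul_smul, mul_smul, e₁, ← mul_smul (E.C.e y), zGrp_central H (E.C.e_mem y) hy₁, e₃]
  have e5 : u • (E.C.e μ • (t • a)) = (q₀ * y₃) • (t • a) := by
    rw [hu, mul_smul q₀ y₃, ← e4, hp]
    simp only [mul_smul]
  obtain ⟨h6, h7⟩ := hup (E.C.e μ • (t • a)) (Or.inr ⟨_, E.C.e_mem μ, rfl⟩)
  rw [e5] at h6 h7
  have h8 : q₀ * y₃ ∉ zGrp G a := fun h => h6 ((inB_q (mul_mem hq hy₃)).2 h)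
  rw [← D.onQ_out h8, ← D.onQ_out hz] at h7
  refine ⟨q₀ * y₃, mul_mem hq hy₃, h8, ?_, ?_, ?_, h7, ?_⟩
  · rwa [inv_mul_cancel_left]
  · rw [← hu]; exact e5
  · rwa [inv_mul_cancel_left]
  · rw [inv_mul_cancel_left, d₃]

end Delta

variable (D : DData E hrz X₂) (B : QBase E D.w X₂)

theorem QBase.theta_inv {x : G} (hx : x ∈ Q) : B.θ x⁻¹ = B.θ x := by
  have h := B.add x hx x⁻¹ (inv_mem hx)
  rw [mul_inv_cancel, (B.ker 1 (one_mem _)).2 (one_mem _), eq_comm] at h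
  exact (CharTwo.add_eq_zero.1 h).symm

theorem QBase.theta_e (y : F) : B.θ (E.C.e y) = 0 := (B.ker _ (zGrp_le E.hyp (E.C.e_mem y))).2 (E.C.e_mem y)

theorem QBase.exists_rep {x y : G} (hx : x ∈ Q) (hy : y ∈ Q) (h : B.θ x = B.θ y) : ∃ α, y = x * E.C.e α := by
  obtain ⟨α, hα⟩ := E.C.e_surj (x⁻¹ * y) ((B.ker _ (mul_mem (inv_mem hx) hy)).1 (by
    rw [B.add _ (inv_mem hx) _ hy, B.theta_inv D hx, h, CharTwo.add_self_eq_zero]))
  exact ⟨α, by rw [hα, mul_inv_cancel_left]⟩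

theorem QBase.onQ_inv {x : G} (hx : x ∈ Q) : D.onQ x⁻¹ = D.onQ x + X₂.j (B.S (B.θ x)) := by
  rw [B.inv_eq hx, D.onQ_mul_e hx]

/-- The cocycle of `Q` with its properties. -/
theorem exists_cocdata (hQ2 : IsPGroup 2 Q) (hna : ∃ x ∈ Q, ∃ y ∈ Q, x * y ≠ y * x) (Φ : QForm E D.w X₂) :
    ∃ C : CocData X₂, C.S = Φ.B.S ∧
      (∀ x ∈ Q, X₂.j (C.τ (Φ.B.θ x)) = X₂.tr (D.onQ x)) ∧
      ∀ x ∈ Q, ∀ y ∈ Q, D.onQ (x * y) = D.onQ x + D.onQ y + C.P (Φ.B.θ x) (Φ.B.θ y) := by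
  classical
  have H := E.hyp
  set B := Φ.B
  have eQ : ∀ y, E.C.e y ∈ Q := fun y => zGrp_le H (E.C.e_mem y)
  choose s hs using B.surj
  let P : K → K → K := fun u v => D.onQ (s u * s v) + D.onQ (s u) + D.onQ (s v)
  have hP : ∀ x ∈ Q, ∀ y ∈ Q, D.onQ (x * y) = D.onQ x + D.onQ y + P (B.θ x) (B.θ y) := by
    intro x hx y hy
    obtain ⟨hsQ, hsθ⟩ := hs (B.θ x)
    obtain ⟨hsQ', hsθ'⟩ := hs (B.θ y)
    obtain ⟨α, hα⟩ := B.exists_rep D hsQ hx hsθ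
    obtain ⟨β, hβ⟩ := B.exists_rep D hsQ' hy hsθ'
    simp only [P]
    generalize s (B.θ x) = x' at hsQ hα ⊢
    generalize s (B.θ y) = y' at hsQ' hβ ⊢
    have e : x * y = x' * y' * E.C.e (α + β) := by
      rw [hα, hβ, E.C.e_add]
      calc x' * E.C.e α * (y' * E.C.e β) = x' * (E.C.e α * y') * E.C.e β := by group
        _ = _ := by rw [zGrp_central H (E.C.e_mem α) hsQ']; group
    rw [e, D.onQ_mul_e (mul_mem hsQ hsQ'), hα, hβ, D.onQ_mul_e hsQ, D.onQ_mul_e hsQ', map_add]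
    linear_combination -(D.onQ x' + D.onQ y') * CharTwo.two_eq_zero (R := K)
  choose τ hτ using fun v => X₂.tr_mem (D.onQ (s v))
  have hτ' : ∀ x ∈ Q, X₂.j (τ (B.θ x)) = X₂.tr (D.onQ x) := fun x hx => by
    obtain ⟨α, hα⟩ := B.exists_rep D (hs (B.θ x)).1 hx (hs (B.θ x)).2
    rw [hτ]
    conv_rhs => rw [hα, D.onQ_mul_e (hs (B.θ x)).1, X₂.tr_add, X₂.tr_j, add_zero]
  have hone : D.onQ 1 = 0 := by rw [← e_zero E.C, D.onQ_e, map_zero]
  have hτ0 : τ 0 = 0 := X₂.j.injective (by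
    rw [← (B.ker 1 (one_mem _)).2 (one_mem _), hτ' 1 (one_mem _), hone, X₂.tr_zero, map_zero])
  have hself : ∀ v, P v v = X₂.j (B.S v) := fun v => by
    obtain ⟨hx, hθ⟩ := hs v
    simp only [P]
    rw [add_assoc, CharTwo.add_self_eq_zero, add_zero, B.sq _ hx, D.onQ_e, hθ]
  have hanti : ∀ u v, P u v + P v u = X₂.j (B.S (u + v) + B.S u + B.S v) := fun u v => by
    obtain ⟨hx, hθ⟩ := hs u
    obtain ⟨hy, hθ'⟩ := hs v
    simp only [P]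
    have h := B.swap_eq hx hy
    rw [hθ, hθ'] at h
    rw [h, D.onQ_mul_e (mul_mem hx hy)]
    linear_combination (D.onQ (s u * s v) + D.onQ (s u) + D.onQ (s v)) * CharTwo.two_eq_zero (R := K)
  have htr : ∀ u v, X₂.tr (P u v) = X₂.j (τ (u + v) + τ u + τ v) := fun u v => by
    obtain ⟨hx, hθ⟩ := hs u
    obtain ⟨hy, hθ'⟩ := hs v
    simp only [P]
    rw [X₂.tr_add, X₂.tr_add, ← hτ' _ (mul_mem hx hy), B.add _ hx _ hy, hθ, hθ', ← hτ, ← hτ, map_add, map_add]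
  have hassoc : ∀ u v z, P u v + P (u + v) z = P v z + P u (v + z) := fun u v z => by
    obtain ⟨hx, hθ⟩ := hs u
    obtain ⟨hy, hθ'⟩ := hs v
    obtain ⟨hg, hθ''⟩ := hs z
    have h1 := hP _ (mul_mem hx hy) _ hg
    have h2 := hP _ hx _ (mul_mem hy hg)
    rw [B.add _ hx _ hy, hθ, hθ', hθ'', hP _ hx _ hy, hθ, hθ'] at h1
    rw [B.add _ hy _ hg, hθ, hθ', hθ'', hP _ hy _ hg, hθ', hθ'', ← mul_assoc] at h2
    linear_combination h2 - h1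
  have hwQ : ∀ x ∈ Q, D.w * x * D.w⁻¹ ∈ Q := fun x hx => H.setup.conj_mem _ D.hw.1.1.1 x hx
  have hPζ : ∀ u v, P (B.ζ * u) (B.ζ * v) = P u v := fun u v => by
    obtain ⟨hx, hθ⟩ := hs u
    obtain ⟨hy, hθ'⟩ := hs v
    have h1 := hP _ (hwQ _ hx) _ (hwQ _ hy)
    rw [B.wconj _ hx, B.wconj _ hy, hθ, hθ',
      show D.w * s u * D.w⁻¹ * (D.w * s v * D.w⁻¹) = D.w * (s u * s v) * D.w⁻¹ by group,
      D.onQ_w hQ2 hna (mul_mem hx hy), D.onQ_w hQ2 hna hx, D.onQ_w hQ2 hna hy] at h1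
    have h2 := hP _ hx _ hy
    rw [hθ, hθ'] at h2
    exact add_left_cancel (h1.symm.trans h2)
  have hτζ : ∀ v, τ (B.ζ * v) = τ v := fun v => by
    obtain ⟨hx, hθ⟩ := hs v
    refine X₂.j.injective ?_
    rw [← hθ, ← B.wconj _ hx, hτ' _ (hwQ _ hx), hτ' _ hx, D.onQ_w hQ2 hna hx]
  have hkQ : ∀ γ : Fˣ, ∀ x ∈ Q, E.C.kap γ * x * (E.C.kap γ)⁻¹ ∈ Q := fun γ x hx =>
    H.setup.conj_mem _ (kGrp_le_dGrp H (E.C.kap_mem γ)).1 x hx
  have hPk : ∀ (γ : Fˣ) u v, P (X₂.j (B.iota γ) * u) (X₂.j (B.iota γ) * v) = X₂.j γ * P u v := fun γ u v => by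
    obtain ⟨hx, hθ⟩ := hs u
    obtain ⟨hy, hθ'⟩ := hs v
    have h1 := hP _ (hkQ γ _ hx) _ (hkQ γ _ hy)
    rw [B.kconj γ _ hx, B.kconj γ _ hy, hθ, hθ',
      show E.C.kap γ * s u * (E.C.kap γ)⁻¹ * (E.C.kap γ * s v * (E.C.kap γ)⁻¹) =
        E.C.kap γ * (s u * s v) * (E.C.kap γ)⁻¹ by group,
      D.onQ_k γ (mul_mem hx hy), D.onQ_k γ hx, D.onQ_k γ hy] at h1
    have h2 := hP _ hx _ hy
    rw [hθ, hθ'] at h2
    linear_combination X₂.j (γ : F) * h2 - h1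
  have hτk : ∀ (γ : Fˣ) u, τ (X₂.j (B.iota γ) * u) = γ * τ u := fun γ u => by
    obtain ⟨hx, hθ⟩ := hs u
    refine X₂.j.injective ?_
    rw [← hθ, ← B.kconj γ _ hx, hτ' _ (hkQ γ _ hx), D.onQ_k γ hx, X₂.tr_smul, ← hτ' _ hx, map_mul]
  have hstar : ∀ x y, x ≠ 0 → y ≠ 0 → x ≠ y → τ x = τ y →
      (X₂.j (B.S x + τ x) + P x y) * X₂.J (X₂.j (B.S x + τ x) + P x y) = X₂.j (τ x * τ x) := by
    intro x v hx0 hv0 hxv hτxv
    obtain ⟨hq, hθ⟩ := hs x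
    have hqz : s x ∉ zGrp G a := fun h => hx0 (hθ ▸ (B.ker _ hq).2 h)
    obtain ⟨T, hT0, hT, hq₁⟩ := D.swap_point hq hqz
    choose q₁ hq₁Q hq₁z hne he₁ _he₂ hd₁ hd₂ using hq₁
    have hTτ : T = τ x := X₂.j.injective (by rw [hT, hτ])
    have hmem : ∀ μ, B.θ (q₁ μ) ≠ 0 ∧ τ (B.θ (q₁ μ)) = τ x := fun μ => ⟨fun h => hq₁z μ ((B.ker _ (hq₁Q μ)).1 h),
      X₂.j.injective (by rw [hτ' _ (hq₁Q μ), hd₁, X₂.tr_J, hτ])⟩
    let f : Option F → {u : K // u ≠ 0 ∧ τ u = τ x} := fun o => o.elim ⟨x, hx0, rfl⟩ fun μ => ⟨_, hmem μ⟩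
    have hxne : ∀ μ, B.θ (q₁ μ) ≠ x := fun μ h => hne μ ((B.ker _ (mul_mem (inv_mem hq) (hq₁Q μ))).1 (by
      rw [B.add _ (inv_mem hq) _ (hq₁Q μ), B.theta_inv D hq, hθ, h, CharTwo.add_self_eq_zero]))
    have hinj : Function.Injective f := by
      rintro (_ | μ) (_ | ν) h
      · rfl
      · exact absurd (congrArg Subtype.val h).symm (hxne ν)
      · exact absurd (congrArg Subtype.val h) (hxne μ)
      · obtain ⟨α, hα⟩ := B.exists_rep D (hq₁Q μ) (hq₁Q ν) (congrArg Subtype.val h)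
        have h1 := hd₁ ν
        rw [hα, D.onQ_mul_e (hq₁Q μ), hd₁, add_eq_left, map_eq_zero] at h1
        rw [h1, e_zero E.C, mul_one] at hα
        have h2 := he₁ ν
        rw [hα, ← he₁ μ, smul_left_cancel_iff] at h2
        exact congrArg some (E.C.e_inj (q_unique H.setup (eQ μ) (eQ ν) h2.symm))
    have hτx0 : τ x ≠ 0 := hTτ ▸ hT0
    have hcard : Nat.card {u : K // u ≠ 0 ∧ τ u = τ x} ≤ Nat.card (Option F) := by
      let g : {u : K // u ≠ 0 ∧ τ u = τ x} × Fˣ → {u : K // u ≠ 0} := fun p =>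
        ⟨X₂.j (B.iota p.2) * (p.1 : K), mul_ne_zero ((map_ne_zero X₂.j).2 (B.iota_ne p.2)) p.1.2.1⟩
      have hg : Function.Injective g := fun p p' h => by
        have h' : X₂.j (B.iota p.2) * (p.1 : K) = X₂.j (B.iota p'.2) * (p'.1 : K) := congrArg Subtype.val h
        have h1 := congrArg τ h'
        rw [hτk, hτk, p.1.2.2, p'.1.2.2] at h1
        have e : p.2 = p'.2 := Units.ext (mul_right_cancel₀ hτx0 h1)
        rw [e] at h'
        exact Prod.ext (Subtype.ext (mul_left_cancel₀ ((map_ne_zero X₂.j).2 (B.iota_ne _)) h')) e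
      have h1 := Nat.card_le_card_of_injective g hg
      rw [Nat.card_prod, Nat.card_units, Finite.card_option] at *
      have h2 : Nat.card {u : K // u ≠ 0} + 1 = Nat.card F ^ 2 := by
        rw [← X₂.card, ← Nat.card_congr (Equiv.optionSubtypeNe (0 : K)), Finite.card_option]
      have h3 : 1 < Nat.card F := Finite.one_lt_card
      obtain ⟨k, hk⟩ : ∃ k, Nat.card F = k + 2 := ⟨Nat.card F - 2, by omega⟩
      rw [hk, show k + 2 - 1 = k + 1 by omega] at h1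
      rw [hk] at h2 ⊢
      refine Nat.le_of_mul_le_mul_right (c := k + 1) ?_ (by omega)
      have : (k + 2) ^ 2 = (k + 2 + 1) * (k + 1) + 1 := by ring
      linarith
    obtain ⟨o, ho⟩ := ((Nat.bijective_iff_injective_and_card f).2
      ⟨hinj, le_antisymm (Nat.card_le_card_of_injective f hinj) hcard⟩).2 ⟨v, hv0, hτxv.symm⟩
    rcases o with _ | μ
    · exact absurd (congrArg Subtype.val ho) hxv
    have hμ : B.θ (q₁ μ) = v := congrArg Subtype.val ho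
    have h1 := hP _ (inv_mem hq) _ (hq₁Q μ)
    rw [hd₂, hd₁, B.theta_inv D hq, hθ, hμ, B.onQ_inv D hq, hθ] at h1
    have hval : X₂.j (B.S x + τ x) + P x v = ((D.onQ ((s x)⁻¹ * E.C.e μ))⁻¹ + X₂.j T⁻¹)⁻¹ := by
      rw [h1, map_add, hτ, QExt.tr]
      ring
    rw [hval, ← hTτ]
    have hξT : D.onQ ((s x)⁻¹ * E.C.e μ) + X₂.J (D.onQ ((s x)⁻¹ * E.C.e μ)) = X₂.j T := by
      rw [hT, D.onQ_mul_e (inv_mem hq), B.onQ_inv D hq]
      show X₂.tr _ = _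
      rw [X₂.tr_add, X₂.tr_add, X₂.tr_j, X₂.tr_j, add_zero, add_zero]
    set ξ := D.onQ ((s x)⁻¹ * E.C.e μ)
    have hξ : ξ ≠ 0 := fun e => hT0 (X₂.j.injective (by rw [← hξT, e, map_zero, map_zero, add_zero]))
    have hξ' : X₂.J ξ ≠ 0 := (map_ne_zero X₂.J).2 hξ
    have hT' : X₂.j T ≠ 0 := (map_ne_zero X₂.j).2 hT0
    rw [map_mul, map_inv₀ X₂.J, map_add, map_inv₀ X₂.J, X₂.J_j, map_inv₀]
    have e : (ξ⁻¹ + (X₂.j T)⁻¹) * ((X₂.J ξ)⁻¹ + (X₂.j T)⁻¹) = (X₂.j T * X₂.j T)⁻¹ := by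
      field_simp
      linear_combination X₂.j T * hξT + X₂.j T * X₂.j T * CharTwo.two_eq_zero (R := K)
    rw [← _root_.mul_inv, e, inv_inv]
  exact ⟨{ P := P, S := B.S, τ := τ, ψ := Φ.ψ, c := Φ.c, ζ := B.ζ, hζ := B.hζ, hζj := B.hζj, hψ := Φ.hψ,
           form := Φ.form, one := Φ.one, S_ne := fun v hv => B.S_ne hv, τ_zero := hτ0, τ_ζ := hτζ, self := hself,
           anti := hanti, trace := htr, assoc := hassoc, P_ζ := hPζ,
           scale := fun y hy => by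
             obtain ⟨γ, rfl⟩ := B.iota_surj y hy
             exact ⟨γ, γ.ne_zero, fun u v => ⟨B.S_kconj γ u, hPk γ u v⟩⟩
           scale_surj := fun γ hγ => ⟨B.iota (Units.mk0 γ hγ), B.iota_ne _, fun u => B.S_kconj _ u⟩
           star := hstar }, rfl, hτ', hP⟩

/-- The coordinates of the unital. -/
theorem exists_herm (hQ2 : IsPGroup 2 Q) (hna : ∃ x ∈ Q, ∃ y ∈ Q, x * y ≠ y * x) (Φ : QForm E D.w X₂) :
    Nonempty (HermData E X₂) := by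
  classical
  have H := E.hyp
  have hrs : E.r = E.s := r_eq_s E hrz
  obtain ⟨C, hCS, hCτ, hCP⟩ := exists_cocdata D hQ2 hna Φ
  set B := Φ.B
  -- choice of the orientation
  obtain ⟨φ, hφJ, hφj, hφP⟩ : ∃ φ : K ≃+* K, (∀ x, φ (X₂.J x) = X₂.J (φ x)) ∧ (∀ y, φ (X₂.j y) = X₂.j y) ∧
      ∀ x y, C.P x y = φ x * X₂.J (φ y) := by
    rcases C.P_eq with e | e
    · exact ⟨RingEquiv.refl K, fun x => rfl, fun y => rfl, e⟩
    · refine ⟨RingEquiv.ofBijective X₂.J (Function.Involutive.bijective X₂.J_J), fun x => rfl, X₂.J_j, fun x y => ?_⟩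
      show _ = X₂.J x * X₂.J (X₂.J y)
      rw [e, X₂.J_J]
  let θ : G → K := fun x => φ (B.θ x)
  have hN : ∀ v, φ v * X₂.J (φ v) = X₂.j (B.S v) := fun v => by
    rw [← hφJ, ← map_mul, ← C.S_eq, hφj, hCS]
  have hnorm : ∀ x ∈ Q, D.onQ x + X₂.J (D.onQ x) = θ x * X₂.J (θ x) := fun x hx => by
    show X₂.tr _ = _
    rw [hN, ← hCS, ← C.τ_eq, hCτ x hx]
  have hmul : ∀ x ∈ Q, ∀ y ∈ Q, D.onQ (x * y) = D.onQ x + D.onQ y + θ x * X₂.J (θ y) := fun x hx y hy => by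
    rw [hCP x hx y hy, hφP]
  have hθm : ∀ x ∈ Q, ∀ y ∈ Q, θ (x * y) = θ x + θ y := fun x hx y hy => by
    show φ _ = φ _ + φ _
    rw [B.add x hx y hy, map_add]
  have hθe : ∀ y, θ (E.C.e y) = 0 := fun y => by show φ _ = 0; rw [B.theta_e D, map_zero]
  have eQ : ∀ y, E.C.e y ∈ Q := fun y => zGrp_le H (E.C.e_mem y)
  have hinj : ∀ x ∈ Q, ∀ y ∈ Q, θ x = θ y → D.onQ x = D.onQ y → x = y := fun x hx y hy h1 h2 => by
    obtain ⟨α, rfl⟩ := B.exists_rep D hx hy (φ.injective h1)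
    rw [D.onQ_mul_e hx, left_eq_add, map_eq_zero] at h2
    rw [h2, e_zero E.C, mul_one]
  have hsurj : ∀ u η, η + X₂.J η = u * X₂.J u → ∃ x ∈ Q, θ x = u ∧ D.onQ x = η := by
    intro u η h
    obtain ⟨x, hx, hθx⟩ := B.surj (φ.symm u)
    have hθx' : θ x = u := by show φ _ = u; rw [hθx, RingEquiv.apply_symm_apply]
    obtain ⟨α, hα⟩ := X₂.tr_eq_zero (x := D.onQ x + η) (by
      rw [X₂.tr_add]
      show D.onQ x + X₂.J (D.onQ x) + (η + X₂.J η) = 0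
      rw [hnorm x hx, hθx', h, CharTwo.add_self_eq_zero])
    exact ⟨x * E.C.e α, mul_mem hx (eQ α), by rw [hθm x hx _ (eQ α), hθx', hθe, add_zero],
      by rw [D.onQ_mul_e hx, hα, ← add_assoc, CharTwo.add_self_eq_zero, zero_add]⟩
  -- the product `t s t` on a point with coordinate of norm one
  have htst : ∀ p ∈ Q, θ p * X₂.J (θ p) = 1 → ∃ y ∈ Q, (t * E.C.e 1 * t) • (p • (t • a)) = y • (t • a) ∧
      θ y = θ p / D.onQ p ∧ D.onQ y = D.onQ p / X₂.J (D.onQ p) := by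
    intro p hp hpn
    have hpz : p⁻¹ ∉ zGrp G a := fun h => by
      have h0 : θ p = 0 := by
        show φ _ = 0
        rw [(B.ker p hp).2 (inv_mem_iff.1 h), map_zero]
      rw [h0, zero_mul] at hpn
      exact zero_ne_one hpn
    have hinv : D.onQ p⁻¹ = D.onQ p + 1 := by
      rw [B.onQ_inv D hp, ← hN, hpn]
    have hη : D.onQ p + X₂.J (D.onQ p) = 1 := by rw [hnorm p hp, hpn]
    obtain ⟨T, hT0, hT, hq⟩ := D.swap_point (inv_mem hp) hpz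
    have hT1 : T = 1 := X₂.j.injective (by
      rw [hT, hinv, X₂.tr_add, map_one, ← map_one X₂.j, X₂.tr_j, add_zero]
      exact hη.trans (map_one X₂.j).symm)
    obtain ⟨q₁, hq₁, -, -, -, he₂, hd₁, hd₂⟩ := hq 0
    rw [inv_inv, e_zero E.C, mul_one, hT1, inv_one] at he₂ hd₂
    rw [map_one] at hd₂
    have hξ : D.onQ p ≠ 0 := fun e => by rw [e, map_zero, add_zero] at hη; exact zero_ne_one hη
    have hd₁' : D.onQ q₁ = D.onQ p := by
      rw [hd₁, hinv, map_add, map_one]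
      linear_combination hη + (1 - D.onQ p) * CharTwo.two_eq_zero (R := K) - 0
    refine ⟨p * q₁, mul_mem hp hq₁, he₂, ?_, ?_⟩
    · have h1 := hmul p hp q₁ hq₁
      rw [hd₁', CharTwo.add_self_eq_zero, zero_add, hd₂] at h1
      have h2 := congrArg X₂.J h1
      rw [map_inv₀ X₂.J, map_add, map_inv₀ X₂.J, map_one, map_mul, X₂.J_J] at h2
      rw [hθm p hp q₁ hq₁]
      have hp0 : θ p ≠ 0 := fun e => by rw [e, zero_mul] at hpn; exact zero_ne_one hpn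
      have hξ' : X₂.J (D.onQ p) ≠ 0 := (map_ne_zero X₂.J).2 hξ
      have e1 : (X₂.J (D.onQ p))⁻¹ + 1 = D.onQ p / X₂.J (D.onQ p) := by
        field_simp
        linear_combination -hη + (X₂.J (D.onQ p) + 0) * CharTwo.two_eq_zero (R := K)
      rw [e1, inv_div] at h2
      field_simp at h2 ⊢
      linear_combination (D.onQ p * θ q₁) * (-hpn) - θ p * h2 + θ p * hη
    · rw [hd₂]
      have hξ' : X₂.J (D.onQ p) ≠ 0 := (map_ne_zero X₂.J).2 hξ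
      have e1 : (D.onQ p)⁻¹ + 1 = X₂.J (D.onQ p) / D.onQ p := by
        field_simp
        linear_combination -hη + D.onQ p * CharTwo.two_eq_zero (R := K)
      rw [e1, inv_div]
  -- the involution `t` on a point with coordinate of norm one
  have ht1 : ∀ x ∈ Q, θ x * X₂.J (θ x) = 1 → ∃ y ∈ Q, t • (x • (t • a)) = y • (t • a) ∧
      θ y = θ x / X₂.J (D.onQ x) ∧ D.onQ y = (D.onQ x)⁻¹ := by
    intro x hx hxn
    have hη : D.onQ x + X₂.J (D.onQ x) = 1 := by rw [hnorm x hx, hxn]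
    have hx1 : D.onQ x ≠ 0 := fun e => by rw [e, map_zero, add_zero] at hη; exact zero_ne_one hη
    have hp : x * E.C.e 1 ∈ Q := mul_mem hx (eQ 1)
    have hpd : D.onQ (x * E.C.e 1) = X₂.J (D.onQ x) := by
      rw [D.onQ_mul_e hx, map_one]
      linear_combination -hη + D.onQ x * CharTwo.two_eq_zero (R := K)
    have hpθ : θ (x * E.C.e 1) = θ x := by rw [hθm x hx _ (eQ 1), hθe, add_zero]
    obtain ⟨y, hy, he, hyθ, hyd⟩ := htst _ hp (by rw [hpθ, hxn])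
    rw [hpd, hpθ] at hyθ
    rw [hpd, X₂.J_J] at hyd
    refine ⟨y * E.C.e 1, mul_mem hy (eQ 1), ?_, ?_, ?_⟩
    · have hss : E.C.e 1 * E.C.e 1 = 1 := by rw [← E.C.e_add, CharTwo.add_self_eq_zero, e_zero E.C]
      have hrel : t * E.C.e 1 * t = E.C.e 1 * t * E.C.e 1 := by
        have h := E.eq
        rw [hrs, inv_eq_of_mul_eq_one_right E.hs.2.2] at h
        rwa [E.C.e_one]
      calc t • (x • (t • a)) = (E.C.e 1 * (t * E.C.e 1 * t) * E.C.e 1) • (x • (t • a)) := by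
            rw [hrel, show E.C.e 1 * (E.C.e 1 * t * E.C.e 1) * E.C.e 1 = E.C.e 1 * E.C.e 1 * t * (E.C.e 1 * E.C.e 1)
              by group, hss, one_mul, mul_one]
        _ = E.C.e 1 • ((t * E.C.e 1 * t) • ((x * E.C.e 1) • (t • a))) := by
            rw [← zGrp_central H (E.C.e_mem 1) hx, mul_smul, mul_smul, mul_smul (E.C.e 1) x]
        _ = _ := by rw [he, ← mul_smul, zGrp_central H (E.C.e_mem 1) hy]
    · rw [hθm y hy _ (eQ 1), hθe, add_zero, hyθ]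
    · rw [D.onQ_mul_e hy, hyd, map_one]
      field_simp
      linear_combination hη
  refine ⟨{ θ := θ, Δ := D.onQ, θ_mul := hθm, Δ_mul := hmul, norm := hnorm, inj := hinj, surj := hsurj,
            t_act := fun x hx hx1 => ?_ }⟩
  by_cases hxz : x ∈ zGrp G a
  · obtain ⟨y, rfl⟩ := E.C.e_surj x hxz
    have hy : y ≠ 0 := fun e => hx1 (by rw [e, e_zero E.C])
    exact ⟨E.C.e y⁻¹, eQ _, t_e E hrz hy, by rw [hθe, hθe, zero_div], by rw [D.onQ_e, D.onQ_e, map_inv₀]⟩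
  have hx0 : B.θ x ≠ 0 := fun h => hxz ((B.ker x hx).1 h)
  set γ : Fˣ := Units.mk0 (B.S (B.θ x))⁻¹ (inv_ne_zero (B.S_ne hx0)) with hγ
  set k := E.C.kap γ with hk
  have hkK := E.C.kap_mem γ
  have hkb : k • (t • a) = t • a := mem_stabilizer_iff.1 (kGrp_le_dGrp H hkK).2
  have hkQ : k * x * k⁻¹ ∈ Q := H.setup.conj_mem _ (kGrp_le_dGrp H hkK).1 x hx
  have hθk : ∀ v ∈ Q, θ (k * v * k⁻¹) = X₂.j (B.iota γ) * θ v := fun v hv => by
    show φ _ = _ * φ _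
    rw [B.kconj γ v hv, map_mul, hφj]
  have hiota : X₂.j (B.iota γ) * X₂.j (B.iota γ) = X₂.j γ := by
    have h := C.S_eq (X₂.j (B.iota γ) * 1)
    rw [hCS, B.S_kconj, Φ.one, mul_one, mul_one, X₂.J_j] at h
    exact h.symm
  obtain ⟨y, hy, he, hyθ, hyd⟩ := ht1 _ hkQ (by
    rw [hθk x hx, map_mul, X₂.J_j, mul_mul_mul_comm, hiota, hN, ← map_mul, hγ, Units.val_mk0,
      inv_mul_cancel₀ (B.S_ne hx0), map_one])
  refine ⟨k * y * k⁻¹, H.setup.conj_mem _ (kGrp_le_dGrp H hkK).1 y hy, ?_, ?_, ?_⟩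
  · have htk : t * k = k⁻¹ * t := by
      rw [← t_k H hkK, mul_assoc (t * k), H.setup.mul_self, mul_one]
    rw [mul_smul, mul_smul, inv_smul_eq_iff.2 hkb.symm, ← mul_smul t, htk, mul_smul] at he
    rw [mul_smul, mul_smul, inv_smul_eq_iff.2 hkb.symm, ← he, smul_inv_smul]
  · rw [hθk y hy, hyθ, hθk x hx, D.onQ_k γ hx, map_mul, X₂.J_j]
    have h1 : X₂.j (γ : F) ≠ 0 := (map_ne_zero X₂.j).2 γ.ne_zero
    rw [mul_div_assoc', ← mul_assoc, hiota, mul_div_mul_left _ _ h1]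
  · rw [D.onQ_k γ hy, hyd, D.onQ_k γ hx, mul_inv, ← mul_assoc,
      mul_inv_cancel₀ ((map_ne_zero X₂.j).2 γ.ne_zero), one_mul]

end Cfsg.Agent.Transfer.RankOne
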