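import Mathlib

/-!
An automorphism of prime order of a cyclic group of prime power order fixes a subgroup of index at most that prime.
-/

set_option autoImplicit false
set_option linter.unusedSectionVars false

namespace Cfsg.Agent.Transfer.RankOne

universe u

variable {G : Type u} [Group G] [Finite G]

theorem cyclic_fix {p e : ℕ} (hp : p.Prime) (hp2 : p ≠ 2) {x : G} (hx : x ^ p = 1) {P : Subgroup G}
    (hc : IsCyclic P) (hn : ∀ g ∈ P, x * g * x⁻¹ ∈ P) (hcard : Nat.card P = p ^ e) :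
    p ^ (e - 1) ∣ Nat.card ↥(P ⊓ Subgroup.centralizer ({x} : Set G)) := by
  haveI := Fact.mk hp
  rcases Nat.lt_or_ge e 2 with he | he
  · rw [show e - 1 = 0 by omega, pow_zero]; exact one_dvd _
  obtain ⟨g, hg⟩ := hc.exists_generator
  have hog : orderOf (g : G) = p ^ e := by
    rw [Subgroup.orderOf_coe, orderOf_eq_card_of_forall_mem_zpowers hg, hcard]
  obtain ⟨j, hj'⟩ := (mem_powers_iff_mem_zpowers (x := g)
    (y := (⟨x * g * x⁻¹, hn g g.2⟩ : P))).2 (hg _)
  have hj : x * (g : G) * x⁻¹ = (g : G) ^ j := by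
    simpa using (congrArg Subtype.val hj').symm
  have hit : ∀ i : ℕ, x ^ i * (g : G) * (x ^ i)⁻¹ = (g : G) ^ (j ^ i) := by
    intro i
    induction i with
    | zero => simp
    | succ i ih =>
      calc x ^ (i + 1) * (g : G) * (x ^ (i + 1))⁻¹ = x * (x ^ i * g * (x ^ i)⁻¹) * x⁻¹ := by
            rw [pow_succ']; group
        _ = x * ((g : G) ^ (j ^ i)) * x⁻¹ := by rw [ih]
        _ = _ := by rw [← conj_pow, hj, ← pow_mul, pow_succ']
  have hjp : (g : G) ^ (j ^ p) = g := by
    rw [← hit, hx]; simp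
  have hmod : j ^ p ≡ 1 [MOD p ^ e] := by
    rw [← hog, ← pow_eq_pow_iff_modEq, hjp, pow_one]
  have hgt : 1 < p ^ e := Nat.one_lt_pow (by omega) hp.one_lt
  have hj0 : j ≠ 0 := by
    rintro rfl
    rw [zero_pow hp.ne_zero] at hmod
    have := Nat.le_of_dvd one_pos ((Nat.modEq_iff_dvd' (by omega)).1 hmod)
    omega
  have hj1 : j ≡ 1 [MOD p] := by
    have h1 : ((j ^ p : ℕ) : ZMod p) = ((1 : ℕ) : ZMod p) :=
      (ZMod.natCast_eq_natCast_iff _ _ _).2 (hmod.of_dvd (dvd_pow_self p (by omega)))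
    rw [Nat.cast_pow, ZMod.pow_card] at h1
    exact (ZMod.natCast_eq_natCast_iff _ _ _).1 h1
  have hd : p ^ (e - 1) ∣ j - 1 := by
    rcases Nat.lt_or_ge 1 j with h | h
    · have h1 : p ^ e ∣ j ^ p - 1 := (Nat.modEq_iff_dvd' (Nat.one_le_pow _ _ (by omega))).1 hmod.symm
      have hne : j ^ p - 1 ≠ 0 := by
        have := Nat.one_lt_pow hp.ne_zero h
        omega
      have hdiv : p ∣ j - 1 := (Nat.modEq_iff_dvd' (by omega)).1 hj1.symm
      have hnd : ¬ p ∣ j := fun hd => by
        have := Nat.dvd_sub hd hdiv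
        rw [show j - (j - 1) = 1 by omega] at this
        exact hp.one_lt.ne' (Nat.dvd_one.1 this)
      have h2 := padicValNat.pow_sub_pow (hp.odd_of_ne_two hp2) (x := j) (y := 1) h hdiv hnd hp.ne_zero
      rw [one_pow, padicValNat_self] at h2
      have h3 := (padicValNat_dvd_iff_le hne).1 h1
      exact (padicValNat_dvd_iff_le (by omega)).2 (by omega)
    · rw [show j - 1 = 0 by omega]; exact dvd_zero _
  obtain ⟨k, hk⟩ := hd
  have hfix : ((g : G) ^ p) ∈ P ⊓ Subgroup.centralizer ({x} : Set G) := by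
    refine ⟨pow_mem g.2 p, Subgroup.mem_centralizer_singleton_iff.2 ?_⟩
    have h1 : x * (g : G) ^ p * x⁻¹ = (g : G) ^ p := by
      rw [← conj_pow, hj, ← pow_mul, show j * p = p ^ e * k + p by
        rw [show p ^ e = p ^ (e - 1) * p by rw [← pow_succ, Nat.sub_add_cancel (by omega)],
          mul_right_comm, ← hk, ← Nat.succ_mul, show (j - 1).succ = j by omega],
        pow_add, ← hog, pow_mul, pow_orderOf_eq_one, one_pow, one_mul]
    exact (mul_inv_eq_iff_eq_mul.1 h1).symm
  have hord : orderOf ((g : G) ^ p) = p ^ (e - 1) := by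
    have hpe : p ∣ p ^ e := dvd_pow_self p (by omega)
    rw [orderOf_pow' _ hp.ne_zero, hog, Nat.gcd_eq_right hpe]
    exact Nat.div_eq_of_eq_mul_left hp.pos (by rw [← pow_succ, Nat.sub_add_cancel (by omega)])
  rw [← hord, ← Nat.card_zpowers]
  exact Subgroup.card_dvd_of_le (Subgroup.zpowers_le.2 hfix)

end Cfsg.Agent.Transfer.RankOne
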