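import Cfsg.Agent.Lib.Transfer.RankOne.EigenNum

/-!
The group form: an element of order `2 ^ p - 1` acting without fixed points on an elementary abelian group of order
`r ^ p` and conjugate to its square.
-/

set_option autoImplicit false
set_option linter.unusedSectionVars false
set_option linter.style.haveILetI false

namespace Cfsg.Agent.Transfer.RankOne

universe u

variable {G : Type u} [Group G] [Finite G]

theorem mersenne_group {p r : ℕ} [Fact r.Prime] (hp : p.Prime) {Z : Subgroup G}
    (hab : ∀ y ∈ Z, ∀ z ∈ Z, y * z = z * y) (hexp : ∀ z ∈ Z, z ^ r = 1) (hcard : Nat.card Z = r ^ p)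
    {k h : G} (hkZ : ∀ z ∈ Z, k * z * k⁻¹ ∈ Z) (hhZ : ∀ z ∈ Z, h * z * h⁻¹ ∈ Z)
    (hk : h * k * h⁻¹ = k ^ 2) (hkM : k ^ (2 ^ p - 1) = 1)
    (hfpf : ∀ i, 0 < i → i < 2 ^ p - 1 → ∀ z ∈ Z, k ^ i * z = z * k ^ i → z = 1) :
    ∃ i < p, r ≡ 2 ^ i [MOD 2 ^ p - 1] := by
  classical
  letI : CommGroup Z := { (inferInstance : Group Z) with mul_comm := fun y z => Subtype.ext (hab _ y.2 _ z.2) }
  haveI : Module (ZMod r) (Additive Z) := AddCommGroup.zmodModule (n := r) (by
    intro z
    exact congrArg Additive.ofMul (show (Additive.toMul z : Z) ^ r = 1 from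
      Subtype.ext (by rw [Subgroup.coe_pow]; exact hexp _ (Additive.toMul z).2)))
  haveI : Module.Finite (ZMod r) (Additive Z) := Module.Finite.of_finite
  have hfr : Module.finrank (ZMod r) (Additive Z) = p := by
    have h := Module.natCard_eq_pow_finrank (K := ZMod r) (V := Additive Z)
    rw [Nat.card_zmod, show Nat.card (Additive Z) = r ^ p from hcard] at h
    exact (Nat.pow_right_injective (Fact.out : r.Prime).two_le h).symm
  let cz : ∀ g : G, (∀ z ∈ Z, g * z * g⁻¹ ∈ Z) → (Additive Z →ₗ[ZMod r] Additive Z) := fun g hg =>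
    (MonoidHom.toAdditive (MonoidHom.mk' (fun z : Z => (⟨g * z * g⁻¹, hg _ z.2⟩ : Z)) fun y z => Subtype.ext (by
      show g * ((y : G) * z) * g⁻¹ = g * y * g⁻¹ * (g * z * g⁻¹); group))).toZModLinearMap r
  set b := (Module.finBasis (ZMod r) (Additive Z)).reindex (finCongr hfr)
  set e := LinearMap.toMatrixAlgEquiv b with he
  have hK : ∀ (i : ℕ) (z : Z), (((cz k hkZ ^ i) (Additive.ofMul z)).toMul : G) = k ^ i * z * (k ^ i)⁻¹ := by
    intro i
    induction i with
    | zero => intro z; simp
    | succ i ih =>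
      intro z
      rw [pow_succ' (cz k hkZ), Module.End.mul_apply]
      show k * ((((cz k hkZ ^ i) (Additive.ofMul z)).toMul : Z) : G) * k⁻¹ = _
      rw [ih, pow_succ']; group
  have hH : ∀ z : Additive Z, ((cz h hhZ z).toMul : G) = h * (z.toMul : G) * h⁻¹ := fun _ => rfl
  refine mersenne_module hp (e (cz k hkZ)) (e (cz h hhZ)) ?_ ?_ ?_ ?_
  · refine IsUnit.map e ((Module.End.isUnit_iff _).2 (Finite.injective_iff_bijective.1 fun y z hyz => ?_))
    have h1 : h * (y.toMul : G) * h⁻¹ = h * (z.toMul : G) * h⁻¹ := congrArg (fun w : Additive Z => (w.toMul : G)) hyz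
    exact Additive.toMul.injective (Subtype.ext (mul_left_cancel (mul_right_cancel h1)))
  · rw [← map_pow, ← map_mul, ← map_mul]
    refine congrArg e (LinearMap.ext fun z => Additive.toMul.injective (Subtype.ext ?_))
    rw [Module.End.mul_apply, Module.End.mul_apply, hH]
    show h * (k * (z.toMul : G) * k⁻¹) * h⁻¹ = _
    rw [show cz h hhZ z = Additive.ofMul (cz h hhZ z).toMul from rfl, hK, hH, ← hk]
    group
  · rw [← map_pow, ← map_one e]
    refine congrArg e (LinearMap.ext fun z => Additive.toMul.injective (Subtype.ext ?_))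
    rw [show z = Additive.ofMul z.toMul from rfl, hK, hkM, one_mul, inv_one, mul_one]
    rfl
  · intro i hi hiM
    rw [← map_pow, ← map_one e, ← map_sub]
    refine IsUnit.map e ((Module.End.isUnit_iff _).2 (Finite.injective_iff_bijective.1 ?_))
    refine (injective_iff_map_eq_zero _).2 fun z hz => ?_
    rw [LinearMap.sub_apply, Module.End.one_apply, sub_eq_zero] at hz
    have h1 := congrArg (fun w : Additive Z => (w.toMul : G)) hz
    rw [show z = Additive.ofMul z.toMul from rfl, hK] at h1
    exact Additive.toMul.injective (Subtype.ext (hfpf i hi hiM _ z.toMul.2 (mul_inv_eq_iff_eq_mul.1 h1)))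

end Cfsg.Agent.Transfer.RankOne
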