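import Mathlib

/-!
A matrix of size `p` over the field of `r` elements that has no eigenvalue of smaller order than `2 ^ p - 1` and is
conjugate to its square: `r` is a power of `2` modulo `2 ^ p - 1`.
-/

set_option autoImplicit false
set_option linter.unusedSectionVars false

namespace Cfsg.Agent.Transfer.RankOne

theorem mersenne_module {p r : ℕ} [Fact r.Prime] (hp : p.Prime)
    (A B : Matrix (Fin p) (Fin p) (ZMod r)) (hB : IsUnit B) (hconj : B * A = A ^ 2 * B)
    (hA : A ^ (2 ^ p - 1) = 1) (hfree : ∀ i, 0 < i → i < 2 ^ p - 1 → IsUnit (A ^ i - 1)) :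
    ∃ i < p, r ≡ 2 ^ i [MOD 2 ^ p - 1] := by
  classical
  set L := AlgebraicClosure (ZMod r)
  haveI : NeZero p := ⟨hp.ne_zero⟩
  set f := (algebraMap (ZMod r) L).mapMatrix (m := Fin p) with hf
  have hne : A.charpoly.map (algebraMap (ZMod r) L) ≠ 0 :=
    (Polynomial.map_ne_zero_iff (algebraMap (ZMod r) L).injective).2 A.charpoly_monic.ne_zero
  have hspec : ∀ l : L, l ∈ spectrum L (f A) ↔ (A.charpoly.map (algebraMap (ZMod r) L)).IsRoot l := by
    intro l
    rw [Matrix.mem_spectrum_iff_isRoot_charpoly, hf, RingHom.mapMatrix_apply, Matrix.charpoly_map]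
  obtain ⟨l, hl⟩ : ∃ l : L, (A.charpoly.map (algebraMap (ZMod r) L)).IsRoot l := by
    refine IsAlgClosed.exists_root _ ?_
    rw [Polynomial.degree_eq_natDegree hne, Polynomial.natDegree_map, A.charpoly_natDegree_eq_dim,
      Fintype.card_fin, Ne, Nat.cast_eq_zero]
    exact hp.ne_zero
  have hl' : l ∈ spectrum L (f A) := (hspec l).2 hl
  have hM : 1 < 2 ^ p - 1 := by
    have h : 2 ^ 2 ≤ 2 ^ p := Nat.pow_le_pow_right (by norm_num) hp.two_le
    omega
  have hone : l ^ (2 ^ p - 1) = 1 := by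
    have h := spectrum.pow_mem_pow (f A) (2 ^ p - 1) hl'
    rw [← map_pow, hA, map_one, spectrum.one_eq, Set.mem_singleton_iff] at h
    exact h
  have hprim : IsPrimitiveRoot l (2 ^ p - 1) := by
    refine IsPrimitiveRoot.mk_of_lt l (by omega) hone fun i hi hiM h => ?_
    have h1 := spectrum.pow_mem_pow (f A) i hl'
    rw [h, spectrum.mem_iff, map_one] at h1
    refine h1 ?_
    rw [← neg_sub, IsUnit.neg_iff, ← map_pow, ← map_one f, ← map_sub]
    exact (hfree i hi hiM).map f
  obtain ⟨u, hu⟩ := hB.map f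
  have hsq : ∀ c : L, c ∈ spectrum L (f A) → c ^ 2 ∈ spectrum L (f A) := by
    intro c hc
    have e : (u : Matrix (Fin p) (Fin p) L) * f A * (↑u⁻¹ : Matrix (Fin p) (Fin p) L) = f A ^ 2 := by
      rw [hu, ← map_mul, hconj, map_mul, map_pow, ← hu, Units.mul_inv_cancel_right]
    have h := spectrum.pow_mem_pow (f A) 2 hc
    rwa [← e, spectrum.units_conjugate] at h
  have hpow : ∀ i : ℕ, l ^ (2 ^ i) ∈ spectrum L (f A) := by
    intro i
    induction i with
    | zero => rwa [pow_zero, pow_one]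
    | succ i ih => rw [pow_succ, pow_mul]; exact hsq _ ih
  have hlr : (A.charpoly.map (algebraMap (ZMod r) L)).IsRoot (l ^ r) := by
    have h1 : Polynomial.aeval l A.charpoly = 0 := by
      rw [Polynomial.aeval_def, ← Polynomial.eval_map]; exact hl
    rw [Polynomial.IsRoot.def, Polynomial.eval_map, ← Polynomial.aeval_def]
    have h2 := congrArg (· ^ r) h1
    simp only [zero_pow (Fact.out : r.Prime).ne_zero] at h2
    rwa [← map_pow, ← ZMod.expand_card, Polynomial.expand_aeval] at h2
  set R := (A.charpoly.map (algebraMap (ZMod r) L)).roots.toFinset with hR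
  have hmemR : ∀ c : L, c ∈ R ↔ (A.charpoly.map (algebraMap (ZMod r) L)).IsRoot c := fun c => by
    rw [hR, Multiset.mem_toFinset, Polynomial.mem_roots hne]
  have hlt : ∀ i < p, 2 ^ i < 2 ^ p - 1 := fun i hi => by
    have h1 : 2 ^ (i + 1) ≤ 2 ^ p := Nat.pow_le_pow_right (by norm_num) hi
    rw [pow_succ] at h1
    omega
  have himg : (Finset.range p).image (fun i => l ^ (2 ^ i)) = R := by
    refine Finset.eq_of_subset_of_card_le (fun c hc => ?_) ?_
    · obtain ⟨i, -, rfl⟩ := Finset.mem_image.1 hc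
      exact (hmemR _).2 ((hspec _).1 (hpow i))
    · rw [Finset.card_image_of_injOn fun i hi j hj h => by
        exact Nat.pow_right_injective le_rfl (hprim.pow_inj (hlt i (Finset.mem_range.1 hi))
          (hlt j (Finset.mem_range.1 hj)) h), Finset.card_range]
      refine (Multiset.toFinset_card_le _).trans ((Polynomial.card_roots' _).trans ?_)
      rw [Polynomial.natDegree_map, A.charpoly_natDegree_eq_dim, Fintype.card_fin]
  obtain ⟨i, hi, he⟩ := Finset.mem_image.1 (himg ▸ (hmemR _).2 hlr : l ^ r ∈ (Finset.range p).image fun i => l ^ (2 ^ i))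
  refine ⟨i, Finset.mem_range.1 hi, ?_⟩
  have hfin : IsOfFinOrder l := isOfFinOrder_iff_pow_eq_one.2 ⟨_, by omega, hone⟩
  rw [hprim.eq_orderOf, ← hfin.pow_eq_pow_iff_modEq]
  exact he.symm

end Cfsg.Agent.Transfer.RankOne
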