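import Mathlib

/-!
Elements of `SL₂` of a finite field of characteristic two without an eigenvector: the eigenvalue and the fixed point
in the quadratic extension, and their centralisers.
-/

set_option autoImplicit false
set_option linter.unusedSectionVars false
set_option linter.style.haveILetI false

namespace Cfsg.Agent.Transfer.RankOne

open Matrix Polynomial
open scoped MatrixGroups

/-- A quadratic extension with its involutive automorphism. -/
structure QExt (F E : Type) [Field F] [Field E] where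
  j : F →+* E
  J : E →+* E
  card : Nat.card E = Nat.card F ^ 2
  hJ : ∀ x, J x = x ^ Nat.card F

variable {F : Type} [Field F] [Finite F] [CharP F 2]

/-- A quadratic extension exists. -/
theorem exists_qext (F : Type) [Field F] [Finite F] [CharP F 2] :
    ∃ (E : Type) (_ : Field E) (_ : Finite E) (_ : CharP E 2), Nonempty (QExt F E) := by
  haveI := Fintype.ofFinite F
  haveI : Fact (Nat.Prime 2) := ⟨Nat.prime_two⟩
  obtain ⟨n, -, hn⟩ := FiniteField.card F 2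
  let j : F →+* FiniteField.Extension F 2 2 := algebraMap F _
  haveI hE : CharP (FiniteField.Extension F 2 2) 2 := charP_of_injective_ringHom j.injective 2
  refine ⟨FiniteField.Extension F 2 2, inferInstance, inferInstance, hE,
    ⟨⟨j, iterateFrobenius _ 2 n, FiniteField.natCard_extension F 2 2, fun x => ?_⟩⟩⟩
  rw [iterateFrobenius_def, Nat.card_eq_fintype_card, hn]

variable {E : Type} [Field E] [Finite E] [CharP E 2] (X₂ : QExt F E)

namespace QExt

theorem J_j (y : F) : X₂.J (X₂.j y) = X₂.j y := by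
  haveI := Fintype.ofFinite F
  rw [X₂.hJ, ← map_pow, Nat.card_eq_fintype_card, FiniteField.pow_card]

theorem J_J (x : E) : X₂.J (X₂.J x) = x := by
  haveI := Fintype.ofFinite E
  rw [X₂.hJ, X₂.hJ, ← pow_mul, ← pow_two, ← X₂.card, Nat.card_eq_fintype_card, FiniteField.pow_card]

theorem fixed {x : E} (h : X₂.J x = x) : ∃ y, X₂.j y = x := by
  classical
  haveI := Fintype.ofFinite F
  by_contra hcon
  push Not at hcon
  have h1 : 1 < Fintype.card F := Fintype.one_lt_card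
  have h2 := Polynomial.card_roots' (Polynomial.X ^ Fintype.card F - Polynomial.X : E[X])
  rw [FiniteField.X_pow_card_sub_X_natDegree_eq _ h1] at h2
  have hne : (Polynomial.X ^ Fintype.card F - Polynomial.X : E[X]) ≠ 0 :=
    FiniteField.X_pow_card_sub_X_ne_zero _ h1
  have h3 : (insert x (Finset.univ.image X₂.j)).card ≤
      (Polynomial.X ^ Fintype.card F - Polynomial.X : E[X]).roots.toFinset.card := by
    refine Finset.card_le_card fun y hy => Multiset.mem_toFinset.2 ((Polynomial.mem_roots hne).2 ?_)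
    rw [Finset.mem_insert, Finset.mem_image] at hy
    simp only [IsRoot.def, eval_sub, eval_pow, eval_X, sub_eq_zero]
    rw [← Nat.card_eq_fintype_card, ← X₂.hJ]
    rcases hy with rfl | ⟨y, -, rfl⟩
    · exact h
    · exact X₂.J_j y
  rw [Finset.card_insert_of_notMem (by simpa using hcon),
    Finset.card_image_of_injective _ X₂.j.injective, Finset.card_univ] at h3
  have h4 := Multiset.toFinset_card_le (Polynomial.X ^ Fintype.card F - Polynomial.X : E[X]).roots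
  omega

theorem J_ne {x : E} (h : ∀ y, X₂.j y ≠ x) : X₂.J x ≠ x := fun e => by
  obtain ⟨y, hy⟩ := X₂.fixed e
  exact h y hy

/-- A quadratic equation has a root in the extension. -/
theorem exists_root (t : F) : ∃ lam : E, lam * lam + X₂.j t * lam + 1 = 0 := by
  classical
  haveI := Fintype.ofFinite F
  haveI := Fintype.ofFinite E
  haveI : Fact (Nat.Prime 2) := ⟨Nat.prime_two⟩
  set f : F[X] := C 1 * Polynomial.X ^ 2 + C t * Polynomial.X + C 1 with hf
  have hd : f.natDegree = 2 := natDegree_quadratic one_ne_zero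
  by_cases hr : f.roots = 0
  · have hi : Irreducible f :=
      (irreducible_iff_roots_eq_zero_of_degree_le_three (by omega) (by omega)).2 hr
    have h1 := hi.natDegree_dvd_iff_dvd_X_pow_card_pow_sub_X.1 (by rw [hd] : f.natDegree ∣ 2)
    have h2 := Polynomial.map_dvd X₂.j h1
    rw [Polynomial.map_sub, Polynomial.map_pow, Polynomial.map_X, ← X₂.card, Nat.card_eq_fintype_card] at h2
    have hs : Splits (Polynomial.X ^ Fintype.card E - Polynomial.X : E[X]) := by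
      rw [splits_iff_card_roots, FiniteField.roots_X_pow_card_sub_X,
        FiniteField.X_pow_card_sub_X_natDegree_eq _ Fintype.one_lt_card]
      rfl
    obtain ⟨lam, hl⟩ := (hs.of_dvd (FiniteField.X_pow_card_sub_X_ne_zero _ Fintype.one_lt_card) h2).exists_eval_eq_zero
      (by rw [degree_map, degree_eq_natDegree (fun h => by rw [h, natDegree_zero] at hd; omega), hd]; norm_num)
    refine ⟨lam, ?_⟩
    simp only [hf, Polynomial.map_add, Polynomial.map_mul, Polynomial.map_pow, map_C, map_X, Polynomial.map_one, map_one, eval_add,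
      eval_mul, eval_pow, eval_C, eval_X, one_mul, eval_one] at hl
    linear_combination hl
  · obtain ⟨y, hy⟩ := Multiset.exists_mem_of_ne_zero hr
    have h := (mem_roots (fun e => by rw [e, natDegree_zero] at hd; omega)).1 hy
    refine ⟨X₂.j y, ?_⟩
    simp only [hf, IsRoot.def, eval_add, eval_mul, eval_pow, eval_C, eval_X, one_mul] at h
    rw [← map_mul, ← map_mul, ← map_add, ← map_one X₂.j, ← map_add, show y * y + t * y + 1 = 0 by linear_combination h,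
      map_zero]

variable (δ : E)

/-- The eigenvalue of a matrix on the vector `(δ, 1)`. -/
def mult (M : SL(2, F)) : E := X₂.j (M.1 1 0) * δ + X₂.j (M.1 1 1)

/-- The vector `(δ, 1)` is an eigenvector. -/
def Fixes (M : SL(2, F)) : Prop := X₂.j (M.1 0 0) * δ + X₂.j (M.1 0 1) = X₂.mult δ M * δ

variable {δ}

theorem fixes_one : X₂.Fixes δ 1 ∧ X₂.mult δ 1 = 1 := by
  have h : X₂.mult δ (1 : SL(2, F)) = 1 := by simp [mult]
  exact ⟨by rw [Fixes, h]; simp, h⟩

theorem fixes_mul {M N : SL(2, F)} (hM : X₂.Fixes δ M) (hN : X₂.Fixes δ N) :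
    X₂.Fixes δ (M * N) ∧ X₂.mult δ (M * N) = X₂.mult δ M * X₂.mult δ N := by
  unfold Fixes mult at hM
  unfold Fixes mult at hN
  simp only [Fixes, mult, Matrix.SpecialLinearGroup.coe_mul, Matrix.mul_apply, Fin.sum_univ_two, map_add, map_mul]
  constructor
  · linear_combination (X₂.j (M.1 0 0) - X₂.j (M.1 1 0) * δ) * hN + (X₂.j (N.1 1 0) * δ + X₂.j (N.1 1 1)) * hM
  · linear_combination X₂.j (M.1 1 0) * hN

theorem fixes_pow {M : SL(2, F)} (hM : X₂.Fixes δ M) (i : ℕ) :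
    X₂.Fixes δ (M ^ i) ∧ X₂.mult δ (M ^ i) = X₂.mult δ M ^ i := by
  induction i with
  | zero => simpa using X₂.fixes_one
  | succ i ih =>
    obtain ⟨h1, h2⟩ := X₂.fixes_mul ih.1 hM
    rw [pow_succ, pow_succ]
    exact ⟨h1, h2.trans (by rw [ih.2])⟩

theorem indep (hδ : ∀ y, X₂.j y ≠ δ) {x y x' y' : F} (h : X₂.j x * δ + X₂.j y = X₂.j x' * δ + X₂.j y') :
    x = x' ∧ y = y' := by
  by_cases hx : x = x'
  · subst hx; exact ⟨rfl, X₂.j.injective (add_left_cancel h)⟩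
  · refine absurd ?_ (hδ ((y' - y) / (x - x')))
    have : X₂.j (x - x') ≠ 0 := (map_ne_zero X₂.j).2 (sub_ne_zero.2 hx)
    rw [map_div₀, div_eq_iff this, map_sub, map_sub]
    linear_combination -h

theorem fixes_inj (hδ : ∀ y, X₂.j y ≠ δ) {M N : SL(2, F)} (hM : X₂.Fixes δ M) (hN : X₂.Fixes δ N)
    (h : X₂.mult δ M = X₂.mult δ N) : M = N := by
  obtain ⟨e1, e2⟩ := X₂.indep hδ h
  obtain ⟨e3, e4⟩ := X₂.indep hδ (hM.trans (h ▸ hN.symm))
  refine Subtype.ext (Matrix.ext fun i k => ?_)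
  fin_cases i <;> fin_cases k <;> assumption

theorem span (hδ : ∀ y, X₂.j y ≠ δ) (u : E) : ∃ x y : F, X₂.j x * δ + X₂.j y = u := by
  have hb : Function.Bijective fun p : F × F => X₂.j p.1 * δ + X₂.j p.2 :=
    (Nat.bijective_iff_injective_and_card _).2 ⟨fun p p' h => Prod.ext (X₂.indep hδ h).1 (X₂.indep hδ h).2,
      by rw [Nat.card_prod, X₂.card, pow_two]⟩
  obtain ⟨⟨x, y⟩, h⟩ := hb.2 u
  exact ⟨x, y, h⟩

/-- The trace is the sum of the eigenvalue and its inverse. -/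
theorem mult_quad (hδ : ∀ y, X₂.j y ≠ δ) {M : SL(2, F)} (hM : X₂.Fixes δ M) :
    X₂.mult δ M * X₂.mult δ M + X₂.j (M.1 0 0 + M.1 1 1) * X₂.mult δ M + 1 = 0 := by
  have h1 : (M.1 0 0 * M.1 1 1 - M.1 0 1 * M.1 1 0) = 1 := by rw [← Matrix.det_fin_two]; exact M.2
  have h1' := congrArg X₂.j h1
  simp only [map_sub, map_mul, map_one] at h1'
  have h2 : (2 : E) = 0 := CharTwo.two_eq_zero
  unfold Fixes mult at hM
  simp only [mult, map_add]
  linear_combination X₂.j (M.1 1 0) * hM + h1' +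
    (X₂.j (M.1 1 0) * δ * X₂.j (M.1 1 1) * 1 + X₂.j (M.1 1 1) ^ 2 +
      1 + X₂.j (M.1 1 0) * X₂.j (M.1 1 1) * δ + X₂.j (M.1 1 0) ^ 2 * δ ^ 2) * h2

theorem J_mult (hδ : ∀ y, X₂.j y ≠ δ) {M : SL(2, F)} (hM : X₂.Fixes δ M) :
    X₂.mult δ M * X₂.J (X₂.mult δ M) = 1 := by
  have hJd : X₂.J δ - δ ≠ 0 := sub_ne_zero.2 (X₂.J_ne hδ)
  have h1 : (M.1 0 0 * M.1 1 1 - M.1 0 1 * M.1 1 0) = 1 := by rw [← Matrix.det_fin_two]; exact M.2
  have h1' := congrArg X₂.j h1
  simp only [map_sub, map_mul, map_one] at h1'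
  have h2 := congrArg X₂.J hM
  unfold Fixes mult at hM
  simp only [mult, map_add, map_mul, X₂.J_j] at h2 ⊢
  refine mul_right_cancel₀ hJd ?_
  linear_combination -(X₂.j (M.1 1 0) * δ + X₂.j (M.1 1 1)) * h2 +
    (X₂.j (M.1 1 0) * X₂.J δ + X₂.j (M.1 1 1)) * hM + (X₂.J δ - δ) * h1'

/-- A norm one element is an eigenvalue. -/
theorem exists_of_norm (hδ : ∀ y, X₂.j y ≠ δ) {u : E} (hu : u * X₂.J u = 1) :
    ∃ N : SL(2, F), X₂.Fixes δ N ∧ X₂.mult δ N = u := by
  obtain ⟨c, d, hcd⟩ := X₂.span hδ u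
  obtain ⟨a, b, hab⟩ := X₂.span hδ (u * δ)
  have hJd : X₂.J δ - δ ≠ 0 := sub_ne_zero.2 (X₂.J_ne hδ)
  have e1 := congrArg X₂.J hcd
  have e2 := congrArg X₂.J hab
  simp only [map_add, map_mul, X₂.J_j] at e1 e2
  have hdet : a * d - b * c = 1 := X₂.j.injective (mul_right_cancel₀ hJd (by
    simp only [map_sub, map_mul, map_one, one_mul]
    linear_combination (X₂.J δ - δ) * hu + (X₂.j c * δ + X₂.j d) * e2 + X₂.J u * X₂.J δ * hcd -
      (X₂.j c * X₂.J δ + X₂.j d) * hab - u * δ * e1))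
  refine ⟨⟨!![a, b; c, d], by rw [Matrix.det_fin_two_of, hdet]⟩, ?_, ?_⟩
  · show X₂.j a * δ + X₂.j b = (X₂.j c * δ + X₂.j d) * δ
    rw [hcd, hab]
  · exact hcd

/-- An element commuting with one that fixes `δ` and is not scalar fixes `δ`. -/
theorem fixes_of_comm {M N : SL(2, F)} (hc : M.1 1 0 ≠ 0) (hM : X₂.Fixes δ M) (h : N * M = M * N) :
    X₂.Fixes δ N := by
  have h' := congrArg Subtype.val h
  simp only [Matrix.SpecialLinearGroup.coe_mul] at h'
  have e0 := congrArg (fun A : Matrix (Fin 2) (Fin 2) F => X₂.j (A 0 0)) h'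
  have e1 := congrArg (fun A : Matrix (Fin 2) (Fin 2) F => X₂.j (A 1 0)) h'
  simp only [Matrix.mul_apply, Fin.sum_univ_two, map_add, map_mul] at e0 e1
  have hcj : X₂.j (M.1 1 0) ≠ 0 := (map_ne_zero X₂.j).2 hc
  unfold Fixes mult at hM ⊢
  refine mul_left_cancel₀ hcj ?_
  linear_combination δ * -e1 + e0 + X₂.j (N.1 1 0) * hM

theorem comm_of_fixes (hδ : ∀ y, X₂.j y ≠ δ) {M N : SL(2, F)} (hM : X₂.Fixes δ M) (hN : X₂.Fixes δ N) :
    N * M = M * N := by
  obtain ⟨h1, h2⟩ := X₂.fixes_mul hN hM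
  obtain ⟨h3, h4⟩ := X₂.fixes_mul hM hN
  exact X₂.fixes_inj hδ h1 h3 (by rw [h2, h4, mul_comm])

omit [Finite E] [CharP E 2] in
/-- A matrix without an eigenvector. -/
def Ell (M : SL(2, F)) : Prop := ∀ v : Fin 2 → F, v ≠ 0 → ∀ s : F, M.1 *ᵥ v ≠ s • v

theorem ell_entry {M : SL(2, F)} (h : Ell M) : M.1 1 0 ≠ 0 := fun hc => h ![1, 0] (by simp) (M.1 0 0) (by
  ext i; fin_cases i <;> simp [Matrix.mulVec, dotProduct, hc])

theorem ell_fixed {M : SL(2, F)} (h : Ell M) : ∃ δ : E, (∀ y, X₂.j y ≠ δ) ∧ X₂.Fixes δ M := by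
  have hc := ell_entry h
  have hcj : X₂.j (M.1 1 0) ≠ 0 := (map_ne_zero X₂.j).2 hc
  obtain ⟨lam, hl⟩ := X₂.exists_root (M.1 0 0 + M.1 1 1)
  have h1 : (M.1 0 0 * M.1 1 1 - M.1 0 1 * M.1 1 0) = 1 := by rw [← Matrix.det_fin_two]; exact M.2
  have h1' := congrArg X₂.j h1
  simp only [map_sub, map_mul, map_one] at h1'
  have h2 : (2 : E) = 0 := CharTwo.two_eq_zero
  simp only [map_add] at hl
  refine ⟨(lam - X₂.j (M.1 1 1)) / X₂.j (M.1 1 0), fun y hy => ?_, ?_⟩
  · have hlam : lam = X₂.j (M.1 1 0 * y + M.1 1 1) := by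
      rw [eq_div_iff hcj] at hy
      rw [map_add, map_mul]
      linear_combination -hy
    refine h ![y, 1] (by simp) (M.1 1 0 * y + M.1 1 1) ?_
    have key : M.1 0 0 * y + M.1 0 1 = (M.1 1 0 * y + M.1 1 1) * y := X₂.j.injective (mul_left_cancel₀ hcj (by
      simp only [map_add, map_mul] at hlam ⊢
      rw [hlam] at hl
      linear_combination -hl - h1' + (X₂.j (M.1 1 0) * X₂.j (M.1 0 0) * X₂.j y + X₂.j (M.1 0 0) * X₂.j (M.1 1 1) +
        X₂.j (M.1 1 0) * X₂.j (M.1 1 1) * X₂.j y + X₂.j (M.1 1 1) ^ 2) * h2))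
    ext i
    fin_cases i
    · simpa [Matrix.mulVec, dotProduct] using key
    · simp [Matrix.mulVec, dotProduct]
  · unfold Fixes mult
    field_simp
    linear_combination -hl - h1' + (lam * X₂.j (M.1 0 0) + lam * X₂.j (M.1 1 1)) * h2

variable (hδ : ∀ y, X₂.j y ≠ δ) {M : SL(2, F)} (hM : X₂.Fixes δ M) {r : ℕ}
include hδ hM

omit hM in
theorem pow_eq_one_iff {N : SL(2, F)} (hN : X₂.Fixes δ N) {i : ℕ} : N ^ i = 1 ↔ X₂.mult δ N ^ i = 1 := by
  obtain ⟨h1, h2⟩ := X₂.fixes_pow hN i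
  refine ⟨fun h => ?_, fun h => X₂.fixes_inj hδ h1 X₂.fixes_one.1 (by rw [h2, h, X₂.fixes_one.2])⟩
  rw [← h2, h, X₂.fixes_one.2]

theorem mult_prim (hr : orderOf M = r) : IsPrimitiveRoot (X₂.mult δ M) r where
  pow_eq_one := (X₂.pow_eq_one_iff hδ hM).1 (hr ▸ pow_orderOf_eq_one M)
  dvd_of_pow_eq_one l hl := hr ▸ orderOf_dvd_of_pow_eq_one ((X₂.pow_eq_one_iff hδ hM).2 hl)

/-- The eigenvalue has order dividing `q + 1`. -/
theorem order_dvd (hr : orderOf M = r) : r ∣ Nat.card F + 1 :=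
  (X₂.mult_prim hδ hM hr).dvd_of_pow_eq_one _ (by rw [pow_succ', ← X₂.hJ, X₂.J_mult hδ hM])

/-- Elements commuting with `M` of the same order are its powers. -/
theorem comm_root (hc : M.1 1 0 ≠ 0) (hr : orderOf M = r) {N : SL(2, F)} (h : N * M = M * N) (hN : N ^ r = 1) :
    ∃ i : ℕ, N = M ^ i := by
  have hr0 : r ≠ 0 := hr ▸ (orderOf_pos M).ne'
  haveI : NeZero r := ⟨hr0⟩
  have hNf := X₂.fixes_of_comm hc hM h
  obtain ⟨i, -, hi⟩ := (X₂.mult_prim hδ hM hr).eq_pow_of_pow_eq_one ((X₂.pow_eq_one_iff hδ hNf).1 hN)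
  obtain ⟨h1, h2⟩ := X₂.fixes_pow hM i
  exact ⟨i, X₂.fixes_inj hδ hNf h1 (by rw [h2, hi])⟩

/-- Powers conjugate to each other are equal or inverse. -/
theorem conj_pow_cases (hr : orderOf M = r) {R : SL(2, F)} {A B : ℕ} (h : R⁻¹ * M ^ A * R = M ^ B) :
    M ^ B = M ^ A ∨ M ^ B * M ^ A = 1 := by
  obtain ⟨hA, hA'⟩ := X₂.fixes_pow hM A
  obtain ⟨hB, hB'⟩ := X₂.fixes_pow hM B
  have htr : (M ^ B).1 0 0 + (M ^ B).1 1 1 = (M ^ A).1 0 0 + (M ^ A).1 1 1 := by
    rw [← Matrix.trace_fin_two, ← Matrix.trace_fin_two, ← h]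
    rw [Matrix.SpecialLinearGroup.coe_mul, Matrix.SpecialLinearGroup.coe_mul, Matrix.trace_mul_cycle,
      ← Matrix.SpecialLinearGroup.coe_mul, mul_inv_cancel, Matrix.SpecialLinearGroup.coe_one, one_mul]
  have hu := X₂.mult_quad hδ hA
  have hw := X₂.mult_quad hδ hB
  rw [htr] at hw
  have key : (X₂.mult δ (M ^ B) - X₂.mult δ (M ^ A)) * (X₂.mult δ (M ^ B) * X₂.mult δ (M ^ A) - 1) = 0 := by
    linear_combination X₂.mult δ (M ^ A) * hw - X₂.mult δ (M ^ B) * hu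
  rcases mul_eq_zero.1 key with h' | h'
  · exact Or.inl (X₂.fixes_inj hδ hB hA (sub_eq_zero.1 h'))
  · obtain ⟨h1, h2⟩ := X₂.fixes_mul hB hA
    exact Or.inr (X₂.fixes_inj hδ h1 X₂.fixes_one.1 (by rw [h2, X₂.fixes_one.2, sub_eq_zero.1 h']))

omit hM in
/-- A maximal power in the centraliser. -/
theorem exists_cent {M : SL(2, F)} (hM : X₂.Fixes δ M) {r A : ℕ} (hA : 1 ≤ A) (hr : orderOf M = r)
    (hdvd : r ^ A ∣ Nat.card F + 1) :
    ∃ N : SL(2, F), orderOf N = r ^ A ∧ N * M = M * N ∧ ∃ i : ℕ, M = N ^ i := by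
  classical
  haveI := Fintype.ofFinite E
  obtain ⟨g, hg⟩ := IsCyclic.exists_generator (α := Eˣ)
  have hgo : orderOf g = Nat.card F ^ 2 - 1 := by
    rw [orderOf_eq_card_of_forall_mem_zpowers hg, Nat.card_units, X₂.card]
  have hq1 : 1 < Nat.card F := Finite.one_lt_card
  have hd : r ^ A ∣ Nat.card F ^ 2 - 1 := hdvd.trans
    ⟨Nat.card F - 1, by rw [← Nat.sq_sub_sq, one_pow]⟩
  set u : Eˣ := g ^ (orderOf g / r ^ A) with hu
  have huo : orderOf u = r ^ A := orderOf_pow_orderOf_div (orderOf_pos g).ne' (hgo ▸ hd)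
  have hu1 : (u : E) * X₂.J u = 1 := by
    rw [X₂.hJ, ← pow_succ', ← Units.val_pow_eq_pow_val]
    obtain ⟨m, hm⟩ := hdvd
    rw [hm, pow_mul, ← huo, pow_orderOf_eq_one, one_pow, Units.val_one]
  obtain ⟨N, hN, hNu⟩ := X₂.exists_of_norm hδ hu1
  have hNo : orderOf N = r ^ A := by
    rw [← huo, ← orderOf_units]
    exact orderOf_eq_orderOf_iff.2 fun i => by rw [X₂.pow_eq_one_iff hδ hN, hNu]
  refine ⟨N, hNo, X₂.comm_of_fixes hδ hM hN, ?_⟩
  have hr0 : r ^ A ≠ 0 := hNo ▸ (orderOf_pos N).ne'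
  haveI : NeZero (r ^ A) := ⟨hr0⟩
  obtain ⟨i, -, hi⟩ := (X₂.mult_prim hδ hN hNo).eq_pow_of_pow_eq_one (ξ := X₂.mult δ M) (by
    obtain ⟨m, hm⟩ := dvd_pow_self r (show A ≠ 0 by omega)
    rw [hm, pow_mul, (X₂.mult_prim hδ hM hr).pow_eq_one, one_pow])
  obtain ⟨h1, h2⟩ := X₂.fixes_pow hN i
  exact ⟨i, X₂.fixes_inj hδ hM h1 (by rw [h2, hi])⟩

/-- An element inverting `M` carries `δ` to its conjugate. -/
theorem inv_fix (hM2 : M * M ≠ 1) {R : SL(2, F)} (h : R * M * R⁻¹ = M⁻¹) :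
    X₂.j (R.1 0 0) * δ + X₂.j (R.1 0 1) = (X₂.j (R.1 1 0) * δ + X₂.j (R.1 1 1)) * X₂.J δ := by
  have hne : X₂.mult δ M ≠ X₂.J (X₂.mult δ M) := fun e => hM2 (by
    obtain ⟨h1, h2⟩ := X₂.fixes_mul hM hM
    refine X₂.fixes_inj hδ h1 X₂.fixes_one.1 ?_
    rw [h2, X₂.fixes_one.2]
    conv_lhs => arg 2; rw [e]
    exact X₂.J_mult hδ hM)
  have h' : M * R * M = R := by
    calc M * R * M = M * (R * M * R⁻¹) * R := by group
      _ = R := by rw [h]; group
  have hh := congrArg Subtype.val h'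
  simp only [Matrix.SpecialLinearGroup.coe_mul] at hh
  have e1 := congrArg (fun A : Matrix (Fin 2) (Fin 2) F => X₂.j (A 1 0) * δ + X₂.j (A 1 1)) hh
  simp only [Matrix.mul_apply, Fin.sum_univ_two, map_add, map_mul] at e1
  have hn := X₂.J_mult hδ hM
  have hM' := hM
  unfold Fixes at hM'
  simp only [mult, map_add, map_mul, X₂.J_j] at hn hne hM' e1
  have hcj : X₂.j (M.1 1 0) ≠ 0 := fun e => hne (by rw [e]; ring)
  refine mul_left_cancel₀ (mul_ne_zero hcj (left_ne_zero_of_mul (a := X₂.j (M.1 1 0) * δ + X₂.j (M.1 1 1))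
    (b := X₂.j (M.1 1 0) * X₂.J δ + X₂.j (M.1 1 1)) (by rw [hn]; exact one_ne_zero))) ?_
  linear_combination e1 - (X₂.j (M.1 1 0) * X₂.j (R.1 0 0) + X₂.j (M.1 1 1) * X₂.j (R.1 1 0)) * hM' -
    (X₂.j (R.1 1 0) * δ + X₂.j (R.1 1 1)) * hn

/-- An element whose trace lies in the field with `2 ^ m` elements has order dividing `4 ^ m - 1`. -/
theorem pow_of_trace {m : ℕ} (ht : (M.1 0 0 + M.1 1 1) ^ 2 ^ m = M.1 0 0 + M.1 1 1) :
    M ^ ((2 ^ m) ^ 2 - 1) = 1 := by
  rw [X₂.pow_eq_one_iff hδ hM]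
  set u := X₂.mult δ M with hu
  have hq : u * u + X₂.j (M.1 0 0 + M.1 1 1) * u + 1 = 0 := X₂.mult_quad hδ hM
  have hu0 : u ≠ 0 := fun e => by
    rw [e] at hq
    simp at hq
  let φ : E →+* E := iterateFrobenius E 2 m
  have hφ : ∀ x, φ x = x ^ 2 ^ m := fun x => iterateFrobenius_def 2 m x
  have hT : φ (X₂.j (M.1 0 0 + M.1 1 1)) = X₂.j (M.1 0 0 + M.1 1 1) := by rw [hφ, ← map_pow, ht]
  have hq' := congrArg φ hq
  rw [map_add, map_add, map_mul, map_mul, hT, map_one, map_zero] at hq'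
  have key : (φ u - u) * (φ u * u - 1) = 0 := by linear_combination u * hq' - φ u * hq
  have h2 : φ (φ u) = u := by
    rcases mul_eq_zero.1 key with h | h
    · rw [sub_eq_zero.1 h, sub_eq_zero.1 h]
    · rw [eq_inv_of_mul_eq_one_left (sub_eq_zero.1 h), map_inv₀, eq_inv_of_mul_eq_one_left (sub_eq_zero.1 h),
        inv_inv]
  rw [hφ, hφ, ← pow_mul, ← pow_two] at h2
  refine mul_left_cancel₀ hu0 ?_
  rw [mul_one, ← pow_succ', Nat.sub_add_cancel (Nat.one_le_pow _ _ (Nat.two_pow_pos m)), h2]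

end QExt

end Cfsg.Agent.Transfer.RankOne
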