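import Cfsg.Agent.Lib.Transfer.RankOne.QSplit

/-!
Free families of irreducible characters of `Q`: induction to the whole group is an isometry on their combinations
vanishing at the identity; facts about signed irreducible characters.
-/

set_option autoImplicit false
set_option linter.unusedSectionVars false

namespace Cfsg.Agent.Transfer.RankOne

open MulAction
open scoped ComplexConjugate
open Cfsg.Agent.Char

universe u v w

/-- A transversal for a semiregular action on a finite set. -/
theorem exists_transversal {D : Type u} [Group D] [Finite D] {α : Type v} (act : D → α → α)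
    (hone : ∀ a, act 1 a = a) (hmul : ∀ d e a, act d (act e a) = act (d * e) a) (X : Finset α)
    (hcl : ∀ a ∈ X, ∀ d, act d a ∈ X) (hfree : ∀ a ∈ X, ∀ d, act d a = a → d = 1) :
    ∃ U ⊆ X, (∀ a ∈ U, ∀ b ∈ U, ∀ d, act d b = a → d = 1) ∧
      ∀ {M : Type w} [AddCommMonoid M] (f : α → M), (∀ a ∈ X, ∀ d, f (act d a) = f a) →
        ∑ a ∈ X, f a = Nat.card D • ∑ a ∈ U, f a := by
  classical
  haveI := Fintype.ofFinite D
  let good : Finset α → Prop := fun U => ∀ a ∈ U, ∀ b ∈ U, ∀ d, act d b = a → d = 1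
  obtain ⟨U, hU, hmax⟩ := Finset.exists_max_image (X.powerset.filter good) Finset.card
    ⟨∅, by simp [good]⟩
  rw [Finset.mem_filter, Finset.mem_powerset] at hU
  obtain ⟨hUX, hUg⟩ := hU
  refine ⟨U, hUX, hUg, fun {M} _ f hf => ?_⟩
  have hinv : ∀ a d, act d⁻¹ (act d a) = a := fun a d => by rw [hmul, inv_mul_cancel, hone]
  have hcov : ∀ a ∈ X, ∃ b ∈ U, ∃ d, act d b = a := by
    intro a ha
    by_contra hc
    push Not at hc
    have haU : a ∉ U := fun h => hc a h 1 (hone a)
    have hg : good (insert a U) := by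
      intro x hx y hy d hd
      rcases Finset.mem_insert.1 hx with e1 | h1 <;> rcases Finset.mem_insert.1 hy with e2 | h2
      · subst e1 e2; exact hfree _ ha d hd
      · subst e1; exact absurd hd (hc y h2 d)
      · subst e2; exact absurd (by rw [← hd, hinv]) (hc x h1 d⁻¹)
      · exact hUg x h1 y h2 d hd
    have := hmax (insert a U) (Finset.mem_filter.2 ⟨Finset.mem_powerset.2 (Finset.insert_subset ha hUX), hg⟩)
    rw [Finset.card_insert_of_notMem haU] at this
    omega
  have himg : X = (U ×ˢ (Finset.univ : Finset D)).image fun p => act p.2 p.1 := by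
    ext a
    rw [Finset.mem_image]
    constructor
    · intro ha
      obtain ⟨b, hb, d, hd⟩ := hcov a ha
      exact ⟨(b, d), Finset.mem_product.2 ⟨hb, Finset.mem_univ _⟩, hd⟩
    · rintro ⟨⟨b, d⟩, hp, rfl⟩
      exact hcl b (hUX (Finset.mem_product.1 hp).1) d
  rw [himg, Finset.sum_image, Finset.sum_product]
  · rw [Finset.smul_sum]
    refine Finset.sum_congr rfl fun b hb => ?_
    rw [Finset.sum_congr rfl fun d _ => hf b (hUX hb) d, Finset.sum_const, Finset.card_univ,
      Nat.card_eq_fintype_card]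
  · intro p hp p' hp' e
    have hb := (Finset.mem_product.1 hp).1
    have hb' := (Finset.mem_product.1 hp').1
    have e' : act p.2 p.1 = act p'.2 p'.1 := e
    have e1 : act (p'.2⁻¹ * p.2) p.1 = p'.1 := by rw [← hmul, e', hinv]
    have h1 := hUg _ hb' _ hb _ e1
    rw [inv_mul_eq_one] at h1
    rw [← h1, inv_mul_cancel, hone] at e1
    exact Prod.ext e1 h1.symm

section Signed

variable {G : Type u} [Group G] [Fintype G]

/-- Pairwise orthogonal signed irreducible characters satisfy the column inequality. -/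
theorem signed_column_le {ι : Type v} (s : Finset ι) (f : ι → G → ℂ)
    (hirr : ∀ i ∈ s, IsIrrCharacter G (f i) ∨ IsIrrCharacter G (-f i))
    (horth : ∀ i ∈ s, ∀ j ∈ s, i ≠ j → classInner (f i) (f j) = 0) (g : G) :
    ∑ i ∈ s, Complex.normSq (f i g) ≤ (Nat.card (Subgroup.centralizer ({g} : Set G)) : ℝ) := by
  classical
  have hsum : ∑ χ : IrrCharacter G, Complex.normSq ((χ : G → ℂ) g) =
      (Nat.card (Subgroup.centralizer ({g} : Set G)) : ℝ) := by
    have h := sum_irr_mul_conj g g
    rw [if_pos (IsConj.refl g)] at h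
    simp only [Complex.mul_conj] at h
    exact_mod_cast h
  rw [← hsum]
  have hex : ∀ i : s, ∃ χ : IrrCharacter G, (χ : G → ℂ) = f i ∨ (χ : G → ℂ) = -f i := fun i => by
    rcases hirr i i.2 with h | h
    · exact ⟨⟨_, h⟩, Or.inl rfl⟩
    · exact ⟨⟨_, h⟩, Or.inr rfl⟩
  choose χ hχ using hex
  have hinj : Function.Injective χ := fun i j e => by
    by_contra hne
    have h1 := classInner_self_irr (χ i).2
    nth_rewrite 2 [e] at h1
    have h2 := horth i i.2 j j.2 fun h => hne (Subtype.ext h)
    rcases hχ i with hi | hi <;> rcases hχ j with hj | hj <;> rw [hi, hj] at h1 <;>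
      simp only [classInner_neg_left, classInner_neg_right, neg_neg, h2, neg_zero] at h1 <;>
      exact zero_ne_one h1
  rw [← Finset.sum_coe_sort s fun i => Complex.normSq (f i g)]
  refine le_trans (le_of_eq ?_) (Finset.sum_le_sum_of_subset_of_nonneg
    (Finset.subset_univ ((Finset.univ : Finset s).image χ)) fun _ _ _ => Complex.normSq_nonneg _)
  rw [Finset.sum_image fun i _ j _ e => hinj e]
  refine Finset.sum_congr rfl fun i _ => ?_
  rcases hχ i with hi | hi <;> rw [hi] <;> simp [Complex.normSq_neg]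

end Signed

section Ind

variable {G : Type u} {Ω : Type v} [Group G] [MulAction G Ω] [Fintype G] [FaithfulSMul G Ω]
  {a : Ω} {t : G} {Q : Subgroup G} [Fintype Q] (H : Hyp G Ω a t Q)
include H

/-- Conjugation by an element of the two-point stabiliser as an automorphism of `Q`. -/
def qEquiv (d : dGrp a t) : Q ≃* Q where
  toFun := qConj H d
  invFun := qConj H d⁻¹
  left_inv x := Subtype.ext (by simp [qConj_coe, mul_assoc])
  right_inv x := Subtype.ext (by simp [qConj_coe, mul_assoc])
  map_mul' x y := Subtype.ext (by simp [qConj_coe, mul_assoc])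

/-- The twist of a function on `Q`. -/
def qAct (d : dGrp a t) (f : Q → ℂ) : Q → ℂ := fun x => f (qConj H d x)

theorem qAct_one (f : Q → ℂ) : qAct H 1 f = f := funext fun x => by rw [qAct, qConj_one_apply]

theorem qAct_mul (d e : dGrp a t) (f : Q → ℂ) : qAct H d (qAct H e f) = qAct H (d * e) f :=
  funext fun x => by
    show f (qConj H e (qConj H d x)) = f (qConj H (d * e) x)
    congr 1
    exact Subtype.ext (by simp [qConj_coe, mul_assoc])

theorem qAct_irr {f : Q → ℂ} (hf : IsIrrCharacter Q f) (d : dGrp a t) : IsIrrCharacter Q (qAct H d f) :=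
  IsIrr.comp_mulEquiv (qEquiv H d) hf

/-- No non-identity element of the two-point stabiliser carries a member to a member. -/
def Free (U : Set (Q → ℂ)) : Prop := ∀ ξ ∈ U, ∀ η ∈ U, ∀ d : dGrp a t, qAct H d η = ξ → d = 1

theorem zspan_classFun {U : Set (Q → ℂ)} (hirr : ∀ ξ ∈ U, IsIrrCharacter Q ξ) {α : Q → ℂ}
    (hα : α ∈ zspan U) : IsClassFunction Q α := by
  induction hα using Submodule.span_induction with
  | mem x hx => exact IsIrr.classFun (hirr x hx)
  | zero => intro x y; rfl
  | add x y _ _ hx hy => intro g h; simp [hx g h, hy g h]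
  | smul n x _ hx => intro g h; simp [hx g h]

theorem classInner_act_zero {U : Set (Q → ℂ)} (hirr : ∀ ξ ∈ U, IsIrrCharacter Q ξ) (hfree : Free H U)
    {d : dGrp a t} (hd : d ≠ 1) {α β : Q → ℂ} (hα : α ∈ zspan U) (hβ : β ∈ zspan U) :
    classInner α (qAct H d β) = 0 := by
  induction hα using Submodule.span_induction with
  | mem x hx =>
    induction hβ using Submodule.span_induction with
    | mem y hy =>
      exact classInner_irr_ne (hirr x hx) (qAct_irr H (hirr y hy) d) fun e => hd (hfree x hx y hy d e.symm)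
    | zero => exact classInner_zero_right x
    | add y y' _ _ h1 h2 =>
      rw [show qAct H d (y + y') = qAct H d y + qAct H d y' from rfl, classInner_add_right, h1, h2, add_zero]
    | smul n y _ h1 =>
      rw [show qAct H d (n • y) = n • qAct H d y from rfl, ← Int.cast_smul_eq_zsmul ℂ, classInner_smul_right,
        h1, mul_zero]
  | zero => exact classInner_zero_left _
  | add x x' _ _ h1 h2 => rw [classInner_add_left, h1, h2, add_zero]
  | smul n x _ h1 => rw [← Int.cast_smul_eq_zsmul ℂ, classInner_smul_left, h1, mul_zero]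

theorem ind_isGenChar {U : Set (Q → ℂ)} (hirr : ∀ ξ ∈ U, IsIrrCharacter Q ξ) {α : Q → ℂ}
    (hα : α ∈ zspan U) : IsGeneralizedCharacter G (indFun Q α) := by
  induction hα using Submodule.span_induction with
  | mem x hx => exact IsGenChar.of_isCharacter (isCharacter_indFun Q (IsIrr.isCharacter (hirr x hx)))
  | zero => rw [indFun_zero]; exact IsGenChar.zero
  | add x y _ _ hx hy => rw [indFun_add]; exact IsGenChar.add hx hy
  | smul n x _ hx =>
    rw [← Int.cast_smul_eq_zsmul ℂ, indFun_smul]
    exact IsGenChar.zsmul hx n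

/-- Induction is an isometry on the combinations of a free family vanishing at the identity. -/
theorem ind_hyp {U : Set (Q → ℂ)} (hirr : ∀ ξ ∈ U, IsIrrCharacter Q ξ) (hfree : Free H U) :
    Coh.Hyp U (indFun Q : (Q → ℂ) → (G → ℂ)) := by
  refine ⟨hirr, ⟨fun α _ β _ => indFun_add Q α β, fun α _ n => ?_, fun α hα β hβ => ?_,
    fun α hα => ind_isGenChar H hirr hα.1⟩, fun α hα => ?_⟩
  · rw [← Int.cast_smul_eq_zsmul ℂ, indFun_smul, Int.cast_smul_eq_zsmul]
  · rw [classInner_ind H (zspan_classFun H hirr hβ.1) (hα.2 1 (by simp))]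
    show ∑ᶠ d : dGrp a t, classInner α (qAct H d β) = _
    rw [finsum_eq_single _ (1 : dGrp a t) fun d hd => classInner_act_zero H hirr hfree hd hα.1 hβ.1, qAct_one]
  · rw [indFun_one_eq, hα.2 1 (by simp), mul_zero]

variable {U : Set (Q → ℂ)} {τ : (Q → ℂ) → (G → ℂ)}

theorem coh_signed (hirr : ∀ ξ ∈ U, IsIrrCharacter Q ξ) (hτ : IsLinearIsometryOn (zspan U) τ) {ξ : Q → ℂ}
    (hξ : ξ ∈ U) : IsIrrCharacter G (τ ξ) ∨ IsIrrCharacter G (-τ ξ) := by
  have hm : ξ ∈ zspan U := Submodule.subset_span hξ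
  exact IsGenChar.norm_one (hτ.2.2.2 _ hm) (by rw [hτ.2.2.1 _ hm _ hm, classInner_self_irr (hirr ξ hξ)])

theorem coh_orth (hirr : ∀ ξ ∈ U, IsIrrCharacter Q ξ) (hτ : IsLinearIsometryOn (zspan U) τ) {ξ η : Q → ℂ}
    (hξ : ξ ∈ U) (hη : η ∈ U) (hne : ξ ≠ η) : classInner (τ ξ) (τ η) = 0 := by
  rw [hτ.2.2.1 _ (Submodule.subset_span hξ) _ (Submodule.subset_span hη),
    classInner_irr_ne (hirr ξ hξ) (hirr η hη) hne]

/-- The extension on a combination of two members. -/
theorem coh_pair (hτ : IsLinearIsometryOn (zspan U) τ)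
    (hag : ∀ α ∈ zspanOn U {1}ᶜ, τ α = indFun Q α) {ξ η : Q → ℂ} (hξ : ξ ∈ U) (hη : η ∈ U) {k : ℕ}
    (hk : ξ 1 = (k : ℂ) * η 1) : τ ξ - (k : ℂ) • τ η = indFun Q (ξ - (k : ℂ) • η) := by
  have hmξ : ξ ∈ zspan U := Submodule.subset_span hξ
  have hmη : η ∈ zspan U := Submodule.subset_span hη
  have e : ξ - (k : ℂ) • η = ξ + (-(k : ℤ)) • η := by
    rw [← Int.cast_smul_eq_zsmul ℂ]
    push_cast
    rw [neg_smul, ← sub_eq_add_neg]
  have hm2 : (-(k : ℤ)) • η ∈ zspan U := Submodule.smul_mem _ _ hmη
  rw [← hag _ ⟨by rw [e]; exact Submodule.add_mem _ hmξ hm2, fun x hx => by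
    simp only [Set.mem_compl_iff, Set.mem_singleton_iff, not_not] at hx
    subst hx
    simp [hk]⟩, e, hτ.1 _ hmξ _ hm2, hτ.2.1 _ hmη, ← Int.cast_smul_eq_zsmul ℂ]
  push_cast
  rw [neg_smul, ← sub_eq_add_neg]

end Ind

end Cfsg.Agent.Transfer.RankOne
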