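import Cfsg.Agent.Lib.Char.Perm
import Cfsg.Agent.Lib.Char.Quotient
import Mathlib.GroupTheory.Perm.Cycle.Type

/-!
An automorphism of prime order without fixed points fixes only the trivial irreducible character.
-/

set_option autoImplicit false
set_option linter.unusedSectionVars false
set_option linter.style.haveILetI false

namespace Cfsg.Agent.Transfer.RankOne

open Cfsg.Agent.Char

universe u

theorem irr_eq_one_of_fixed {A : Type u} [Group A] [Finite A] (σ : A ≃* A) {p : ℕ} [hp : Fact p.Prime]
    (hσ : ∀ x, (σ : A → A)^[p] x = x) (hfpf : ∀ x, σ x = x → x = 1) {φ : A → ℂ} (hφ : IsIrrCharacter A φ)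
    (hfix : φ ∘ σ = φ) : φ = fun _ => 1 := by
  classical
  haveI := Fintype.ofFinite A
  let π : Equiv.Perm A := σ.toEquiv
  have hit : ∀ (m : ℕ) (x : A), (π ^ m) x = (σ : A → A)^[m] x := fun m x => by
    rw [← Equiv.Perm.iterate_eq_pow]; rfl
  have hπ : π ^ p ^ 1 = 1 := Equiv.ext fun x => by rw [pow_one, hit, hσ]; rfl
  have hcop : ¬ p ∣ Nat.card A := fun h => by
    obtain ⟨b, hb, hne⟩ := Equiv.Perm.exists_fixed_point_of_prime' (p := p) (n := 1) (σ := π)
      (by rwa [← Nat.card_eq_fintype_card]) hπ (a := (1 : A)) (map_one σ)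
    exact hne (hfpf b hb)
  let f : IrrCharacter A → IrrCharacter A := fun χ => ⟨_, IsIrr.comp_mulEquiv σ χ.2⟩
  let F : ConjClasses A → ConjClasses A := ConjClasses.map σ.toMonoidHom
  have hcard := brauer_perm f F fun χ g g' h => by
    show (χ : A → ℂ) (σ g) = _
    have h' : ConjClasses.mk g' = ConjClasses.mk (σ g) := h
    obtain ⟨c, hc⟩ := isConj_iff.1 (ConjClasses.mk_eq_mk_iff_isConj.1 h')
    rw [← hc, IsIrr.classFun χ.2]
  have hone : ∀ C : ConjClasses A, F C = C → C = 1 := by
    intro C hC
    obtain ⟨x, rfl⟩ := C.exists_rep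
    have hclass : ∀ y, IsConj x y → IsConj x (σ y) := fun y hy => by
      refine (ConjClasses.mk_eq_mk_iff_isConj.1 hC.symm).trans ?_
      exact MonoidHom.map_isConj σ.toMonoidHom hy
    let T := {y : A // IsConj x y}
    let σT : T → T := fun y => ⟨σ y, hclass y y.2⟩
    have hTb : Function.Bijective σT :=
      Finite.injective_iff_bijective.1 fun y z e => Subtype.ext (σ.injective (congrArg Subtype.val e))
    let πT : Equiv.Perm T := Equiv.ofBijective σT hTb
    have hitT : ∀ (m : ℕ) (y : T), ((πT ^ m) y : A) = (σ : A → A)^[m] y := by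
      intro m
      induction m with
      | zero => intro y; rfl
      | succ m ih =>
        intro y
        rw [pow_succ', Equiv.Perm.mul_apply, Function.iterate_succ', Function.comp_apply, ← ih y]
        rfl
    haveI : Fintype T := Fintype.ofFinite _
    obtain ⟨y, hy⟩ := Equiv.Perm.exists_fixed_point_of_prime (p := p) (n := 1) (σ := πT)
      (by
        rw [← Nat.card_eq_fintype_card]
        show ¬ p ∣ Nat.card {y : A // IsConj x y}
        rw [card_conjClass]
        exact fun h => hcop (h.trans (Subgroup.index_dvd_card _)))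
      (Equiv.ext fun y => Subtype.ext (by rw [pow_one, hitT, hσ]; rfl))
    have h1 : (y : A) = 1 := hfpf y (congrArg Subtype.val hy)
    have h2 := y.2
    rw [h1, isConj_one_left] at h2
    exact congrArg ConjClasses.mk h2
  haveI : Subsingleton {C : ConjClasses A // F C = C} :=
    ⟨fun C C' => Subtype.ext ((hone C C.2).trans (hone C' C'.2).symm)⟩
  have hle : Nat.card {χ : IrrCharacter A // f χ = χ} ≤ 1 := hcard ▸ Finite.card_le_one_iff_subsingleton.2 inferInstance
  have hsub := Finite.card_le_one_iff_subsingleton.1 hle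
  have := @Subsingleton.elim _ hsub ⟨⟨φ, hφ⟩, Subtype.ext hfix⟩ ⟨⟨_, isIrr_one⟩, Subtype.ext rfl⟩
  exact congrArg (fun χ : {χ : IrrCharacter A // f χ = χ} => (χ.1 : A → ℂ)) this

end Cfsg.Agent.Transfer.RankOne
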