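import Cfsg.Agent.Lib.Transfer.RankOne.QSplit
import Cfsg.Agent.Lib.Char.CohDescent
import Cfsg.Agent.Lib.Char.Average
import Cfsg.Agent.Lib.Lie.RankOneStructure
import Cfsg.Agent.S1132
import Cfsg.Agent.S1137
import Cfsg.Agent.S1138
import Cfsg.Agent.S1139

/-!
The Sylow 2-subgroup of `Q` and its characters relative to `Z₀`.
-/

set_option autoImplicit false
set_option linter.unusedSectionVars false
set_option linter.style.haveILetI false

namespace Cfsg.Agent.Transfer.RankOne

open MulAction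
open scoped ComplexConjugate
open Cfsg.Agent.Char

universe u v

/-- An automorphism of a field of four elements is an involution. -/
theorem ringEquiv_four {F : Type} [Field F] [Fintype F] (h4 : Fintype.card F = 4) (φ : F ≃+* F) (x : F) :
    φ (φ x) = x := by
  classical
  by_cases h0 : x = 0
  · simp [h0]
  by_cases h1 : x = 1
  · simp [h1]
  by_cases hx : φ x = x
  · rw [hx, hx]
  have h0' : φ x ≠ 0 := by simpa using h0
  have h1' : φ x ≠ 1 := fun e => h1 (φ.injective (e.trans (map_one φ).symm))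
  have hu : ({0, 1, x, φ x} : Finset F) = Finset.univ := by
    refine Finset.eq_univ_of_card _ ?_
    rw [h4, Finset.card_insert_of_notMem (by simp [Ne.symm, h0, h0'.symm, Ne.symm h0]),
      Finset.card_insert_of_notMem (by simp [h1'.symm, Ne.symm h1]),
      Finset.card_insert_of_notMem (by simp [Ne.symm hx]), Finset.card_singleton]
  have hm := hu ▸ Finset.mem_univ (φ (φ x))
  simp only [Finset.mem_insert, Finset.mem_singleton] at hm
  rcases hm with h | h | h | h
  · exact absurd (φ.injective (h.trans (map_zero φ).symm)) h0'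
  · exact absurd (φ.injective (h.trans (map_one φ).symm)) h1'
  · exact h
  · exact absurd (φ.injective h) hx

section

variable {G : Type u} {Ω : Type v} [Group G] [MulAction G Ω] [Finite G] [FaithfulSMul G Ω]
  {a : Ω} {t : G} {Q S : Subgroup G} (H : Hyp G Ω a t Q)
include H

/-- `Z₀` as a subgroup of `S`. -/
abbrev zS (S : Subgroup G) (a : Ω) : Subgroup S := (zGrp G a).subgroupOf S

theorem zS_central (hSQ : S ≤ Q) {z : S} (hz : z ∈ zS S a) (x : S) : z * x = x * z :=
  Subtype.ext (zGrp_central H (Subgroup.mem_subgroupOf.1 hz) (hSQ x.2))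

theorem zGrp_le_split {O : Subgroup G} (P : Split Q S O) : zGrp G a ≤ S := fun z hz =>
  P.mem_s_iff.2 ⟨zGrp_le H hz, 1, by rw [pow_one, pow_two]; exact ((mem_zGrp H).1 hz).2⟩

theorem card_zS {O : Subgroup G} (P : Split Q S O) : Nat.card (zS S a) = Nat.card (zGrp G a) :=
  Nat.card_congr (Subgroup.subgroupOfEquivOfLe (zGrp_le_split H P)).toEquiv

/-- `S` is abelian, or a Suzuki 2-group of index more than four over `Z₀`. -/
theorem sylow_shape {O : Subgroup G} (P : Split Q S O) (hmap : ∃ T : Sylow 2 Q, S = (T : Subgroup Q).map Q.subtype) :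
    (∀ x ∈ S, ∀ y ∈ S, x * y = y * x) ∨
      ((∃ x ∈ S, ∃ y ∈ S, x * y ≠ y * x) ∧ (∀ x ∈ S, ∀ y ∈ S, x⁻¹ * y⁻¹ * x * y ∈ zGrp G a) ∧
        (∀ x ∈ S, x * x ∈ zGrp G a) ∧
        (Nat.card S = Nat.card (zGrp G a) ^ 2 ∨ Nat.card S = Nat.card (zGrp G a) ^ 3) ∧
        4 < (zS S a).index) := by
  classical
  obtain ⟨T, hT⟩ := hmap
  let e : (T : Subgroup Q) ≃* S :=
    ((T : Subgroup Q).equivMapOfInjective Q.subtype Q.subtype_injective).trans (MulEquiv.subgroupCongr hT.symm)
  have he : ∀ x, ((e x : S) : G) = ((x : Q) : G) := fun x => rfl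
  rcases S1132.result H.setup H.two T with h | h
  · left
    intro x hx y hy
    obtain ⟨x', hx'⟩ := e.surjective ⟨x, hx⟩
    obtain ⟨y', hy'⟩ := e.surjective ⟨y, hy⟩
    have h' := congrArg (fun z => ((e z : S) : G)) (h.is_comm.comm x' y')
    simpa [hx', hy'] using h'
  · right
    have hZiff : ∀ x : (T : Subgroup Q), x ∈ Subgroup.center (T : Subgroup Q) ↔ ((e x : S) : G) ∈ zGrp G a := by
      intro x
      rw [mem_zGrp H]
      constructor
      · intro hx
        refine ⟨H.setup.le (x : Q).2, ?_⟩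
        have h2 := (S1137.result h).2 x hx
        exact congrArg (fun z : (T : Subgroup Q) => ((z : Q) : G)) h2
      · rintro ⟨-, hx⟩
        by_cases h1 : x = 1
        · rw [h1]; exact one_mem _
        · exact (((S1137.result h).1 x).1 ⟨h1, Subtype.ext (Subtype.ext hx)⟩).1
    have hcard : Nat.card (Subgroup.center (T : Subgroup Q)) = Nat.card (zGrp G a) := by
      rw [← card_zS H P]
      exact Nat.card_congr (e.toEquiv.subtypeEquiv fun x => (hZiff x).trans Subgroup.mem_subgroupOf.symm)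
    obtain ⟨hsq, hcomm, hq, -⟩ := S1138.result h
    have hna : ∃ x ∈ S, ∃ y ∈ S, x * y ≠ y * x := by
      obtain ⟨-, -, ⟨x, y, hxy⟩, -⟩ := h
      refine ⟨_, (e x).2, _, (e y).2, fun he' => hxy ?_⟩
      exact e.injective (by rw [map_mul, map_mul]; exact Subtype.ext he')
    rw [hcard] at hq
    have hcS : Nat.card (T : Subgroup Q) = Nat.card S := Nat.card_congr e.toEquiv
    rw [hcS] at hq
    refine ⟨hna, ?_, ?_, hq, ?_⟩
    · intro x hx y hy
      obtain ⟨x', hx'⟩ := e.surjective ⟨x, hx⟩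
      obtain ⟨y', hy'⟩ := e.surjective ⟨y, hy⟩
      have h' := (hZiff _).1 (hcomm x' y')
      simpa [hx', hy'] using h'
    · intro x hx
      obtain ⟨x', hx'⟩ := e.surjective ⟨x, hx⟩
      have h' := (hZiff _).1 (hsq x')
      simpa [hx'] using h'
    · have hi := (zS S a).index_mul_card
      rw [card_zS H P] at hi
      have hq4 := four_le_q H
      set q := Nat.card (zGrp G a)
      have hi' : (zS S a).index = q ∨ (zS S a).index = q ^ 2 := by
        rcases hq with h2 | h2 <;> rw [h2] at hi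
        · exact Or.inl (Nat.eq_of_mul_eq_mul_right (by omega) (hi.trans (pow_two q)))
        · exact Or.inr (Nat.eq_of_mul_eq_mul_right (by omega) (hi.trans (pow_succ q 2)))
      rcases hi' with h2 | h2
      · rw [h2]
        refine lt_of_le_of_ne hq4 fun h4 => ?_
        have hS2 : Nat.card S = q ^ 2 := by
          rw [← hi, h2, pow_two]
        obtain ⟨F, i1, i2, φ, hF, hne, hodd, -⟩ := S1139.result h (by rw [hcS, hcard, hS2])
        have h2' : φ ^ 2 = 1 := RingEquiv.ext fun x => ringEquiv_four (hF.trans (hcard.trans h4.symm)) φ x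
        have hd : orderOf φ ∣ 2 := orderOf_dvd_of_pow_eq_one h2'
        rcases (Nat.dvd_prime Nat.prime_two).1 hd with h3 | h3
        · exact hne (orderOf_eq_one_iff.1 h3)
        · rw [h3] at hodd; exact Nat.not_odd_iff_even.2 even_two hodd
      · rw [h2]
        calc 4 < 4 * 4 := by norm_num
          _ ≤ q * q := Nat.mul_le_mul hq4 hq4
          _ = q ^ 2 := (pow_two q).symm

end

section Chars

variable {G : Type u} {Ω : Type v} [Group G] [MulAction G Ω] [Fintype G] [FaithfulSMul G Ω]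
  {a : Ω} {t : G} {Q S : Subgroup G} [Fintype S] (H : Hyp G Ω a t Q) (hSQ : S ≤ Q)
include H hSQ

theorem zS_normal : (zS S a).Normal := ⟨fun z hz g => by
  rwa [← zS_central H hSQ hz g, mul_inv_cancel_right]⟩

/-- An irreducible character of `S` is trivial on `Z₀` or sums to zero over it. -/
theorem zS_sum {μ : S → ℂ} (hμ : IsIrrCharacter S μ) [Fintype (zS S a)] :
    ((∀ z : zS S a, μ z = μ 1) ∧ ∑ z : zS S a, μ z = (Nat.card (zS S a) : ℂ) * μ 1) ∨
      ((¬ ∀ z : zS S a, μ z = μ 1) ∧ ∑ z : zS S a, μ z = 0) := by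
  classical
  haveI := zS_normal H hSQ
  by_cases htriv : ∀ z : zS S a, μ z = μ 1
  · refine Or.inl ⟨htriv, ?_⟩
    rw [Finset.sum_congr rfl fun z _ => htriv z, Finset.sum_const, Finset.card_univ, nsmul_eq_mul,
      Nat.card_eq_fintype_card]
  · refine Or.inr ⟨htriv, ?_⟩
    rcases avgN_irr (N := zS S a) hμ with ⟨h, -⟩ | ⟨h, -⟩
    · simpa [classInner, Nat.card_pos.ne'] using h
    · exact absurd h htriv

/-- The squares of the degrees of the characters trivial on `Z₀`. -/
theorem sum_sq_triv [Fintype (zS S a)] [DecidablePred fun μ : IrrCharacter S => ∀ z : zS S a, (μ : S → ℂ) z = (μ : S → ℂ) 1] :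
    (Nat.card (zS S a) : ℂ) * ∑ μ ∈ Finset.univ.filter
      (fun μ : IrrCharacter S => ∀ z : zS S a, (μ : S → ℂ) z = (μ : S → ℂ) 1), (μ : S → ℂ) 1 ^ 2 = Nat.card S := by
  classical
  have h : ∑ z : zS S a, ∑ μ : IrrCharacter S, (μ : S → ℂ) 1 * (μ : S → ℂ) z = (Nat.card S : ℂ) := by
    rw [Finset.sum_eq_single (1 : zS S a)]
    · rw [regular_expansion, if_pos (by simp)]
    · intro z _ hz
      rw [regular_expansion, if_neg (by simpa using hz)]
    · simp
  rw [← h, Finset.sum_comm, Finset.mul_sum, Finset.sum_filter]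
  refine Finset.sum_congr rfl fun μ _ => ?_
  rw [← Finset.mul_sum]
  rcases zS_sum H hSQ μ.2 with ⟨h1, h2⟩ | ⟨h1, h2⟩
  · rw [if_pos h1, h2]; ring
  · rw [if_neg h1, h2, mul_zero]

theorem degree_sq_le_index {μ : S → ℂ} (hμ : IsIrrCharacter S μ) {n : ℕ} (hn : μ 1 = (n : ℂ)) :
    n ^ 2 ≤ (zS S a).index :=
  Descent.sq_le_index (zS S a) hμ hn fun z hz g => by
    rw [zS_central H hSQ hz g, mul_inv_cancel_right, mul_inv_cancel]

theorem linear_of_triv (hcomm : ∀ x ∈ S, ∀ y ∈ S, x⁻¹ * y⁻¹ * x * y ∈ zGrp G a) {μ : S → ℂ}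
    (hμ : IsIrrCharacter S μ) (htriv : ∀ z : zS S a, μ z = μ 1) : μ 1 = 1 := by
  haveI := zS_normal H hSQ
  refine Descent.one_of_commutator hμ fun k hk => ?_
  have hle : commutator S ≤ zS S a := by
    rw [commutator_def, Subgroup.commutator_le]
    intro x _ y _
    rw [Subgroup.mem_subgroupOf]
    have h := hcomm _ (inv_mem x.2) _ (inv_mem y.2)
    simpa [commutatorElement_def] using h
  exact htriv ⟨k, hle hk⟩

end Chars

end Cfsg.Agent.Transfer.RankOne
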