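import Cfsg.Agent.Lib.Transfer.RankOne.CharData
import Cfsg.Agent.Lib.Transfer.RankOne.SylowFacts
import Cfsg.Agent.Lib.Transfer.RankOne.IrrFpf
import Cfsg.Agent.Lib.Char.CohBasic

/-!
The two-point stabiliser cannot act fixed-point-freely on a non-trivial odd part of `Q`.
-/

set_option autoImplicit false
set_option linter.unusedSectionVars false
set_option linter.style.haveILetI false
set_option maxHeartbeats 1600000

namespace Cfsg.Agent.Transfer.RankOne

open MulAction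
open scoped ComplexConjugate
open Cfsg.Agent.Char
open Cfsg.Agent.Lie.RankOne (invol_mem_Q)

universe u v

variable {G : Type u} {Ω : Type v} [Group G] [MulAction G Ω] [Fintype G] [FaithfulSMul G Ω]
  {a : Ω} {t : G} {Q S O : Subgroup G} [Fintype Q] [Fintype S] [Fintype O] (H : Hyp G Ω a t Q)
  (P : Split Q S O)
include H P

/-- The twist of a function on `O`. -/
def oAct (d : dGrp a t) (φ : O → ℂ) : O → ℂ := φ ∘ oConj H P d

theorem oConj_one (x : O) : oConj H P 1 x = x :=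
  Subtype.ext (by show ((1 : dGrp a t) : G)⁻¹ * x * ((1 : dGrp a t) : G) = x; simp)

theorem oConj_mul (d e : dGrp a t) (x : O) : oConj H P e (oConj H P d x) = oConj H P (d * e) x :=
  Subtype.ext (by
    show (e : G)⁻¹ * ((d : G)⁻¹ * x * d) * e = ((d * e : dGrp a t) : G)⁻¹ * x * ((d * e : dGrp a t) : G)
    simp [mul_assoc])

/-- Conjugation on `O` as an automorphism. -/
def oEquiv (d : dGrp a t) : O ≃* O where
  toFun := oConj H P d
  invFun := oConj H P d⁻¹
  left_inv x := by rw [oConj_mul, mul_inv_cancel, oConj_one]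
  right_inv x := by rw [oConj_mul, inv_mul_cancel, oConj_one]
  map_mul' := map_mul _

theorem sConj_irr {μ : S → ℂ} (hμ : IsIrrCharacter S μ) (d : dGrp a t) :
    IsIrrCharacter S (μ ∘ sConj H P d) :=
  IsIrr.comp_mulEquiv
    { toFun := sConj H P d
      invFun := sConj H P d⁻¹
      left_inv := fun x => Subtype.ext (by
        show ((d⁻¹ : dGrp a t) : G)⁻¹ * ((d : G)⁻¹ * x * d) * ((d⁻¹ : dGrp a t) : G) = x
        simp [mul_assoc])
      right_inv := fun x => Subtype.ext (by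
        show (d : G)⁻¹ * (((d⁻¹ : dGrp a t) : G)⁻¹ * x * ((d⁻¹ : dGrp a t) : G)) * d = x
        simp [mul_assoc])
      map_mul' := map_mul _ } hμ

variable (hfpf : ∀ d ∈ dGrp a t, d ≠ 1 → ∀ x ∈ O, d * x = x * d → x = 1)
include hfpf

theorem oAct_free {φ : O → ℂ} (hφ : IsIrrCharacter O φ) (hφ1 : φ ≠ fun _ => 1) {d : dGrp a t}
    (hd : oAct H P d φ = φ) : d = 1 := by
  by_contra hne
  obtain ⟨p, hp, hpd⟩ := Nat.exists_prime_and_dvd (fun h => hne (orderOf_eq_one_iff.1 h) : orderOf d ≠ 1)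
  haveI := Fact.mk hp
  set d' := d ^ (orderOf d / p) with hd'
  have hord : orderOf d' = p := orderOf_pow_orderOf_div (orderOf_pos d).ne' hpd
  have hfix : ∀ m : ℕ, oAct H P (d ^ m) φ = φ := by
    intro m
    induction m with
    | zero => funext x; simp [oAct, oConj_one]
    | succ m ih =>
      funext x
      show φ (oConj H P (d ^ (m + 1)) x) = φ x
      rw [pow_succ, ← oConj_mul]
      exact (congrFun hd _).trans (congrFun ih x)
  have hit : ∀ (m : ℕ) (x : O), (oEquiv H P d' : O → O)^[m] x = oConj H P (d' ^ m) x := by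
    intro m
    induction m with
    | zero => intro x; rw [pow_zero, oConj_one]; rfl
    | succ m ih =>
      intro x
      rw [Function.iterate_succ', Function.comp_apply, ih, pow_succ, ← oConj_mul]
      rfl
  refine hφ1 (irr_eq_one_of_fixed (oEquiv H P d') (p := p) (fun x => ?_) (fun x hx => ?_) hφ (hfix _))
  · rw [hit, ← hord, pow_orderOf_eq_one, oConj_one]
  · refine Subtype.ext (hfpf d' d'.2 (fun h => ?_) x x.2 ?_)
    · have : d' = 1 := Subtype.ext h
      rw [this, orderOf_one] at hord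
      exact hp.one_lt.ne hord
    · have h : (d' : G)⁻¹ * x * d' = x := congrArg Subtype.val hx
      calc (d' : G) * x = d' * ((d' : G)⁻¹ * x * d') := by rw [h]
        _ = _ := by group

/-- The family attached to a character of `O`. -/
theorem fam_free {X : Finset (IrrCharacter O)}
    (hX : ∀ φ ∈ X, ∀ ψ ∈ X, ∀ d, oAct H P d (ψ : O → ℂ) = φ → d = 1) :
    Free H {f : Q → ℂ | ∃ μ : IrrCharacter S, ∃ φ ∈ X, f = P.fn μ (φ : O → ℂ)} := by
  rintro _ ⟨μ, φ, hφ, rfl⟩ _ ⟨μ', ψ, hψ, rfl⟩ d hd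
  refine hX φ hφ ψ hψ d ?_
  have e : qAct H d (P.fn μ' ψ) = P.fn ((μ' : S → ℂ) ∘ sConj H P d) (oAct H P d ψ) := fn_qConj H P _ _ d
  rw [e] at hd
  have hψ' : IsIrrCharacter O (oAct H P d (ψ : O → ℂ)) := IsIrr.comp_mulEquiv (oEquiv H P d) ψ.2
  have hi := classInner_self_irr (P.irr_fn μ.2 φ.2)
  nth_rewrite 1 [← hd] at hi
  rw [P.inner_fn] at hi
  by_contra hne
  rw [classInner_irr_ne hψ' φ.2 hne, mul_zero] at hi
  exact zero_ne_one hi

omit H hfpf in
theorem fn_inj {μ μ' : IrrCharacter S} {φ φ' : IrrCharacter O}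
    (e : P.fn (μ : S → ℂ) φ = P.fn μ' φ') : μ = μ' ∧ φ = φ' := by
  have hi := classInner_self_irr (P.irr_fn μ.2 φ.2)
  nth_rewrite 2 [e] at hi
  rw [P.inner_fn, classInner_irr_eq_ite μ.2 μ'.2, classInner_irr_eq_ite φ.2 φ'.2] at hi
  split_ifs at hi with h1 h2 <;>
    first
    | exact ⟨Subtype.ext h1, Subtype.ext h2⟩
    | norm_num at hi

omit hfpf in
theorem zSet_sum (μ : S → ℂ) (φ : O → ℂ) [Fintype (zS S a)] :
    ∑ x ∈ zSet Q a, P.fn μ φ x = φ 1 * ∑ z : zS S a, μ z := by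
  classical
  rw [Finset.mul_sum]
  refine Finset.sum_bij (fun x hx => (⟨⟨x, zGrp_le_split H P ((mem_zSet (Q := Q)).1 hx)⟩,
    Subgroup.mem_subgroupOf.2 ((mem_zSet (Q := Q)).1 hx)⟩ : zS S a)) (fun _ _ => Finset.mem_univ _) ?_ ?_ ?_
  · intro x _ y _ e
    exact Subtype.ext (congrArg (fun z : zS S a => ((z : S) : G)) e)
  · intro z _
    exact ⟨⟨z.1.1, P.s_le z.1.2⟩, (mem_zSet).2 (Subgroup.mem_subgroupOf.1 z.2), rfl⟩
  · intro x hx
    rw [P.fn_mem_s μ φ (zGrp_le_split H P ((mem_zSet (Q := Q)).1 hx)), mul_comm]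

/-- The two-point stabiliser has a fixed point in a non-trivial odd part. -/
theorem fpf_false (hmap : ∃ T : Sylow 2 Q, S = (T : Subgroup Q).map Q.subtype) (hO : O ≠ ⊥) : False := by
  classical
  haveI : Fintype (zS S a) := Fintype.ofFinite _
  haveI : Fintype (dGrp a t) := Fintype.ofFinite _
  obtain ⟨s, r, hs, hr, -, e, -⟩ := exists_dist H
  have hcs := card_centralizer_dist H hs hr e
  have hsQ : s ∈ Q := invol_mem_Q H.setup hs.1 hs.2.2
  set q := Nat.card (zGrp G a) with hqdef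
  set nv := Nat.card (vGrp a t) with hvdef
  set nd := Nat.card (dGrp a t) with hddef
  set oS := Nat.card S
  set oO := Nat.card O
  have hq4 : 4 ≤ q := four_le_q H
  have hcQ : Nat.card Q = oS * oO := by rw [← Nat.card_congr P.equiv.toEquiv, Nat.card_prod]
  have hzc : Nat.card (zS S a) = q := card_zS H P
  -- degrees of the characters of S
  choose dS hdS0 hdS using fun μ : IrrCharacter S => IsIrr.one_eq_pos μ.2
  have hshape := sylow_shape H P hmap
  have hlin : ∀ μ : IrrCharacter S, (∀ z : zS S a, (μ : S → ℂ) z = (μ : S → ℂ) 1) → dS μ = 1 := by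
    intro μ hμ
    have h1 : (μ : S → ℂ) 1 = 1 := by
      rcases hshape with hab | ⟨-, hcm, -⟩
      · exact IsIrr.one_of_comm (fun x y => Subtype.ext (hab x x.2 y y.2)) μ.2
      · exact linear_of_triv H P.s_le hcm μ.2 hμ
    rw [hdS μ] at h1
    exact_mod_cast h1
  set Triv := Finset.univ.filter fun μ : IrrCharacter S => ∀ z : zS S a, (μ : S → ℂ) z = (μ : S → ℂ) 1
  set Lin := Finset.univ.filter fun μ : IrrCharacter S => dS μ = 1
  have hTsq : (q : ℝ) * ∑ μ ∈ Triv, (dS μ : ℝ) ^ 2 = oS := by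
    have h := sum_sq_triv H P.s_le
    rw [hzc, Finset.sum_congr rfl fun (μ : IrrCharacter S) _ => show (μ : S → ℂ) 1 ^ 2 = (((dS μ : ℝ) ^ 2 : ℝ) : ℂ) by
      rw [hdS]; push_cast; rfl] at h
    have h' : (((q : ℝ) * ∑ μ ∈ Triv, (dS μ : ℝ) ^ 2 : ℝ) : ℂ) = (((oS : ℝ)) : ℂ) := by
      simp only [Complex.ofReal_mul, Complex.ofReal_sum, Complex.ofReal_natCast]
      exact h
    exact Complex.ofReal_injective h'
  have hAsq : ∑ μ : IrrCharacter S, (dS μ : ℝ) ^ 2 = oS := by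
    have h := sum_degree_sq (G := S)
    simp only [hdS] at h
    exact_mod_cast h
  have hTcard : q * Triv.card = oS := by
    have h := hTsq
    rw [Finset.sum_congr rfl fun μ hμ => show (dS μ : ℝ) ^ 2 = 1 by
      rw [hlin μ (Finset.mem_filter.1 hμ).2]; norm_num, Finset.sum_const, nsmul_eq_mul, mul_one] at h
    exact_mod_cast h
  have hTL : Triv ⊆ Lin := fun μ hμ => Finset.mem_filter.2 ⟨Finset.mem_univ _, hlin μ (Finset.mem_filter.1 hμ).2⟩
  have hqS : q ≤ oS := by rw [← hzc]; exact (zS S a).card_le_card_group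
  have hbig : 4 ≤ Lin.card ∧ ∀ μ, dS μ ≠ 1 → 2 * dS μ < Lin.card := by
    rcases hshape with hab | ⟨-, -, -, -, hidx⟩
    · have hall : ∀ μ, dS μ = 1 := fun μ => by
        have h1 := IsIrr.one_of_comm (fun x y => Subtype.ext (hab x x.2 y y.2)) μ.2
        rw [hdS μ] at h1
        exact_mod_cast h1
      refine ⟨?_, fun μ hμ => absurd (hall μ) hμ⟩
      have h := hAsq
      rw [Finset.sum_congr rfl fun μ _ => show (dS μ : ℝ) ^ 2 = 1 by rw [hall μ]; norm_num,
        Finset.sum_const, nsmul_eq_mul, mul_one] at h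
      have hc : (Finset.univ : Finset (IrrCharacter S)).card = oS := by exact_mod_cast h
      rw [show Lin = Finset.univ from Finset.filter_true_of_mem fun μ _ => hall μ, hc]
      omega
    · have hT : Triv.card = (zS S a).index := by
        have h := (zS S a).card_mul_index
        rw [hzc] at h
        exact Nat.eq_of_mul_eq_mul_left (by omega) (hTcard.trans h.symm)
      have hle := Finset.card_le_card hTL
      refine ⟨by omega, fun μ _ => ?_⟩
      have h2 := degree_sq_le_index H P.s_le μ.2 (hdS μ)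
      by_contra hcon
      push Not at hcon
      have h3 : Lin.card ^ 2 ≤ 4 * dS μ ^ 2 := by
        calc Lin.card ^ 2 ≤ (2 * dS μ) ^ 2 := Nat.pow_le_pow_left hcon 2
          _ = _ := by ring
      nlinarith
  obtain ⟨one₀, hone₀⟩ : ∃ μ : IrrCharacter S, (μ : S → ℂ) = fun _ => 1 := ⟨⟨_, isIrr_one⟩, rfl⟩
  have hone1 : dS one₀ = 1 := by
    have := hdS one₀; rw [hone₀] at this; simp only at this; exact_mod_cast this.symm
  have hL1 : one₀ ∈ Lin := Finset.mem_filter.2 ⟨Finset.mem_univ _, hone1⟩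
  obtain ⟨lam1, hlam1, hlam1ne⟩ := Finset.exists_mem_ne (s := Lin) (by omega) one₀
  obtain ⟨μ₁, hμ₁⟩ : ∃ μ : IrrCharacter S, μ ∉ Triv := by
    by_contra hcon
    push Not at hcon
    rw [Finset.eq_univ_iff_forall.2 hcon, hAsq] at hTsq
    have h4 : (4 : ℝ) ≤ q := by exact_mod_cast hq4
    have hS0 : (0 : ℝ) < oS := by exact_mod_cast Nat.card_pos
    nlinarith
  -- orbits on the characters of O
  obtain ⟨X, hX0⟩ : ∃ X : Finset (IrrCharacter O), X = Finset.univ.filter fun φ : IrrCharacter O => (φ : O → ℂ) ≠ fun _ => 1 :=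
    ⟨_, rfl⟩
  let act : dGrp a t → IrrCharacter O → IrrCharacter O := fun d φ =>
    ⟨oAct H P d φ, IsIrr.comp_mulEquiv (oEquiv H P d) φ.2⟩
  obtain ⟨T, hTX, hTg, hTsum⟩ := exists_transversal.{u, u, 0} act (fun φ => Subtype.ext (funext fun x => by
      show (φ : O → ℂ) (oConj H P 1 x) = _; rw [oConj_one]))
    (fun d e' φ => Subtype.ext (funext fun x => by
      show (φ : O → ℂ) (oConj H P e' (oConj H P d x)) = (φ : O → ℂ) (oConj H P (d * e') x); rw [oConj_mul]))
    X (fun φ hφ d => by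
      rw [hX0, Finset.mem_filter] at hφ ⊢
      refine ⟨Finset.mem_univ _, fun h => hφ.2 (funext fun x => ?_)⟩
      obtain ⟨y, rfl⟩ := (oEquiv H P d).surjective x
      exact congrFun h y)
    (fun φ hφ d hd => by
      rw [hX0, Finset.mem_filter] at hφ
      exact oAct_free H P hfpf φ.2 hφ.2 (congrArg Subtype.val hd))
  choose dO hdO0 hdO using fun φ : IrrCharacter O => IsIrr.one_eq_pos φ.2
  have hOsum : (oO : ℝ) - 1 = nd * ∑ φ ∈ T, (dO φ : ℝ) ^ 2 := by
    have h := hTsum (fun φ => (dO φ : ℝ) ^ 2) fun φ _ d => by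
      have h1 : ((act d φ : IrrCharacter O) : O → ℂ) 1 = (φ : O → ℂ) 1 := by
        show (φ : O → ℂ) (oConj H P d 1) = _; rw [map_one]
      rw [hdO, hdO] at h1
      have : dO (act d φ) = dO φ := by exact_mod_cast h1
      simp [this]
    rw [nsmul_eq_mul] at h
    rw [hddef, ← h]
    have hall := sum_degree_sq (G := O)
    simp only [hdO] at hall
    have hall' : ∑ φ : IrrCharacter O, (dO φ : ℝ) ^ 2 = oO := by exact_mod_cast hall
    obtain ⟨one', hone'⟩ : ∃ φ : IrrCharacter O, (φ : O → ℂ) = fun _ => 1 := ⟨⟨_, isIrr_one⟩, rfl⟩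
    have h1' : dO one' = 1 := by have := hdO one'; rw [hone'] at this; simp only at this; exact_mod_cast this.symm
    have hXe : X = Finset.univ.erase one' := by
      ext φ
      rw [hX0, Finset.mem_filter, Finset.mem_erase, ← hone']
      exact ⟨fun h => ⟨fun e => h.2 (by rw [e]), Finset.mem_univ _⟩,
        fun h => ⟨Finset.mem_univ _, fun e => h.1 (Subtype.ext e)⟩⟩
    rw [hXe, Finset.sum_erase_eq_sub (Finset.mem_univ _), hall', h1']
    norm_num
  -- the coherent families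
  let fn : IrrCharacter O → IrrCharacter S → (Q → ℂ) := fun φ μ => P.fn μ φ
  have hfn1 : ∀ φ μ, fn φ μ 1 = ((dS μ * dO φ : ℕ) : ℂ) := fun φ μ => by
    show P.fn _ _ 1 = _
    rw [P.fn_one, hdS, hdO]; push_cast; rfl
  have hfirr : ∀ φ μ, IsIrrCharacter Q (fn φ μ) := fun φ μ => P.irr_fn μ.2 φ.2
  have hfree : Free H {f : Q → ℂ | ∃ μ : IrrCharacter S, ∃ φ ∈ T, f = P.fn μ (φ : O → ℂ)} :=
    fam_free H P hfpf fun φ hφ ψ hψ d hd => hTg φ hφ ψ hψ d (Subtype.ext hd)
  have hfam : ∀ φ ∈ T, ∀ μ, fn φ μ ∈ {f : Q → ℂ | ∃ μ : IrrCharacter S, ∃ φ ∈ T, f = P.fn μ (φ : O → ℂ)} :=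
    fun φ hφ μ => ⟨μ, φ, hφ, rfl⟩
  have hHyp := ind_hyp H (U := {f : Q → ℂ | ∃ μ : IrrCharacter S, ∃ φ ∈ T, f = P.fn μ (φ : O → ℂ)})
    (by rintro _ ⟨μ, φ, -, rfl⟩; exact P.irr_fn μ.2 φ.2) hfree
  have hcoh : ∀ φ : T, ∃ τ : (Q → ℂ) → (G → ℂ),
      IsLinearIsometryOn (zspan (Set.range (fn φ))) τ ∧
      ∀ α ∈ zspanOn (Set.range (fn φ)) {1}ᶜ, τ α = indFun Q α := by
    intro φ
    let U := Lin.image (fn φ)
    let W := (Finset.univ \ Lin).image (fn φ)
    have hUW : (↑U ∪ ↑W : Set (Q → ℂ)) = Set.range (fn φ) := by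
      rw [← Finset.coe_union, ← Finset.image_union, Finset.union_sdiff_of_subset (Finset.subset_univ _),
        Finset.coe_image, Finset.coe_univ, Set.image_univ]
    have hsub : Set.range (fn φ) ⊆ {f : Q → ℂ | ∃ μ : IrrCharacter S, ∃ φ ∈ T, f = P.fn μ (φ : O → ℂ)} := by
      rintro _ ⟨μ, rfl⟩; exact hfam φ φ.2 μ
    have hH1 : Coh.Hyp (↑U ∪ ↑W : Set (Q → ℂ)) (indFun Q : (Q → ℂ) → (G → ℂ)) := hUW ▸ hHyp.mono hsub
    let d : (Q → ℂ) → ℕ := fun f => if h : ∃ μ, fn φ μ = f then dS h.choose * dO φ else 0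
    have hd : ∀ μ, d (fn φ μ) = dS μ * dO φ := fun μ => by
      have h : ∃ μ', fn φ μ' = fn φ μ := ⟨μ, rfl⟩
      show (if h : ∃ μ', fn φ μ' = fn φ μ then _ else _) = _
      rw [dif_pos h, (fn_inj P h.choose_spec).1]
    have hinj : Function.Injective (fn φ) := fun μ μ' e => (fn_inj P e).1
    have hUd : ∀ ξ ∈ U, ξ 1 = ((dO φ : ℕ) : ℂ) := fun ξ hξ => by
      obtain ⟨μ, hμ, rfl⟩ := Finset.mem_image.1 hξ
      rw [hfn1, (Finset.mem_filter.1 hμ).2, one_mul]
    have hc0 := Coh.equal_degree_irr U (hH1.mono Set.subset_union_left) hUd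
      ⟨fn φ lam1, Finset.mem_image_of_mem _ hlam1, fn φ one₀, Finset.mem_image_of_mem _ hL1,
        fun e => hlam1ne (hinj e)⟩
    have hc := Coh.extend_many U d (ψ := fn φ one₀) (Finset.mem_image_of_mem _ hL1) hc0 W ?_ hH1 ?_ ?_ ?_
    · rw [hUW] at hc
      exact hc.2
    · rw [Finset.disjoint_image hinj]
      exact Finset.disjoint_sdiff
    · intro ξ hξ
      obtain ⟨μ, -, rfl⟩ := Finset.mem_image.1 hξ
      rw [hd, hfn1]
    · intro ξ hξ
      obtain ⟨μ, -, rfl⟩ := Finset.mem_image.1 hξ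
      rw [hd, hfn1]
    · intro ξ hξ
      obtain ⟨μ, hμ, rfl⟩ := Finset.mem_image.1 hξ
      have hμ' : dS μ ≠ 1 := fun h => (Finset.mem_sdiff.1 hμ).2 (Finset.mem_filter.2 ⟨Finset.mem_univ _, h⟩)
      rw [hd, hd, hone1, one_mul, Finset.sum_image fun x _ y _ e => hinj e,
        Finset.sum_congr rfl fun ν hν => show d (fn φ ν) ^ 2 = dO φ ^ 2 by
          rw [hd, (Finset.mem_filter.1 hν).2, one_mul], Finset.sum_const, smul_eq_mul]
      refine ⟨Dvd.intro_left _ rfl, ?_⟩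
      calc 2 * dO φ * (dS μ * dO φ) = 2 * dS μ * dO φ ^ 2 := by ring
        _ < Lin.card * dO φ ^ 2 := Nat.mul_lt_mul_of_pos_right (hbig.2 μ hμ') (pow_pos (hdO0 φ) 2)
  choose τ hτ hag using hcoh
  let F : T → IrrCharacter S → (G → ℂ) := fun φ μ => τ φ (fn φ μ)
  have hsigned : ∀ φ μ, IsIrrCharacter G (F φ μ) ∨ IsIrrCharacter G (-F φ μ) := fun φ μ =>
    coh_signed H (by rintro _ ⟨ν, rfl⟩; exact hfirr φ ν) (hτ φ) ⟨μ, rfl⟩
  have horth : ∀ φ μ μ', μ ≠ μ' → classInner (F φ μ) (F φ μ') = 0 := fun φ μ μ' hne =>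
    coh_orth H (by rintro _ ⟨ν, rfl⟩; exact hfirr φ ν) (hτ φ) ⟨μ, rfl⟩ ⟨μ', rfl⟩
      fun e => hne (fn_inj P e).1
  have hpair : ∀ φ μ, F φ μ - (dS μ : ℂ) • F φ one₀ = indFun Q (fn φ μ - (dS μ : ℂ) • fn φ one₀) :=
    fun φ μ => coh_pair H (hτ φ) (hag φ) ⟨μ, rfl⟩ ⟨one₀, rfl⟩ (by
      rw [hfn1, hfn1, hone1]; push_cast; ring)
  have hpair' : ∀ φ, ∀ lam ∈ Lin, ∀ μ, F φ μ - (dS μ : ℂ) • F φ lam = indFun Q (fn φ μ - (dS μ : ℂ) • fn φ lam) :=
    fun φ lam hlam μ => coh_pair H (hτ φ) (hag φ) ⟨μ, rfl⟩ ⟨lam, rfl⟩ (by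
      rw [hfn1, hfn1, (Finset.mem_filter.1 hlam).2]; push_cast; ring)
  -- orthogonality between different orbits
  have hcross : ∀ φ ψ : T, φ ≠ ψ → ∀ μ μ', classInner (F φ μ) (F ψ μ') = 0 := by
    intro φ ψ hne
    have hdif : ∀ lam ∈ Lin, ∀ μ, ∀ lam' ∈ Lin, ∀ μ', classInner (F φ μ - (dS μ : ℂ) • F φ lam)
        (F ψ μ' - (dS μ' : ℂ) • F ψ lam') = 0 := by
      intro lam hlam μ lam' hlam' μ'
      have hm : ∀ (θ : T) ν, ∀ l ∈ Lin, fn θ ν - (dS ν : ℂ) • fn θ l ∈
          zspanOn {f : Q → ℂ | ∃ μ : IrrCharacter S, ∃ φ ∈ T, f = P.fn μ (φ : O → ℂ)} {1}ᶜ := by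
        intro θ ν l hl
        refine ⟨Submodule.sub_mem _ (Submodule.subset_span (hfam θ θ.2 ν)) ?_, fun x hx => ?_⟩
        · rw [← Int.cast_natCast, Int.cast_smul_eq_zsmul]
          exact Submodule.smul_mem _ _ (Submodule.subset_span (hfam θ θ.2 l))
        · simp only [Set.mem_compl_iff, Set.mem_singleton_iff, not_not] at hx
          subst hx
          simp [hfn1, (Finset.mem_filter.1 hl).2]
      rw [hpair' φ lam hlam, hpair' ψ lam' hlam', hHyp.iso.2.2.1 _ (hm φ μ lam hlam) _ (hm ψ μ' lam' hlam')]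
      simp only [classInner_sub_left, classInner_sub_right, classInner_smul_left, classInner_smul_right, fn,
        P.inner_fn, classInner_irr_ne φ.1.2 ψ.1.2 fun e => hne (Subtype.ext (Subtype.ext e))]
      ring
    have hsc : ∀ (θ : T) μ (g : G → ℂ), IsIrrCharacter G g ∨ IsIrrCharacter G (-g) →
        classInner (F θ μ) g ≠ 0 → ∃ ε : ℂ, ε ≠ 0 ∧ g = ε • F θ μ := by
      intro θ μ g hg hne0
      rcases hsigned θ μ with h1 | h1 <;> rcases hg with h2 | h2
      · exact ⟨1, one_ne_zero, by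
          by_contra hc; exact hne0 (classInner_irr_ne h1 h2 fun e => hc (by rw [e, one_smul]))⟩
      · exact ⟨-1, by norm_num, by
          by_contra hc
          refine hne0 ?_
          have h3 := classInner_irr_ne h1 h2 fun e => hc (by rw [e]; simp)
          rwa [classInner_neg_right, neg_eq_zero] at h3⟩
      · exact ⟨-1, by norm_num, by
          by_contra hc
          refine hne0 ?_
          have h3 := classInner_irr_ne h1 h2 fun e => hc (by rw [← e]; simp)
          rwa [classInner_neg_left, neg_eq_zero] at h3⟩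
      · exact ⟨1, one_ne_zero, by
          by_contra hc
          refine hne0 ?_
          have h3 := classInner_irr_ne h1 h2 fun e => hc (by rw [one_smul]; exact (neg_injective e).symm)
          rwa [classInner_neg_left, classInner_neg_right, neg_neg] at h3⟩
    -- linear against linear
    have hLL : ∀ lam ∈ Lin, ∀ lam' ∈ Lin, classInner (F φ lam) (F ψ lam') = 0 := by
      intro lam hlam lam' hlam'
      by_contra hne0
      obtain ⟨ε, hε, hF'⟩ := hsc φ lam _ (hsigned ψ lam') hne0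
      obtain ⟨l2, hl2, hl2ne⟩ := Finset.exists_mem_ne (s := Lin) (by omega) lam
      have hkey : ∀ l ∈ Lin, l ≠ lam' → classInner (F φ l2) (F ψ l) = -conj ε := by
        intro l hl hlne
        have h := hdif l2 hl2 lam l hl lam'
        rw [(Finset.mem_filter.1 hlam).2, (Finset.mem_filter.1 hlam').2, Nat.cast_one, one_smul, one_smul,
          classInner_sub_left, classInner_sub_right, classInner_sub_right] at h
        have h1 : classInner (F φ lam) (F ψ lam') = conj ε := by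
          rw [hF', classInner_smul_right]
          rcases hsigned φ lam with hh | hh
          · rw [classInner_self_irr hh, mul_one]
          · have h5 := classInner_self_irr hh
            rw [classInner_neg_left, classInner_neg_right, neg_neg] at h5
            rw [h5, mul_one]
        have h2 : classInner (F φ l2) (F ψ lam') = 0 := by
          rw [hF', classInner_smul_right, horth φ l2 lam hl2ne, mul_zero]
        have h3 : classInner (F φ lam) (F ψ l) = 0 := by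
          have h4 := horth ψ lam' l (Ne.symm hlne)
          rw [hF', classInner_smul_left] at h4
          exact (mul_eq_zero.1 h4).resolve_left hε
        rw [h1, h2, h3] at h
        linear_combination h
      obtain ⟨l3, hl3, hl3ne⟩ := Finset.exists_mem_ne (s := Lin) (by omega) lam'
      obtain ⟨l4, hl4, hl4ne⟩ := Finset.exists_mem_ne (s := Lin.erase lam') (by
        rw [Finset.card_erase_of_mem hlam']; omega) l3
      obtain ⟨hl4a, hl4b⟩ := Finset.mem_erase.1 hl4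
      have h3 := hkey l3 hl3 hl3ne
      have h4 := hkey l4 hl4b hl4a
      have hnz : classInner (F φ l2) (F ψ l3) ≠ 0 := by rw [h3]; simpa using hε
      obtain ⟨ε', hε', hl3F⟩ := hsc φ l2 _ (hsigned ψ l3) hnz
      have h5 := horth ψ l3 l4 hl4ne.symm
      rw [hl3F, classInner_smul_left, h4] at h5
      rcases mul_eq_zero.1 h5 with h6 | h6
      · exact hε' h6
      · exact hε (by simpa using h6)
    have hML : ∀ μ, ∀ lam' ∈ Lin, classInner (F φ μ) (F ψ lam') = 0 := by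
      intro μ lam' hlam'
      by_contra hne0
      obtain ⟨l3, hl3, hl3ne⟩ := Finset.exists_mem_ne (s := Lin) (by omega) lam'
      have h := hdif one₀ hL1 μ l3 hl3 lam'
      rw [(Finset.mem_filter.1 hlam').2, Nat.cast_one, one_smul, classInner_sub_left, classInner_sub_right,
        classInner_sub_right, classInner_smul_left, classInner_smul_left, hLL _ hL1 _ hlam', hLL _ hL1 _ hl3,
        mul_zero, sub_zero, sub_zero, sub_eq_zero] at h
      obtain ⟨ε, hε, hF'⟩ := hsc φ μ _ (hsigned ψ lam') hne0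
      have h5 := horth ψ lam' l3 hl3ne.symm
      rw [hF', classInner_smul_left, ← h] at h5
      rcases mul_eq_zero.1 h5 with h6 | h6
      · exact hε h6
      · exact hne0 h6
    intro μ μ'
    by_contra hne0
    have hLM : ∀ lam ∈ Lin, classInner (F φ lam) (F ψ μ') = 0 := by
      intro lam hlam
      by_contra h0
      obtain ⟨l2, hl2, hl2ne⟩ := Finset.exists_mem_ne (s := Lin) (by omega) lam
      have h := hdif l2 hl2 lam one₀ hL1 μ'
      rw [(Finset.mem_filter.1 hlam).2, Nat.cast_one, one_smul, classInner_sub_left, classInner_sub_right,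
        classInner_sub_right, classInner_smul_right, classInner_smul_right, hLL _ hlam _ hL1, hLL _ hl2 _ hL1,
        mul_zero, sub_zero, sub_zero, sub_eq_zero] at h
      obtain ⟨ε, hε, hF'⟩ := hsc φ lam _ (hsigned ψ μ') h0
      have h5 : classInner (F φ l2) (F ψ μ') = 0 := by
        rw [hF', classInner_smul_right, horth φ l2 lam hl2ne, mul_zero]
      exact h0 (h.trans h5)
    have h := hdif one₀ hL1 μ one₀ hL1 μ'
    simp only [classInner_sub_left, classInner_sub_right, classInner_smul_left, classInner_smul_right,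
      hML _ _ hL1, hLM _ hL1, hLL _ hL1 _ hL1, mul_zero, sub_zero] at h
    exact hne0 h
  -- the values
  have hint : ∀ φ μ, ∃ n : ℤ, F φ μ s = n := fun φ μ => int_at H hs.2.2
    ((hτ φ).2.2.2 _ (Submodule.subset_span ⟨μ, rfl⟩))
  have hint1 : ∀ φ, ∃ n : ℤ, F φ one₀ 1 = n := fun φ => by
    rcases hsigned φ one₀ with h | h
    · obtain ⟨m, -, hm⟩ := IsIrr.one_eq_pos h; exact ⟨m, by rw [hm]; norm_num⟩
    · obtain ⟨m, -, hm⟩ := IsIrr.one_eq_pos h
      exact ⟨-(m : ℤ), by rw [show F φ one₀ 1 = -((-F φ one₀) 1) by simp, hm]; push_cast; rfl⟩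
  choose nn hnn using hint
  choose dd hdd using hint1
  let κ : T → ℝ := fun φ => (nn φ one₀ : ℝ) / dO φ - nd
  have hy0 : ∀ φ : IrrCharacter O, ((dO φ : ℕ) : ℂ) ≠ 0 := fun φ => Nat.cast_ne_zero.2 (hdO0 φ).ne'
  have hvalue : ∀ φ μ, (nn φ μ : ℝ) = (dS μ : ℝ) * dO φ *
      (κ φ + if μ ∈ Triv then (nd : ℝ) else -(nv : ℝ)) := by
    intro φ μ
    have h := congrFun (hpair φ μ) s
    rw [ind_at_s H hs hr e (classFunction_sub (IsIrr.classFun (hfirr φ μ))
      (classFunction_smul _ (IsIrr.classFun (hfirr φ one₀))))] at h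
    simp only [Pi.sub_apply, Pi.smul_apply, smul_eq_mul, Finset.sum_sub_distrib, ← Finset.mul_sum, fn,
      zSet_sum H P, hfn1, hnn, hone1, one_mul] at h
    simp only [hdO, hone₀, Nat.cast_mul, Finset.sum_const, Finset.card_univ, nsmul_eq_mul, mul_one, ← Nat.card_eq_fintype_card, hzc] at h
    have hqv : (q : ℝ) * nv = nd + nv := by
      rw [hddef, card_dGrp H, hqdef, ← card_kGrp H]; push_cast; ring
    have hy : (dO φ : ℝ) ≠ 0 := Nat.cast_ne_zero.2 (hdO0 φ).ne'
    rcases zS_sum H P.s_le μ.2 with ⟨h1, h2⟩ | ⟨h1, h2⟩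
    · rw [if_pos (show μ ∈ Triv from Finset.mem_filter.2 ⟨Finset.mem_univ _, h1⟩)]
      rw [h2, hzc, hdS] at h
      have h' : (nn φ μ : ℝ) - dS μ * nn φ one₀ =
          nv * ((dO φ : ℝ) * ((q : ℝ) * dS μ) - dS μ * ((dO φ : ℝ) * q) - ((dS μ : ℝ) * dO φ - dS μ * dO φ)) := by
        apply Complex.ofReal_injective
        push_cast
        linear_combination h
      simp only [κ]
      field_simp
      linear_combination h'
    · rw [if_neg (show μ ∉ Triv from fun hh => h1 (Finset.mem_filter.1 hh).2)]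
      rw [h2] at h
      have h' : (nn φ μ : ℝ) - dS μ * nn φ one₀ =
          nv * (- (dS μ * ((dO φ : ℝ) * q)) - ((dS μ : ℝ) * dO φ - dS μ * dO φ)) := by
        apply Complex.ofReal_injective
        push_cast
        linear_combination h
      simp only [κ]
      field_simp
      linear_combination h' - (dS μ : ℝ) * dO φ * hqv
  have hdeg : ∀ φ μ, F φ μ 1 = (dS μ : ℂ) * (dd φ : ℂ) := fun φ μ => by
    have h := congrFun (hpair φ μ) 1
    rw [indFun_one_eq] at h
    simp only [Pi.sub_apply, Pi.smul_apply, smul_eq_mul, hdd, hfn1, hone1, one_mul, Nat.cast_mul, sub_self,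
      mul_zero, sub_eq_zero] at h
    exact h
  -- the degree relation
  have hN : (Nat.card G : ℝ) = (oS : ℝ) * oO * nd * ((oS : ℝ) * oO + 1) := by
    have h := Lie.RankOne.card_group H.setup
    rw [hcQ] at h
    exact_mod_cast h
  have hq1 : (nd : ℝ) = ((q : ℝ) - 1) * nv := by
    rw [hddef, card_dGrp H, hqdef, ← card_kGrp H]; push_cast; ring
  have hkappa : ∀ φ : T, ((q : ℝ) - 2) ^ 2 * (nv : ℝ) ^ 2 < 8 * κ φ ^ 2 := by
    intro φ
    have hs0 : F φ one₀ s = (dO φ : ℂ) * ((κ φ : ℂ) + (nd : ℂ)) := by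
      rw [hnn]
      simp only [κ]
      push_cast
      field_simp [hy0 φ]
      ring
    have hrel := degree_relation H hs hr e (hsigned φ μ₁) (hsigned φ one₀) (k := dS μ₁) (hdS0 μ₁).ne'
      (ξ := fn φ μ₁ - (dS μ₁ : ℂ) • fn φ one₀) (by simp [hfn1, hone1]) (hpair φ μ₁) (hy0 φ) (κ := (κ φ : ℂ)) ?_ ?_
      hs0 (by rw [hdeg, hdd])
    rotate_left
    · simp only [Pi.sub_apply, Pi.smul_apply, smul_eq_mul, Finset.sum_sub_distrib, ← Finset.mul_sum, fn,
        zSet_sum H P, hdO, hone₀, Finset.sum_const, Finset.card_univ, nsmul_eq_mul, ← Nat.card_eq_fintype_card, hzc]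
      rcases zS_sum H P.s_le μ₁.2 with ⟨h1, -⟩ | ⟨-, h2⟩
      · exact absurd (Finset.mem_filter.2 ⟨Finset.mem_univ _, h1⟩) hμ₁
      · rw [h2]; ring
    · rw [hnn]
      have h := hvalue φ μ₁
      rw [if_neg hμ₁] at h
      have h' : ((nn φ μ₁ : ℝ) : ℂ) = ((dS μ₁ : ℝ) * dO φ * (κ φ + -(nv : ℝ)) : ℝ) := congrArg _ h
      push_cast at h' ⊢
      linear_combination h'
    have hrelR : (dd φ : ℝ) * ((q : ℝ) - 2) =
        dO φ * ((oS : ℝ) * oO + 1) * ((q : ℝ) - 1) * ((nd : ℝ) - nv + 2 * κ φ) := by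
      rw [hdd, hcQ] at hrel
      apply Complex.ofReal_injective
      push_cast at hrel ⊢
      linear_combination hrel
    have hD : (dd φ : ℝ) ^ 2 * oS ≤ Nat.card G := by
      have h := signed_column_le (Finset.univ : Finset (IrrCharacter S)) (F φ) (fun μ _ => hsigned φ μ)
        (fun μ _ μ' _ hne => horth φ μ μ' hne) (1 : G)
      have hc : Nat.card (Subgroup.centralizer ({1} : Set G)) = Nat.card G :=
        Nat.card_congr (Equiv.subtypeUnivEquiv fun x => by simp [Subgroup.mem_centralizer_singleton_iff])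
      rw [hc] at h
      have hval : ∀ μ, Complex.normSq (F φ μ 1) = (dS μ : ℝ) ^ 2 * (dd φ : ℝ) ^ 2 := fun μ => by
        rw [hdeg, show ((dS μ : ℂ) * (dd φ : ℂ)) = (((dS μ : ℝ) * (dd φ : ℝ) : ℝ) : ℂ) by push_cast; rfl,
          Complex.normSq_ofReal]
        ring
      rw [Finset.sum_congr rfl fun μ _ => hval μ, ← Finset.sum_mul, hAsq] at h
      linarith
    have hy1 : (1 : ℝ) ≤ dO φ := by exact_mod_cast hdO0 φ
    have hS4 : (4 : ℝ) ≤ oS := by exact_mod_cast hq4.trans hqS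
    have hO1 : (1 : ℝ) ≤ oO := by exact_mod_cast Nat.card_pos (α := O)
    have hq4' : (4 : ℝ) ≤ q := by exact_mod_cast hq4
    have hv1 : (1 : ℝ) ≤ nv := by exact_mod_cast Nat.card_pos (α := vGrp a t)
    set τ0 : ℝ := nv + 2 * κ φ / ((q : ℝ) - 2) with hτ0
    have hne2 : (q : ℝ) - 2 ≠ 0 := by linarith
    have hddv : (dd φ : ℝ) = dO φ * ((oS : ℝ) * oO + 1) * ((q : ℝ) - 1) * τ0 := by
      rw [hτ0]
      field_simp
      linear_combination hrelR + (dO φ : ℝ) * ((oS : ℝ) * oO + 1) * ((q : ℝ) - 1) * hq1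
    rw [hN, hddv, hq1] at hD
    set N : ℝ := (oS : ℝ) * oO + 1
    have hNpos : 0 < N := by positivity
    have h12 : 12 * τ0 ^ 2 < nv := by
      have h1 : (dO φ : ℝ) ^ 2 * N * ((q : ℝ) - 1) * τ0 ^ 2 ≤ oO * nv := by
        refine le_of_mul_le_mul_left ?_ (show (0 : ℝ) < N * ((q : ℝ) - 1) * oS by
          have : (0 : ℝ) < (q : ℝ) - 1 := by linarith
          positivity)
        nlinarith [hD]
      have h2 : (1 : ℝ) ≤ (dO φ : ℝ) ^ 2 := one_le_pow₀ hy1
      have h3 : 12 * (oO : ℝ) < (dO φ : ℝ) ^ 2 * N * ((q : ℝ) - 1) := by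
        have : 4 * (oO : ℝ) + 1 ≤ N := by simp only [N]; nlinarith
        calc 12 * (oO : ℝ) < 1 * (4 * oO + 1) * 3 := by linarith
          _ ≤ (dO φ : ℝ) ^ 2 * N * ((q : ℝ) - 1) := by
            apply mul_le_mul (mul_le_mul h2 this (by positivity) (by positivity)) (by linarith) (by norm_num) (by positivity)
      by_contra hcon
      push Not at hcon
      nlinarith [sq_nonneg τ0]
    have hk : 2 * κ φ = ((q : ℝ) - 2) * (τ0 - nv) := by rw [hτ0]; field_simp; ring
    have hτb : τ0 ^ 2 < (0.29 * (nv : ℝ)) ^ 2 := by nlinarith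
    have hτlt : τ0 < 0.29 * nv := lt_of_abs_lt (abs_lt_of_sq_lt_sq hτb (by positivity))
    have h1 : 0.5 * (nv : ℝ) ^ 2 < (τ0 - nv) ^ 2 := by nlinarith
    have h2 : 0 < ((q : ℝ) - 2) ^ 2 := by positivity
    have h3 : (2 * κ φ) ^ 2 = ((q : ℝ) - 2) ^ 2 * (τ0 - nv) ^ 2 := by rw [hk]; ring
    linarith [mul_lt_mul_of_pos_left h1 h2, h3, show (2 * κ φ) ^ 2 = 4 * κ φ ^ 2 by ring]
  -- the column inequality
  have hcol : ∑ φ : T, ∑ μ : IrrCharacter S, (nn φ μ : ℝ) ^ 2 ≤ (oS : ℝ) * oO * nv := by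
    have h := signed_column_le (Finset.univ : Finset (T × IrrCharacter S)) (fun p => F p.1 p.2)
      (fun p _ => hsigned p.1 p.2) (fun p _ p' _ hne => by
        by_cases h1 : p.1 = p'.1
        · rw [← h1]; exact horth p.1 _ _ fun e => hne (Prod.ext h1 e)
        · exact hcross _ _ h1 _ _) s
    rw [Fintype.sum_prod_type, hcs, hcQ] at h
    push_cast at h
    refine le_trans (le_of_eq ?_) h
    refine Finset.sum_congr rfl fun φ _ => Finset.sum_congr rfl fun μ _ => ?_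
    rw [hnn, show ((nn φ μ : ℤ) : ℂ) = ((nn φ μ : ℝ) : ℂ) by push_cast; rfl, Complex.normSq_ofReal]
    ring
  have hsumsq : ∀ φ : T, ∑ μ : IrrCharacter S, (nn φ μ : ℝ) ^ 2 =
      (dO φ : ℝ) ^ 2 * oS * ((nd : ℝ) * nv + κ φ ^ 2) := by
    intro φ
    have hsplit : ∑ μ : IrrCharacter S, (nn φ μ : ℝ) ^ 2 =
        (dO φ : ℝ) ^ 2 * ((κ φ + nd) ^ 2 * ∑ μ ∈ Triv, (dS μ : ℝ) ^ 2 +
          (κ φ - nv) ^ 2 * ∑ μ ∈ Finset.univ \ Triv, (dS μ : ℝ) ^ 2) := by
      rw [← Finset.sum_sdiff (Finset.subset_univ Triv), mul_add, Finset.mul_sum, Finset.mul_sum,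
        Finset.mul_sum, Finset.mul_sum, add_comm]
      congr 1
      · refine Finset.sum_congr rfl fun μ hμ => ?_
        rw [hvalue, if_pos hμ]; ring
      · refine Finset.sum_congr rfl fun μ hμ => ?_
        rw [hvalue, if_neg (Finset.mem_sdiff.1 hμ).2]; ring
    have hcompl : ∑ μ ∈ Finset.univ \ Triv, (dS μ : ℝ) ^ 2 = (oS : ℝ) - ∑ μ ∈ Triv, (dS μ : ℝ) ^ 2 := by
      rw [← hAsq, ← Finset.sum_sdiff (Finset.subset_univ Triv), add_sub_cancel_right]
    have hq0 : (q : ℝ) ≠ 0 := Nat.cast_ne_zero.2 (by omega)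
    rw [hsplit, hcompl, show (∑ μ ∈ Triv, (dS μ : ℝ) ^ 2) = (oS : ℝ) / q by
      rw [eq_div_iff hq0, ← hTsq, mul_comm], hq1]
    field_simp
    ring
  rw [Finset.sum_congr rfl fun φ _ => hsumsq φ] at hcol
  haveI hTne : Nonempty T := by
    by_contra hcon
    have hT0 : T = ∅ := Finset.eq_empty_of_forall_notMem fun φ hφ => hcon ⟨⟨φ, hφ⟩⟩
    rw [hT0, Finset.sum_empty, mul_zero] at hOsum
    have : (2 : ℝ) ≤ oO := by exact_mod_cast (Subgroup.one_lt_card_iff_ne_bot O).2 hO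
    linarith
  have hlow : (∑ φ : T, (dO φ : ℝ) ^ 2) * oS * ((nd : ℝ) * nv + ((q : ℝ) - 2) ^ 2 * (nv : ℝ) ^ 2 / 8) <
      (oS : ℝ) * oO * nv := by
    refine lt_of_eq_of_lt ?_ (lt_of_lt_of_le (Finset.sum_lt_sum_of_nonempty (f := fun φ : T => (dO φ : ℝ) ^ 2 * oS *
        ((nd : ℝ) * nv + ((q : ℝ) - 2) ^ 2 * (nv : ℝ) ^ 2 / 8)) Finset.univ_nonempty fun φ _ => ?_) hcol)
    · rw [Finset.sum_mul, Finset.sum_mul]
    · refine mul_lt_mul_of_pos_left ?_ (mul_pos (pow_pos (Nat.cast_pos.2 (hdO0 φ)) 2) (Nat.cast_pos.2 Nat.card_pos))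
      have := hkappa φ
      linarith
  rw [Finset.sum_coe_sort T fun φ => (dO φ : ℝ) ^ 2] at hlow
  -- counting
  obtain ⟨j, hj⟩ : ∃ j : ℕ, oO = 1 + 2 * (Nat.card (kGrp a t) * j) ∧ 0 < j := by
    have hK : (Nat.card (kGrp a t) : ℕ) + 1 = q := card_kGrp H
    have hnatsum : oO - 1 = nd * ∑ φ ∈ T, dO φ ^ 2 := by
      have h : ((oO - 1 : ℕ) : ℝ) = ((nd * ∑ φ ∈ T, dO φ ^ 2 : ℕ) : ℝ) := by
        rw [Nat.cast_sub Nat.card_pos, Nat.cast_mul, Nat.cast_sum]
        push_cast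
        exact hOsum
      exact_mod_cast h
    have hoo : Odd oO := P.odd
    have hO2 : 2 ≤ oO := (Subgroup.one_lt_card_iff_ne_bot O).2 hO
    have hdodd : Odd nd := H.setup.odd_card
    obtain ⟨w, hw⟩ : Even (∑ φ ∈ T, dO φ ^ 2) := by
      rcases Nat.even_or_odd (∑ φ ∈ T, dO φ ^ 2) with h | h
      · exact h
      · exfalso
        have := hdodd.mul h
        rw [← hnatsum] at this
        obtain ⟨m, hm⟩ := hoo
        obtain ⟨m', hm'⟩ := this
        omega
    refine ⟨nv * w, ?_, ?_⟩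
    · rw [hw, hddef, card_dGrp H] at hnatsum
      rw [show 2 * (Nat.card (kGrp a t) * (nv * w)) = Nat.card (kGrp a t) * nv * (w + w) by ring, ← hnatsum]
      omega
    · by_contra hcon
      push Not at hcon
      rcases Nat.mul_eq_zero.1 (Nat.le_zero.1 hcon) with h | h
      · exact Nat.card_pos.ne' h
      · rw [hw, h] at hnatsum; omega
  have hj1 : (oO : ℝ) - 1 ≥ 2 * ((q : ℝ) - 1) := by
    have h1 : oO ≥ 1 + 2 * Nat.card (kGrp a t) := by rw [hj.1]; have := hj.2; nlinarith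
    have h2 : (oO : ℝ) ≥ 1 + 2 * (Nat.card (kGrp a t) : ℝ) := by exact_mod_cast h1
    have h3 : (q : ℝ) = (Nat.card (kGrp a t) : ℝ) + 1 := by rw [hqdef, ← card_kGrp H]; push_cast; rfl
    linarith
  have hS0 : (0 : ℝ) < oS := by exact_mod_cast Nat.card_pos
  have hv1 : (1 : ℝ) ≤ nv := by exact_mod_cast Nat.card_pos (α := vGrp a t)
  have hq4' : (4 : ℝ) ≤ q := by exact_mod_cast hq4
  set A := ∑ φ ∈ T, (dO φ : ℝ) ^ 2
  have hA : A * ((nd : ℝ) * nv + ((q : ℝ) - 2) ^ 2 * (nv : ℝ) ^ 2 / 8) < oO * nv := by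
    refine lt_of_mul_lt_mul_left ?_ hS0.le
    nlinarith [hlow]
  have hmain : ((oO : ℝ) - 1) * ((q : ℝ) - 2) ^ 2 < 8 * ((q : ℝ) - 1) := by
    have hnd : (0 : ℝ) < nd := Nat.cast_pos.2 Nat.card_pos
    have h1 := mul_lt_mul_of_pos_left hA hnd
    rw [show (nd : ℝ) * (A * ((nd : ℝ) * nv + ((q : ℝ) - 2) ^ 2 * (nv : ℝ) ^ 2 / 8)) =
      ((nd : ℝ) * A) * ((nd : ℝ) * nv + ((q : ℝ) - 2) ^ 2 * (nv : ℝ) ^ 2 / 8) by ring, ← hOsum, hq1] at h1
    refine lt_of_mul_lt_mul_left ?_ (show (0 : ℝ) ≤ (nv : ℝ) ^ 2 by positivity)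
    nlinarith [h1]
  have hsq4 : (4 : ℝ) ≤ ((q : ℝ) - 2) ^ 2 := by nlinarith
  nlinarith [mul_le_mul hj1 hsq4 (by norm_num) (by linarith)]

end Cfsg.Agent.Transfer.RankOne
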