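import Cfsg.Agent.Lib.Transfer.RankOne.CubeFix
import Cfsg.Agent.Lib.Transfer.RankOne.EllTorus

/-!
The cells as Möbius transformations of the orbit of `a`.
-/

set_option autoImplicit false
set_option linter.unusedSectionVars false
set_option linter.style.haveILetI false

namespace Cfsg.Agent.Transfer.RankOne

open MulAction Matrix
open scoped MatrixGroups
open Cfsg.Agent.Lie.RankOne (b_ne q_fix q_unique t_smul_b ne_of_q_smul)

universe u v

variable {G : Type u} {Ω : Type v} [Group G] [MulAction G Ω] [Finite G] [FaithfulSMul G Ω]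
  {a : Ω} {t : G} {Q : Subgroup G} {F : Type} [Field F] [Finite F] [CharP F 2] (E : Env a t Q F)

/-- The point of a non-zero vector. -/
noncomputable def pv (v : Fin 2 → F) : Ω :=
  open scoped _root_.Classical in
  if v 1 = 0 then a else E.C.e (v 0 / v 1) • (t • a)

variable (hrz : E.r ∈ zGrp G a)
include hrz

omit [Finite F] [CharP F 2] in
theorem pv_inB (v : Fin 2 → F) : InB E hrz (pv E v) := by
  unfold pv
  split_ifs with h
  · exact Or.inl rfl
  · exact Or.inr ⟨_, E.C.e_mem _, rfl⟩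

omit [Finite F] [CharP F 2] in
theorem exists_pv {c : Ω} (hc : InB E hrz c) : ∃ v : Fin 2 → F, v ≠ 0 ∧ pv E v = c := by
  rcases hc with rfl | ⟨z, hz, rfl⟩
  · exact ⟨![1, 0], by simp, by simp [pv]⟩
  · obtain ⟨y, rfl⟩ := E.C.e_surj z hz
    exact ⟨![y, 1], by simp, by simp [pv]⟩

omit [Finite F] [CharP F 2] in
theorem pv_eq {v w : Fin 2 → F} (h : pv E v = pv E w) : v 0 * w 1 = v 1 * w 0 := by
  have H := E.hyp
  unfold pv at h
  split_ifs at h with h1 h2 h2
  · rw [h1, h2]; ring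
  · exact absurd h.symm (ne_of_q_smul H.setup (zGrp_le H (E.C.e_mem _)) (b_ne H.setup))
  · exact absurd h (ne_of_q_smul H.setup (zGrp_le H (E.C.e_mem _)) (b_ne H.setup))
  · have := E.C.e_inj (q_unique H.setup (zGrp_le H (E.C.e_mem _)) (zGrp_le H (E.C.e_mem _)) h)
    rw [div_eq_div_iff h1 h2] at this
    rw [this, mul_comm]

/-- An element acts on the orbit of `a` by a matrix. -/
def MRel (_h : E.r ∈ zGrp G a) (g : G) (M : SL(2, F)) : Prop := ∀ v : Fin 2 → F, v ≠ 0 → g • pv E v = pv E (M.1 *ᵥ v)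

omit hrz [Finite F] [CharP F 2] in
theorem mulVec_ne {M : SL(2, F)} {v : Fin 2 → F} (hv : v ≠ 0) : M.1 *ᵥ v ≠ 0 := fun h => hv (by
  have h1 := congrArg (fun w => (M⁻¹).1 *ᵥ w) h
  rwa [Matrix.mulVec_mulVec, ← Matrix.SpecialLinearGroup.coe_mul, inv_mul_cancel, Matrix.SpecialLinearGroup.coe_one,
    Matrix.one_mulVec, Matrix.mulVec_zero] at h1)

omit [Finite F] [CharP F 2] in
theorem mrel_mul {g h : G} {M N : SL(2, F)} (hg : MRel E hrz g M) (hh : MRel E hrz h N) :
    MRel E hrz (g * h) (M * N) := fun v hv => by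
  rw [mul_smul, hh v hv, hg _ (mulVec_ne hv), Matrix.SpecialLinearGroup.coe_mul, Matrix.mulVec_mulVec]

omit [Finite F] in
theorem mrel_unique {g : G} {M N : SL(2, F)} (hM : MRel E hrz g M) (hN : MRel E hrz g N) : M = N := by
  set K := M⁻¹ * N with hK
  have hMK : N = M * K := by rw [hK, mul_inv_cancel_left]
  have key : ∀ v : Fin 2 → F, v ≠ 0 → (K.1 *ᵥ v) 0 * v 1 = (K.1 *ᵥ v) 1 * v 0 := by
    intro v hv
    have h := pv_eq E hrz ((hN v hv).symm.trans (hM v hv))
    rw [hMK, Matrix.SpecialLinearGroup.coe_mul, ← Matrix.mulVec_mulVec] at h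
    have hd : M.1 0 0 * M.1 1 1 - M.1 0 1 * M.1 1 0 = 1 := by rw [← Matrix.det_fin_two]; exact M.2
    generalize K.1 *ᵥ v = w at h ⊢
    simp only [Matrix.mulVec, dotProduct, Fin.sum_univ_two] at h
    linear_combination h - (w 0 * v 1 - w 1 * v 0) * hd
  have h0 := key ![1, 0] (by simp)
  have h1 := key ![0, 1] (by simp)
  have h2 := key ![1, 1] (by simp)
  simp [Matrix.mulVec, dotProduct] at h0 h1 h2
  replace h0 : K.1 1 0 = 0 := by simpa [eq_comm] using h0
  replace h1 : K.1 0 1 = 0 := by simpa [eq_comm] using h1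
  have hd : K.1 0 0 * K.1 1 1 - K.1 0 1 * K.1 1 0 = 1 := by rw [← Matrix.det_fin_two]; exact K.2
  have h00 : K.1 0 0 = K.1 1 1 := by linear_combination h2 + h0 - h1
  have hone : K.1 0 0 = 1 := by
    have : (K.1 0 0 + 1) * (K.1 0 0 + 1) = 0 := by
      linear_combination hd + K.1 0 0 * h00 + K.1 0 1 * h0 + (K.1 0 0 + 1) * CharTwo.two_eq_zero (R := F)
    exact CharTwo.add_eq_zero.1 (mul_self_eq_zero.1 this)
  have hK1 : K = 1 := by
    refine Subtype.ext (Matrix.ext fun i k => ?_)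
    fin_cases i <;> fin_cases k <;> simp [h0, h1, hone, ← h00]
  rw [hMK, hK1, mul_one]

omit [CharP F 2] in
/-- An element of the cells is determined by its action on the orbit of `a`. -/
theorem eq_one_of_fix_b {g : G} (hg : g ∈ lGrp E hrz) (h : ∀ c, InB E hrz c → g • c = c) : g = 1 := by
  have H := E.hyp
  have hd : g ∈ dGrp a t := ⟨mem_stabilizer_iff.2 (h a (Or.inl rfl)),
    mem_stabilizer_iff.2 (h _ (Or.inr ⟨1, one_mem _, (one_smul G _).symm⟩))⟩
  exact k_fix_third H (lGrp_dGrp E hrz hg hd) (ne_of_q_smul H.setup E.hr (b_ne H.setup))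
    (fun e => E.r_ne (Lie.RankOne.q_b H.setup E.hr e)) (h _ (Or.inr ⟨E.r, hrz, rfl⟩))

/-- Upper triangular unipotent matrices. -/
def mU (y : F) : SL(2, F) := ⟨!![1, y; 0, 1], by simp [Matrix.det_fin_two_of]⟩

/-- Diagonal matrices. -/
def mD (u : Fˣ) : SL(2, F) := ⟨!![(u : F), 0; 0, (u : F)⁻¹], by simp [Matrix.det_fin_two_of]⟩

/-- The exchanging matrix. -/
def mW : SL(2, F) := ⟨!![0, 1; 1, 0], by simp [Matrix.det_fin_two_of, CharTwo.neg_eq]⟩

omit [Finite F] [CharP F 2] in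
theorem mrel_z (y : F) : MRel E hrz (E.C.e y) (mU y) := by
  have H := E.hyp
  intro v hv
  have h1 : ((mU y).1 *ᵥ v) 1 = v 1 := by simp [mU, Matrix.mulVec, dotProduct, Fin.sum_univ_two]
  have h0 : ((mU y).1 *ᵥ v) 0 = v 0 + y * v 1 := by simp [mU, Matrix.mulVec, dotProduct, Fin.sum_univ_two]
  unfold pv
  rw [h1, h0]
  split_ifs with h
  · exact q_fix H.setup (zGrp_le H (E.C.e_mem y))
  · rw [← mul_smul, ← E.C.e_add, add_div, mul_div_cancel_right₀ _ h, add_comm]

omit [Finite F] [CharP F 2] in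
theorem mrel_k (u : Fˣ) : MRel E hrz (E.C.kap (u * u)) (mD u) := by
  have H := E.hyp
  intro v hv
  have h1 : ((mD u).1 *ᵥ v) 1 = (u : F)⁻¹ * v 1 := by simp [mD, Matrix.mulVec, dotProduct, Fin.sum_univ_two]
  have h0 : ((mD u).1 *ᵥ v) 0 = (u : F) * v 0 := by simp [mD, Matrix.mulVec, dotProduct, Fin.sum_univ_two]
  have hk := kGrp_le_dGrp H (E.C.kap_mem (u * u))
  unfold pv
  rw [h1, h0]
  by_cases h : v 1 = 0
  · rw [if_pos h, if_pos (by rw [h, mul_zero])]
    exact mem_stabilizer_iff.1 hk.1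
  · rw [if_neg h, if_neg (mul_ne_zero (inv_ne_zero u.ne_zero) h)]
    have e : E.C.kap (u * u) * E.C.e (v 0 / v 1) =
        E.C.e ((u : F) * v 0 / ((u : F)⁻¹ * v 1)) * E.C.kap (u * u) := by
      refine mul_inv_eq_iff_eq_mul.1 ((E.C.conj _ _).trans (congrArg E.C.e ?_))
      rw [Units.val_mul]
      have := u.ne_zero
      field_simp
    rw [← mul_smul, e, mul_smul, mem_stabilizer_iff.1 hk.2]

omit [CharP F 2] in
/-- The involution `t` inverts the coordinate. -/
theorem t_e {y : F} (hy : y ≠ 0) : t • (E.C.e y • (t • a)) = E.C.e y⁻¹ • (t • a) := by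
  have H := E.hyp
  set c : Fˣ := Units.mk0 y hy
  set k := E.C.kap c
  have hk := E.C.kap_mem c
  have hrs : E.r = E.s := r_eq_s E hrz
  have hks : E.C.e y = k * E.s * k⁻¹ := by
    have h := E.C.conj c 1
    rw [mul_one, E.C.e_one] at h
    exact h.symm
  have hkr : E.C.e y⁻¹ = k⁻¹ * E.r * k := by
    have h := E.C.conj c⁻¹ 1
    rw [mul_one, E.C.e_one] at h
    have hinv : E.C.kap c⁻¹ = k⁻¹ := by
      refine eq_inv_of_mul_eq_one_left ?_
      rw [← E.C.kap_mul, inv_mul_cancel]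
      exact mul_eq_left.1 ((E.C.kap_mul 1 1).symm.trans (by rw [one_mul]))
    rw [hinv, inv_inv, Units.val_inv_eq_inv_val] at h
    rw [hrs]
    exact h.symm
  have hka : k • a = a := mem_stabilizer_iff.1 (kGrp_le_dGrp H hk).1
  have hkb : k • (t • a) = t • a := mem_stabilizer_iff.1 (kGrp_le_dGrp H hk).2
  have hts : t • (E.s • (t • a)) = E.r • (t • a) := by rw [← hrs]; exact E.hrt
  have htk : t * k = k⁻¹ * t := by
    rw [← t_k H hk, mul_assoc (t * k), H.setup.mul_self, mul_one]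
  calc t • (E.C.e y • (t • a)) = (t * k) • (E.s • (k⁻¹ • (t • a))) := by
        rw [hks, mul_smul, mul_smul, mul_smul]
    _ = k⁻¹ • (t • (E.s • (t • a))) := by rw [inv_smul_eq_iff.2 hkb.symm, htk, mul_smul]
    _ = k⁻¹ • (E.r • (k • (t • a))) := by rw [hts, hkb]
    _ = _ := by rw [hkr, mul_smul, mul_smul]

theorem mrel_t : MRel E hrz t (mW (F := F)) := by
  have H := E.hyp
  intro v hv
  have h1 : ((mW (F := F)).1 *ᵥ v) 1 = v 0 := by simp [mW, Matrix.mulVec, dotProduct, Fin.sum_univ_two]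
  have h0 : ((mW (F := F)).1 *ᵥ v) 0 = v 1 := by simp [mW, Matrix.mulVec, dotProduct, Fin.sum_univ_two]
  have he0 : E.C.e 0 = 1 := e_zero E.C
  unfold pv
  rw [h1, h0]
  by_cases hv1 : v 1 = 0
  · have hv0 : v 0 ≠ 0 := fun h => hv (by ext i; fin_cases i <;> assumption)
    rw [if_pos hv1, if_neg hv0, hv1, zero_div, he0, one_smul]
  · rw [if_neg hv1]
    by_cases hv0 : v 0 = 0
    · rw [if_pos hv0, hv0, zero_div, he0, one_smul, t_smul_b H.setup]
    · rw [if_neg hv0, t_e E hrz (div_ne_zero hv0 hv1), inv_div]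

theorem exists_mrel {g : G} (hg : g ∈ lGrp E hrz) : ∃ M, MRel E hrz g M := by
  have H := E.hyp
  have hk : ∀ k ∈ kGrp a t, ∃ M, MRel E hrz k M := fun k hk => by
    obtain ⟨c, rfl⟩ := E.C.kap_surj k hk
    obtain ⟨u, hu⟩ := FiniteField.isSquare_of_char_two (ringChar.eq F 2) (c : F)
    have hu0 : u ≠ 0 := fun h => c.ne_zero (by rw [hu, h, zero_mul])
    rw [show c = Units.mk0 u hu0 * Units.mk0 u hu0 from Units.ext (by simpa using hu)]
    exact ⟨_, mrel_k E hrz _⟩
  have hz : ∀ z ∈ zGrp G a, ∃ M, MRel E hrz z M := fun z hz => by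
    obtain ⟨y, rfl⟩ := E.C.e_surj z hz
    exact ⟨_, mrel_z E hrz y⟩
  rcases hg with ⟨z, h1, k, h2, rfl⟩ | ⟨z, h1, k, h2, z', h3, rfl⟩
  · obtain ⟨M, hM⟩ := hz z h1
    obtain ⟨N, hN⟩ := hk k h2
    exact ⟨_, mrel_mul E hrz hM hN⟩
  · obtain ⟨M, hM⟩ := hz z h1
    obtain ⟨N, hN⟩ := hk k h2
    obtain ⟨M', hM'⟩ := hz z' h3
    exact ⟨_, mrel_mul E hrz (mrel_mul E hrz (mrel_mul E hrz hM hN) (mrel_t E hrz)) hM'⟩

/-- The matrix of an element of the cells. -/
noncomputable def psi : lGrp E hrz →* SL(2, F) where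
  toFun g := (exists_mrel E hrz g.2).choose
  map_one' := mrel_unique E hrz (exists_mrel E hrz (lGrp E hrz).one_mem).choose_spec fun v _ => by
    rw [one_smul, Matrix.SpecialLinearGroup.coe_one, Matrix.one_mulVec]
  map_mul' g h := mrel_unique E hrz (exists_mrel E hrz (g * h).2).choose_spec
    (mrel_mul E hrz (exists_mrel E hrz g.2).choose_spec (exists_mrel E hrz h.2).choose_spec)

theorem psi_rel (g : lGrp E hrz) : MRel E hrz g (psi E hrz g) := (exists_mrel E hrz g.2).choose_spec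

theorem psi_eq {g : lGrp E hrz} {M : SL(2, F)} (h : MRel E hrz g M) : psi E hrz g = M :=
  mrel_unique E hrz (psi_rel E hrz g) h

theorem psi_injective : Function.Injective (psi E hrz) := by
  refine (injective_iff_map_eq_one _).2 fun g hg => Subtype.ext (eq_one_of_fix_b E hrz g.2 fun c hc => ?_)
  obtain ⟨v, hv, rfl⟩ := exists_pv E hrz hc
  rw [psi_rel E hrz g v hv, hg, Matrix.SpecialLinearGroup.coe_one, Matrix.one_mulVec]

theorem psi_surjective : Function.Surjective (psi E hrz) := by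
  have hz : ∀ y, mU y ∈ (psi E hrz).range := fun y =>
    ⟨⟨_, z_le_lGrp E hrz (E.C.e_mem y)⟩, psi_eq E hrz (mrel_z E hrz y)⟩
  have hk : ∀ u : Fˣ, mD u ∈ (psi E hrz).range := fun u =>
    ⟨⟨_, k_le_lGrp E hrz (E.C.kap_mem (u * u))⟩, psi_eq E hrz (mrel_k E hrz u)⟩
  have ht : (mW (F := F)) ∈ (psi E hrz).range := ⟨⟨t, t_mem_lGrp E hrz⟩, psi_eq E hrz (mrel_t E hrz)⟩
  intro M
  have hd : M.1 0 0 * M.1 1 1 - M.1 0 1 * M.1 1 0 = 1 := by rw [← Matrix.det_fin_two]; exact M.2
  by_cases hc : M.1 1 0 = 0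
  · have ha : M.1 0 0 ≠ 0 := fun h => by simp [h, hc] at hd
    rw [hc, mul_zero, sub_zero] at hd
    have e : mU (M.1 0 1 * M.1 0 0) * mD (Units.mk0 _ ha) = M := by
      refine Subtype.ext ?_
      simp only [Matrix.SpecialLinearGroup.coe_mul]
      refine Matrix.ext fun i k => ?_
      have hd' : (M.1 0 0)⁻¹ = M.1 1 1 := inv_eq_of_mul_eq_one_right hd
      fin_cases i <;> fin_cases k <;> simp [mU, mD, Matrix.mul_apply, Fin.sum_univ_two, hc, hd']
      linear_combination M.1 0 1 * hd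
    exact e ▸ mul_mem (hz _) (hk _)
  · have e : mU (M.1 0 0 / M.1 1 0) * mD (Units.mk0 _ (inv_ne_zero hc)) * mW (F := F) *
        mU (M.1 1 1 / M.1 1 0) = M := by
      refine Subtype.ext ?_
      simp only [Matrix.SpecialLinearGroup.coe_mul]
      refine Matrix.ext fun i k => ?_
      fin_cases i <;> fin_cases k <;>
        simp [mU, mD, mW, Matrix.mul_apply, Fin.sum_univ_two] <;> field_simp
      linear_combination hd + CharTwo.two_eq_zero (R := F)
    exact e ▸ mul_mem (mul_mem (mul_mem (hz _) (hk _)) ht) (hz _)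

/-- An element fixing no point of the orbit of `a` has no eigenvector. -/
theorem psi_ell {g : lGrp E hrz} (h : ∀ c, InB E hrz c → (g : G) • c ≠ c) : QExt.Ell (psi E hrz g) := by
  intro v hv s hs
  have hs0 : s ≠ 0 := fun h0 => mulVec_ne hv (by rw [hs, h0, zero_smul])
  refine h _ (pv_inB E hrz v) ?_
  rw [psi_rel E hrz g v hv, hs]
  unfold pv
  by_cases hv1 : v 1 = 0
  · rw [if_pos hv1, if_pos (by simp [hv1])]
  · rw [if_neg hv1, if_neg (by simp [hv1, hs0])]
    simp [mul_div_mul_left _ _ hs0]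

omit [CharP F 2] in
/-- `V` acts on the orbit of `a` through field automorphisms. -/
theorem v_smul_pv {x : G} (hx : x ∈ vGrp a t) (v : Fin 2 → F) : x • pv E v = pv E fun i => E.sig hx (v i) := by
  unfold pv
  by_cases hv1 : v 1 = 0
  · rw [if_pos hv1, if_pos (show E.sig hx (v 1) = 0 by rw [hv1, map_zero])]
    exact mem_stabilizer_iff.1 hx.1.1
  · rw [if_neg hv1, if_neg ((map_ne_zero (E.sig hx)).2 hv1), ← map_div₀, ← E.sig_e hx, mul_smul, mul_smul,
      inv_smul_eq_iff.2 (mem_stabilizer_iff.1 hx.1.2).symm]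

theorem psi_conj_v {x : G} (hx : x ∈ vGrp a t) (g : lGrp E hrz) (i k : Fin 2) :
    (psi E hrz ⟨x * g * x⁻¹, v_conj_l E hrz hx g.2⟩).1 i k = E.sig hx ((psi E hrz g).1 i k) := by
  have hN : psi E hrz ⟨x * g * x⁻¹, v_conj_l E hrz hx g.2⟩ =
      Matrix.SpecialLinearGroup.map (E.sig hx).toRingHom (psi E hrz g) := by
    refine psi_eq E hrz fun v hv => ?_
    set w : Fin 2 → F := fun i => (E.sig hx).symm (v i) with hw
    have hv' : v = fun i => E.sig hx (w i) := funext fun i => ((E.sig hx).apply_symm_apply _).symm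
    have hw0 : w ≠ 0 := fun h => hv (by rw [hv', h]; ext i; simp)
    show (x * (g : G) * x⁻¹) • pv E v = _
    rw [mul_smul, mul_smul, show x⁻¹ • pv E v = pv E w from inv_smul_eq_iff.2 (by rw [v_smul_pv E hrz hx, ← hv']),
      psi_rel E hrz g w hw0, v_smul_pv E hrz hx]
    congr 1
    ext j
    simp [hv', Matrix.mulVec, dotProduct]
  rw [hN]
  rfl

end Cfsg.Agent.Transfer.RankOne
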