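import Cfsg.Agent.Lib.Transfer.RankOne.LocalOrbit

/-!
The centraliser of `x` has `p`-rank at most three: the fixed points of `x` number `p` or `p ^ 2`.
-/

set_option autoImplicit false
set_option linter.unusedSectionVars false
set_option linter.style.haveILetI false

namespace Cfsg.Agent.Transfer.RankOne

open MulAction
open Cfsg.Agent.Lie.RankOne (cent_q ne_of_q_smul b_ne q_unique)

universe u v

variable {G : Type u} {Ω : Type v} [Group G] [MulAction G Ω] [Finite G] [FaithfulSMul G Ω]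
  {a : Ω} {t : G} {Q : Subgroup G} {F : Type} [Field F] [Finite F]
  (E : Env a t Q F) {x : G} {p : ℕ} (hx : x ∈ vGrp a t) (hp : p.Prime) (hord : orderOf x = p)
  (hW : x ∉ wGrp a t) (hq2 : Nat.card ↥(zGrp G a ⊓ Subgroup.centralizer ({x} : Set G)) = 2)
  {m : ℕ} (R : RegData a x p m)
include E hx hp hord hW hq2 R

theorem ee_inter_w {w : G} (hw : w ∈ wGrp a t) (he : w ∈ R.EE) : w = 1 := by
  obtain ⟨i, hi⟩ := Subgroup.mem_zpowers_iff.1
    (R.stab w he a (x_fix_a E.hyp hx) (mem_stabilizer_iff.1 hw.1.1.1))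
  subst hi
  by_contra hne
  refine hW ?_
  obtain ⟨j, hj⟩ := Subgroup.mem_zpowers_iff.1
    (mem_zpowers_prime hp hord (Subgroup.zpow_mem _ (Subgroup.mem_zpowers x) i) hne)
  exact hj ▸ Subgroup.zpow_mem _ hw j

/-- An element normalising a Sylow subgroup of the centraliser moves `x` inside `EE`. -/
theorem moved_mem {P1 : Subgroup G} (hPC : P1 ≤ Subgroup.centralizer ({x} : Set G)) (hEP : R.EE ≤ P1) {n : G}
    (hn : n ∈ Subgroup.normalizer (P1 : Set G)) (hnC : n ∉ Subgroup.centralizer ({x} : Set G)) :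
    n * x * n⁻¹ ∈ R.EE ∧ n * x * n⁻¹ ∉ Subgroup.zpowers x ∧ (n * x * n⁻¹) ^ p = 1 ∧
      ∀ e ∈ R.EE, e * (n * x * n⁻¹) = (n * x * n⁻¹) * e := by
  have huP : n * x * n⁻¹ ∈ P1 := (Subgroup.mem_normalizer_iff.1 hn x).1 (hEP R.x_mem)
  have hcomm : ∀ e ∈ R.EE, e * (n * x * n⁻¹) = (n * x * n⁻¹) * e := fun e he => by
    have h1 : n⁻¹ * e * n ∈ P1 := by
      have := (Subgroup.mem_normalizer_iff.1 (inv_mem hn) e).1 (hEP he)
      rwa [inv_inv] at this
    have h2 := Subgroup.mem_centralizer_singleton_iff.1 (hPC h1)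
    calc e * (n * x * n⁻¹) = n * ((n⁻¹ * e * n) * x) * n⁻¹ := by group
      _ = n * (x * (n⁻¹ * e * n)) * n⁻¹ := by rw [h2]
      _ = _ := by group
  refine ⟨R.self_cent _ (hPC huP) fun e he => ?_, fun h => hnC ?_, ?_, hcomm⟩
  · rw [← hcomm e he, mul_inv_cancel_right, mul_inv_cancel]
    exact one_mem _
  · exact Subgroup.mem_centralizer_singleton_iff.2
      (mul_inv_eq_iff_eq_mul.1 (conj_zpowers_eq E hx hp hord hW hq2 h))
  · rw [conj_pow, ← hord, pow_orderOf_eq_one, mul_one, mul_inv_cancel]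

variable [IsSimpleGroup G]
  (hker : ∀ w ∈ wGrp a t, w * x = x * w → (∀ c : Ω, x • c = c → w • c = c) → w = 1)
  (hcyc : ∀ P : Subgroup G, P ≤ wGrp a t → IsPGroup p P → IsCyclic P)
include hker hcyc

/-- The bound on the fixed points of `x`, and the normaliser of `EE`. -/
theorem local_main :
    (∀ e ∈ R.EE, ∀ f ∈ R.EE, e * f = f * e) ∧ (∀ e ∈ R.EE, e ^ p = 1) ∧ m ≤ 2 ∧
      (¬ p ∣ Nat.card (wGrp a t) → m = 1 ∧
        padicValNat p (Nat.card (Subgroup.centralizer ({x} : Set G))) <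
          padicValNat p (Nat.card (Subgroup.normalizer (R.EE : Set G)))) := by
  classical
  haveI := Fact.mk hp
  set C := Subgroup.centralizer ({x} : Set G) with hC
  have hm := reg_pos E hx hp hord hW hq2 R
  have hvG := val_card E hx hp hord hW hq2 R
  have hvC := val_cent E hx hp hord hW hq2 R
  obtain ⟨hcw, hwc⟩ := val_wc E hx hp hord hW hq2 hcyc
  obtain ⟨P1, hPC, hEP, hPcard, hPdec⟩ := exists_p_one E hx hp hord hW hq2 R
  rw [← hC] at hPC hPcard hvC hcw hwc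
  have hdvd : p ^ (padicValNat p (Nat.card C) + 1) ∣ Nat.card G :=
    (padicValNat_dvd_iff_le Nat.card_pos.ne').2 (by omega)
  have hN1 := Sylow.prime_pow_dvd_card_normalizer hdvd hPcard
  obtain ⟨n₀, hn₀, hn₀C⟩ : ∃ n ∈ Subgroup.normalizer (P1 : Set G), n ∉ C := by
    by_contra hcon
    push Not at hcon
    have := (padicValNat_dvd_iff_le (n := padicValNat p (Nat.card C) + 1) Nat.card_pos.ne').1
      (hN1.trans (Subgroup.card_dvd_of_le hcon))
    omega
  obtain ⟨hu, hux, hup, huc⟩ := moved_mem E hx hp hord hW hq2 R hPC hEP hn₀ hn₀C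
  obtain ⟨hab, hexp⟩ := ee_elem E hx hp hord hW hq2 R hu hux hup huc
  refine ⟨hab, hexp, ?_⟩
  by_cases hcase : Subgroup.normalizer (P1 : Set G) ≤ Subgroup.normalizer (R.EE : Set G)
  · have hbig : padicValNat p (Nat.card C) < padicValNat p (Nat.card (Subgroup.normalizer (R.EE : Set G))) := by
      have := (padicValNat_dvd_iff_le (n := padicValNat p (Nat.card C) + 1) Nat.card_pos.ne').1
        (hN1.trans (Subgroup.card_dvd_of_le hcase))
      omega
    have hfull := (orbit_full E hx hp hord hW hq2 R hab hexp hbig).1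
    have hle := (padicValNat_dvd_iff_le (p := p)
      (n := padicValNat p (Nat.card (Subgroup.normalizer (R.EE : Set G)))) (Nat.card_pos (α := G)).ne').1
      (pow_padicValNat_dvd.trans (Subgroup.card_subgroup_dvd_card _))
    rw [← hC] at hfull
    refine ⟨by omega, fun hw => ⟨?_, hbig⟩⟩
    rw [padicValNat.eq_zero_of_not_dvd hw] at hvG hcw
    omega
  obtain ⟨n, hn, hnE⟩ := SetLike.not_le_iff_exists.1 hcase
  have hnC : n ∉ C := fun h => hnE (cent_le_normalizer R h)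
  set A' := R.EE.map (MulAut.conj n).toMonoidHom with hA'
  have hA'P : A' ≤ P1 := by
    rintro _ ⟨e, he, rfl⟩
    exact (Subgroup.mem_normalizer_iff.1 hn e).1 (hEP he)
  have hxA' : x ∈ A' := ⟨n⁻¹ * x * n, by
    have := (moved_mem E hx hp hord hW hq2 R hPC hEP (inv_mem hn) (fun h => hnC (inv_mem_iff.1 h))).1
    rwa [inv_inv] at this, by show n * (n⁻¹ * x * n) * n⁻¹ = x; group⟩
  have hA'card : Nat.card A' = p ^ (m + 1) := by
    rw [hA', Nat.card_congr (Subgroup.equivMapOfInjective _ _ (MulAut.conj n).injective).toEquiv.symm, R.card]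
  have hA'ab : ∀ g ∈ A', ∀ g' ∈ A', g * g' = g' * g := by
    rintro _ ⟨e, he, rfl⟩ _ ⟨f, hf, rfl⟩
    rw [← map_mul, ← map_mul, hab e he f hf]
  have hA'exp : ∀ g ∈ A', g ^ p = 1 := by
    rintro _ ⟨e, he, rfl⟩
    rw [← map_pow, hexp e he, map_one]
  -- the component in `W`
  have hdec : ∀ g ∈ P1, ∃ w ∈ wGrp a t ⊓ C, g * w⁻¹ ∈ R.EE := by
    intro g hg
    obtain ⟨e, he, y, hy, hyx, rfl⟩ := hPdec g hg
    obtain ⟨i, hi⟩ := v_decomp E hx hp hord hW hq2 hy
    refine ⟨y * x ^ i, ⟨hi, Subgroup.mem_centralizer_singleton_iff.2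
      ((show Commute y x from hyx).mul_left ((Commute.refl x).zpow_left i)).eq⟩, ?_⟩
    rw [mul_inv_rev, show e * y * ((x ^ i)⁻¹ * y⁻¹) = e * (y * (x ^ i)⁻¹ * y⁻¹) by group,
      ((show Commute y x from hyx).zpow_right i).inv_right.eq, mul_inv_cancel_right]
    exact mul_mem he (inv_mem (Subgroup.zpow_mem _ R.x_mem i))
  choose wof hwof using hdec
  have huniq : ∀ g (hg : g ∈ P1), ∀ w ∈ wGrp a t, g * w⁻¹ ∈ R.EE → w = wof g hg := by
    intro g hg w hw h
    have h1 : wof g hg * w⁻¹ ∈ R.EE := by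
      rw [show wof g hg * w⁻¹ = (g * (wof g hg)⁻¹)⁻¹ * (g * w⁻¹) by group]
      exact mul_mem (inv_mem (hwof g hg).2) h
    exact (mul_inv_eq_one.1
      (ee_inter_w E hx hp hord hW hq2 R (mul_mem (hwof g hg).1.1 (inv_mem hw)) h1)).symm
  have hwn : ∀ g (hg : g ∈ P1), ∀ e ∈ R.EE, wof g hg * e * (wof g hg)⁻¹ ∈ R.EE :=
    fun g hg e he => R.norm _ (hwof g hg).1.2 e he
  let f : A' →* G := MonoidHom.mk' (fun g => wof g (hA'P g.2)) fun g g' => by
    refine (huniq _ _ _ (mul_mem (hwof _ (hA'P g.2)).1.1 (hwof _ (hA'P g'.2)).1.1) ?_).symm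
    rw [show ((g * g' : A') : G) * (wof (g : G) (hA'P g.2) * wof (g' : G) (hA'P g'.2))⁻¹ =
      ((g : G) * (wof (g : G) (hA'P g.2))⁻¹) * (wof (g : G) (hA'P g.2) *
        ((g' : G) * (wof (g' : G) (hA'P g'.2))⁻¹) * (wof (g : G) (hA'P g.2))⁻¹) by
      rw [Subgroup.coe_mul, mul_inv_rev]; group]
    exact mul_mem (hwof _ (hA'P g.2)).2 (hwn _ (hA'P g.2) _ (hwof _ (hA'P g'.2)).2)
  have hrange : Nat.card f.range ≤ p := by
    set PW := P1 ⊓ wGrp a t
    haveI hc : IsCyclic PW := hcyc _ inf_le_right ((IsPGroup.of_card hPcard).to_le inf_le_left)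
    haveI : Fintype PW := Fintype.ofFinite _
    have hmem : ∀ g : A', f g ∈ PW ∧ (f g) ^ p = 1 := by
      intro g
      refine ⟨⟨?_, (hwof _ (hA'P g.2)).1.1⟩, ?_⟩
      · show wof (g : G) (hA'P g.2) ∈ P1
        rw [show wof (g : G) (hA'P g.2) = ((g : G) * (wof (g : G) (hA'P g.2))⁻¹)⁻¹ * g by group]
        exact mul_mem (inv_mem (hEP (hwof _ (hA'P g.2)).2)) (hA'P g.2)
      · rw [← map_pow, show g ^ p = 1 from Subtype.ext (by rw [Subgroup.coe_pow]; exact hA'exp _ g.2), map_one]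
    refine le_trans ?_ (IsCyclic.card_pow_eq_one_le (α := PW) hp.pos)
    rw [← Nat.card_eq_finsetCard]
    refine Nat.card_le_card_of_injective (fun y : f.range => ⟨⟨(y : G), ?_⟩, ?_⟩) fun y y' h =>
      Subtype.ext (congrArg (fun z => ((z.1 : PW) : G)) h)
    · obtain ⟨g, hg⟩ := y.2
      rw [← hg]
      exact (hmem g).1
    · refine Finset.mem_filter.2 ⟨Finset.mem_univ _, Subtype.ext ?_⟩
      obtain ⟨g, hg⟩ := y.2
      rw [Subgroup.coe_pow]
      show (y : G) ^ p = 1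
      rw [← hg]
      exact (hmem g).2
  obtain ⟨g₀, hg₀, hg₀E⟩ : ∃ g ∈ A', g ∉ R.EE := by
    by_contra hcon
    push Not at hcon
    refine hnE (Subgroup.mem_normalizer_fintype fun e he => ?_)
    exact hcon _ ⟨e, he, rfl⟩
  set w₀ := wof g₀ (hA'P hg₀) with hw₀
  obtain ⟨⟨hw₀W, hw₀C⟩, hg₀e⟩ := hwof g₀ (hA'P hg₀)
  rw [← hw₀] at hw₀W hw₀C hg₀e
  have hw₀1 : w₀ ≠ 1 := fun h => hg₀E (by rw [h, inv_one, mul_one] at hg₀e; exact hg₀e)
  have hw₀p : w₀ ^ p = 1 := by
    show (f ⟨g₀, hg₀⟩) ^ p = 1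
    rw [← map_pow, show (⟨g₀, hg₀⟩ : A') ^ p = 1 from Subtype.ext (by rw [Subgroup.coe_pow]; exact hA'exp _ hg₀),
      map_one]
  -- the centraliser of `w₀` in `EE`
  set T := R.EE ⊓ Subgroup.centralizer ({w₀} : Set G) with hT
  have hAT : A' ⊓ R.EE ≤ T := by
    rintro g ⟨hgA, hgE⟩
    refine ⟨hgE, Subgroup.mem_centralizer_singleton_iff.2 ?_⟩
    have h1 : Commute g g₀ := hA'ab g hgA g₀ hg₀
    have h2 : Commute g (g₀ * w₀⁻¹) := hab g hgE _ hg₀e
    have h3 : Commute g ((g₀ * w₀⁻¹)⁻¹ * g₀) := h2.inv_right.mul_right h1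
    rw [show (g₀ * w₀⁻¹)⁻¹ * g₀ = w₀ by group] at h3
    exact h3.eq
  have hAcard : p ^ m ∣ Nat.card ↥(A' ⊓ R.EE) := by
    have hk : f.ker.map A'.subtype ≤ A' ⊓ R.EE := by
      rintro _ ⟨g, hg, rfl⟩
      have h := (hwof _ (hA'P g.2)).2
      rw [show wof (g : G) (hA'P g.2) = 1 from MonoidHom.mem_ker.1 hg, inv_one, mul_one] at h
      exact ⟨g.2, h⟩
    have h1 := Subgroup.card_mul_index f.ker
    rw [Subgroup.index_ker, hA'card] at h1
    obtain ⟨j, -, hj⟩ := (Nat.dvd_prime_pow hp).1 (Dvd.intro _ h1)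
    refine dvd_trans ?_ (Subgroup.card_dvd_of_le hk)
    rw [Nat.card_congr (Subgroup.equivMapOfInjective _ _ A'.subtype_injective).toEquiv.symm, hj]
    rw [hj] at h1
    refine pow_dvd_pow p ?_
    by_contra hlt
    push Not at hlt
    have h2 : p ^ j * Nat.card f.range < p ^ (m + 1) :=
      calc p ^ j * Nat.card f.range ≤ p ^ j * p := Nat.mul_le_mul_left _ hrange
        _ = p ^ (j + 1) := (pow_succ p j).symm
        _ < _ := Nat.pow_lt_pow_right hp.one_lt (by omega)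
    omega
  have hxw : w₀ * x = x * w₀ := Subgroup.mem_centralizer_singleton_iff.1 hw₀C
  have hxT : x ∈ T := ⟨R.x_mem, Subgroup.mem_centralizer_singleton_iff.2 hxw.symm⟩
  have hTcard : Nat.card T = p ^ m := by
    obtain ⟨j, hj, hTj⟩ := (Nat.dvd_prime_pow hp).1 (R.card ▸ Subgroup.card_dvd_of_le (inf_le_left : T ≤ R.EE))
    have hjm : m ≤ j := by
      have h := hAcard.trans (Subgroup.card_dvd_of_le hAT)
      rw [hTj] at h
      exact (Nat.pow_dvd_pow_iff_le_right hp.one_lt).1 h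
    rcases Nat.lt_or_ge j (m + 1) with h | h
    · rw [hTj, show j = m by omega]
    · exfalso
      have hTE : T = R.EE := Subgroup.eq_of_le_of_card_ge inf_le_left
        (by rw [hTj, R.card]; exact Nat.pow_le_pow_right hp.pos h)
      refine hw₀1 (hker w₀ hw₀W hxw fun c hc => ?_)
      obtain ⟨e, he, hec⟩ := R.trans c hc
      rw [← hec, ← mul_smul, ← Subgroup.mem_centralizer_singleton_iff.1 ((hTE.ge he : e ∈ T).2), mul_smul,
        mem_stabilizer_iff.1 hw₀W.1.1.1]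
  -- the common fixed points
  set S0 := {c : Ω | x • c = c ∧ w₀ • c = c} with hS0
  have horb : orbit T a = S0 := by
    ext c
    constructor
    · rintro ⟨e, rfl⟩
      refine ⟨e_fix E hx R e.2.1 (x_fix_a E.hyp hx), ?_⟩
      show w₀ • ((e : G) • a) = (e : G) • a
      rw [← mul_smul, ← Subgroup.mem_centralizer_singleton_iff.1 e.2.2, mul_smul,
        mem_stabilizer_iff.1 hw₀W.1.1.1]
    · rintro ⟨hxc, hwc'⟩
      obtain ⟨e, he, hec⟩ := R.trans c hxc
      obtain ⟨k, hk, e', he', he'i, rfl⟩ := ee_split E hx hp hord hW hq2 R hab hexp he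
      obtain ⟨i, rfl⟩ := Subgroup.mem_zpowers_iff.1 hk
      have hca : e' • a = c := by
        rw [← hec, hab _ (Subgroup.zpow_mem _ R.x_mem i) _ he', mul_smul,
          mem_stabilizer_iff.1 (Subgroup.zpow_mem (stabilizer G a) (mem_stabilizer_iff.2 (x_fix_a E.hyp hx)) i)]
      have hws : Commute w₀ E.s := (((v_dist E.hyp E.hs E.hr E.eq hw₀W.1.1).1 hw₀W.1 :
        E.s * w₀ = w₀ * E.s)).symm
      have hmem : w₀ * e' * w₀⁻¹ ∈ R.EE := R.norm w₀ hw₀C e' he'
      have hinv : E.s * (w₀ * e' * w₀⁻¹) * E.s = (w₀ * e' * w₀⁻¹)⁻¹ := by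
        calc E.s * (w₀ * e' * w₀⁻¹) * E.s = (E.s * w₀) * e' * (w₀⁻¹ * E.s) := by group
          _ = w₀ * (E.s * e' * E.s) * w₀⁻¹ := by rw [← hws.eq, hws.inv_left.eq]; group
          _ = _ := by rw [he'i]; group
      have heq : w₀ * e' * w₀⁻¹ = e' := congrArg Subtype.val
        ((inv_bij E hx hp hord hW hq2 R hab hexp).1 (a₁ := ⟨_, hmem, hinv⟩) (a₂ := ⟨e', he', he'i⟩)
          (Subtype.ext (by
            show (w₀ * e' * w₀⁻¹) • a = e' • a
            rw [mul_smul, mul_smul, mem_stabilizer_iff.1 (inv_mem hw₀W.1.1.1), hca, hwc'])))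
      exact ⟨⟨e', he', Subgroup.mem_centralizer_singleton_iff.2 (mul_inv_eq_iff_eq_mul.1 heq).symm⟩, hca⟩
  have hS0card : Nat.card S0 * p = p ^ m := by
    have hst : Nat.card (stabilizer T a) = p := by
      rw [← hord, ← Nat.card_zpowers]
      exact Nat.card_congr
        { toFun := fun e => ⟨((e.1 : T) : G), R.stab _ e.1.2.1 a (x_fix_a E.hyp hx) (mem_stabilizer_iff.1 e.2)⟩
          invFun := fun g => ⟨⟨g.1, (Subgroup.zpowers_le.2 hxT) g.2⟩, mem_stabilizer_iff.2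
            (mem_stabilizer_iff.1
              ((Subgroup.zpowers_le.2 (mem_stabilizer_iff.2 (x_fix_a E.hyp hx) : x ∈ stabilizer G a)) g.2))⟩
          left_inv := fun _ => rfl
          right_inv := fun _ => rfl }
    rw [← horb, ← hTcard, ← hst, ← Nat.card_prod]
    exact Nat.card_congr (MulAction.orbitProdStabilizerEquivGroup T a)
  set Q2 := Q ⊓ Subgroup.centralizer ({x} : Set G) ⊓ Subgroup.centralizer ({w₀} : Set G) with hQ2
  have haS : a ∈ S0 := ⟨x_fix_a E.hyp hx, mem_stabilizer_iff.1 hw₀W.1.1.1⟩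
  have hQ2card : Nat.card Q2 + 1 = Nat.card S0 := by
    have e : Q2 ≃ {c : S0 // c ≠ ⟨a, haS⟩} := Equiv.ofBijective (fun y => ⟨⟨(y : G) • (t • a),
      by rw [← mul_smul, ← Subgroup.mem_centralizer_singleton_iff.1 y.2.1.2, mul_smul, x_fix_b E.hyp hx],
      by rw [(fix_q_iff E.hyp hw₀W.1.1 y.2.1.1).2 (Subgroup.mem_centralizer_singleton_iff.1 y.2.2).symm]⟩,
      fun h => ne_of_q_smul E.hyp.setup y.2.1.1 (b_ne E.hyp.setup) (congrArg Subtype.val h)⟩)
      ⟨fun y y' h => Subtype.ext (q_unique E.hyp.setup y.2.1.1 y'.2.1.1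
          (congrArg (fun c : {c : S0 // c ≠ ⟨a, haS⟩} => ((c : S0) : Ω)) h)), fun c => by
        obtain ⟨q, hq, hqc, e⟩ := cent_q E.hyp.setup (x_subset hx) (c := ((c : S0) : Ω))
          (by rintro y rfl; exact c.1.2.1) (fun h => c.2 (Subtype.ext h))
        refine ⟨⟨q, ⟨hq, hqc⟩, Subgroup.mem_centralizer_singleton_iff.2
          ((fix_q_iff E.hyp hw₀W.1.1 hq).1 (by rw [e]; exact c.1.2.2)).symm⟩, Subtype.ext (Subtype.ext e)⟩⟩
    haveI := Lie.RankOne.finite_omega E.hyp.setup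
    rw [Nat.card_congr e, ← Finite.card_option, Nat.card_congr (Equiv.optionSubtypeNe (⟨a, haS⟩ : S0))]
  have hd : Nat.card Q2 ∣ p ^ m - 1 := by
    have h1 := card_cq E.hyp hx
    rw [R.card_fix] at h1
    rw [show p ^ m - 1 = Nat.card ↥(Q ⊓ Subgroup.centralizer ({x} : Set G)) by omega]
    exact Subgroup.card_dvd_of_le inf_le_left
  have hS1 : Nat.card S0 = p ^ (m - 1) := by
    refine Nat.eq_of_mul_eq_mul_right hp.pos (hS0card.trans ?_)
    rw [← pow_succ, Nat.sub_add_cancel hm]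
  refine ⟨?_, fun hw => absurd ?_ hw⟩
  · by_contra hlt
    push Not at hlt
    have hq : Nat.card Q2 = p ^ (m - 1) - 1 := by omega
    have hpm : p ^ m = p * p ^ (m - 1) := by rw [← pow_succ', Nat.sub_add_cancel hm]
    have h1 : 1 ≤ p ^ (m - 1) := Nat.one_le_pow _ _ hp.pos
    have h2 : p ^ (m - 1) - 1 ∣ p - 1 := by
      rw [hq] at hd
      have h3 : p ^ m - 1 = p * (p ^ (m - 1) - 1) + (p - 1) := by
        rw [hpm, Nat.mul_sub, mul_one]
        have : p ≤ p * p ^ (m - 1) := Nat.le_mul_of_pos_right p (by omega)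
        have := hp.one_lt
        omega
      rw [h3] at hd
      exact (Nat.dvd_add_right (dvd_mul_left _ p)).1 hd
    have h4 := Nat.le_of_dvd (by have := hp.one_lt; omega) h2
    have h5 : p ^ 2 ≤ p ^ (m - 1) := Nat.pow_le_pow_right hp.pos (by omega)
    have h6 : 2 * p ≤ p ^ 2 := by rw [pow_two]; exact Nat.mul_le_mul_right p hp.two_le
    have := hp.one_lt
    omega
  · have : orderOf w₀ = p := orderOf_eq_prime hw₀p hw₀1
    exact this ▸ Subgroup.orderOf_dvd_natCard _ hw₀W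

end Cfsg.Agent.Transfer.RankOne
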