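import Cfsg.Agent.Lib.Transfer.RankOne.LocalVal

/-!
The subgroup `EE` is elementary abelian; the part inverted by the distinguished involution, and the conjugates of `x`
inside `EE`.
-/

set_option autoImplicit false
set_option linter.unusedSectionVars false
set_option linter.style.haveILetI false

namespace Cfsg.Agent.Transfer.RankOne

open MulAction
open Cfsg.Agent.Lie.RankOne (cent_q ne_of_q_smul b_ne)

universe u v

variable {G : Type u} {Ω : Type v} [Group G] [MulAction G Ω] [Finite G] [FaithfulSMul G Ω]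
  {a : Ω} {t : G} {Q : Subgroup G} {F : Type} [Field F] [Finite F]
  (E : Env a t Q F) {x : G} {p : ℕ} (hx : x ∈ vGrp a t) (hp : p.Prime) (hord : orderOf x = p)
  (hW : x ∉ wGrp a t) (hq2 : Nat.card ↥(zGrp G a ⊓ Subgroup.centralizer ({x} : Set G)) = 2)
include E hx hp hord hW hq2

omit hp hord hW hq2 in
theorem s_mem_z : E.s ∈ zGrp G a := Subgroup.subset_closure E.hs

omit hp hord hW hq2 in
theorem s_comm : E.s * x = x * E.s :=
  (v_dist E.hyp E.hs E.hr E.eq hx.1).1 hx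

omit hp hord hW hq2 in
theorem cq_trans {c d : Ω} (hc : x • c = c) (hd : x • d = d) (hca : c ≠ a) (hda : d ≠ a) :
    ∃ y ∈ Q ⊓ Subgroup.centralizer ({x} : Set G), y • c = d := by
  obtain ⟨q, hq, hqc, e⟩ := cent_q E.hyp.setup (x_subset hx) (c := c) (by rintro y rfl; exact hc) hca
  obtain ⟨q', hq', hqc', e'⟩ := cent_q E.hyp.setup (x_subset hx) (c := d) (by rintro y rfl; exact hd) hda
  exact ⟨q' * q⁻¹, ⟨(mul_mem hq' (inv_mem hq) : q' * q⁻¹ ∈ Q),
      (mul_mem hqc' (inv_mem hqc) : q' * q⁻¹ ∈ Subgroup.centralizer ({x} : Set G))⟩,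
    by rw [mul_smul, ← e, inv_smul_smul, e']⟩

/-- A conjugate of `x` that is a power of `x` is `x`. -/
theorem conj_zpowers_eq {g : G} (h : g * x * g⁻¹ ∈ Subgroup.zpowers x) : g * x * g⁻¹ = x := by
  classical
  obtain ⟨i, hi⟩ := Subgroup.mem_zpowers_iff.1 h
  have hm : (g⁻¹)⁻¹ * x * g⁻¹ ∈ stabilizer G a := by
    rw [inv_inv, ← hi]
    exact Subgroup.zpow_mem _ hx.1.1 i
  have h1 := theta_fusion E.hyp E.C E.hs E.hr E.eq (g := g⁻¹) hx hm
  rw [show (⟨(g⁻¹)⁻¹ * x * g⁻¹, hm⟩ : stabilizer G a) = ⟨x, hx.1.1⟩ ^ i from Subtype.ext (by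
    rw [Subgroup.coe_zpow]
    exact (congrArg (fun z => z * x * g⁻¹) (inv_inv g)).trans hi.symm), map_zpow] at h1
  change E.sig hx ^ i = E.sig hx at h1
  have h2 : E.sig hx ^ (i - 1) = 1 := by rw [zpow_sub, zpow_one, h1, mul_inv_cancel]
  have h3 := orderOf_dvd_iff_zpow_eq_one.2 h2
  rw [E.sig_order hx hp hord hW, ← hord] at h3
  have h4 := orderOf_dvd_iff_zpow_eq_one.1 h3
  rw [zpow_sub, zpow_one, mul_inv_eq_one] at h4
  rw [← hi, h4]

/-- A conjugate of `x` is not inverted by an involution. -/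
theorem conj_not_inverted {g h : G} (hinv : h * (g * x * g⁻¹) * h⁻¹ = (g * x * g⁻¹)⁻¹) : False := by
  have h1 : (g⁻¹ * h * g) * x * (g⁻¹ * h * g)⁻¹ = x⁻¹ := by
    calc (g⁻¹ * h * g) * x * (g⁻¹ * h * g)⁻¹ = g⁻¹ * (h * (g * x * g⁻¹) * h⁻¹) * g := by group
      _ = x⁻¹ := by rw [hinv]; group
  have h2 := conj_zpowers_eq E hx hp hord hW hq2 (g := g⁻¹ * h * g) (h1 ▸ inv_mem (Subgroup.mem_zpowers x))
  rw [h1] at h2
  have h3 : x ^ 2 = 1 := by rw [pow_two]; exact (inv_eq_iff_mul_eq_one.1 h2)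
  exact p_ne_two E hx hp hord hW hq2
    ((Nat.prime_dvd_prime_iff_eq hp Nat.prime_two).1 (hord ▸ orderOf_dvd_of_pow_eq_one h3))

variable {m : ℕ} (R : RegData a x p m)
include R

omit hp hord hW hq2 in
theorem e_fix {e : G} (he : e ∈ R.EE) {c : Ω} (hc : x • c = c) : x • (e • c) = e • c := by
  rw [← mul_smul, ← Subgroup.mem_centralizer_singleton_iff.1 (R.le he), mul_smul, hc]

/-- The elements of `EE` commuting with the distinguished involution are the powers of `x`. -/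
theorem s_fixed {e : G} (he : e ∈ R.EE) (h : E.s * e = e * E.s) : e ∈ Subgroup.zpowers x := by
  refine R.stab e he a (x_fix_a E.hyp hx) (Lie.RankOne.fix_unique E.hyp.setup E.hs.1 E.hs.2.1 E.hs.2.2 ?_)
  rw [← mul_smul, h, mul_smul, mem_stabilizer_iff.1 E.hs.1]

omit hp hord hW hq2 in
theorem s_conj_mem {e : G} (he : e ∈ R.EE) : E.s * e * E.s ∈ R.EE := by
  have h := R.norm E.s (Subgroup.mem_centralizer_singleton_iff.2 (s_comm E hx)) e he
  rwa [inv_eq_of_mul_eq_one_right E.hs.2.2] at h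

/-- A central element of `EE` of order `p` outside `<x>` makes `EE` elementary abelian. -/
theorem ee_elem {u : G} (hu : u ∈ R.EE) (hux : u ∉ Subgroup.zpowers x) (hup : u ^ p = 1)
    (huc : ∀ e ∈ R.EE, e * u = u * e) :
    (∀ e ∈ R.EE, ∀ f ∈ R.EE, e * f = f * e) ∧ ∀ e ∈ R.EE, e ^ p = 1 := by
  have key : ∀ e ∈ R.EE, (∀ f ∈ R.EE, f * e = e * f) ∧ e ^ p = 1 := by
    intro e he
    have hxp : x ^ p = 1 := by rw [← hord, pow_orderOf_eq_one]
    have hxc : ∀ i : ℤ, ∀ f ∈ R.EE, f * x ^ i = x ^ i * f := fun i f hf =>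
      ((Subgroup.mem_centralizer_singleton_iff.1 (R.le hf) : f * x = x * f) |> fun h =>
        (show Commute f x from h).zpow_right i).eq
    by_cases hea : e • a = a
    · obtain ⟨i, rfl⟩ := Subgroup.mem_zpowers_iff.1 (R.stab e he a (x_fix_a E.hyp hx) hea)
      refine ⟨fun f hf => hxc i f hf, ?_⟩
      rw [← zpow_natCast (x ^ i), zpow_comm, zpow_natCast, hxp, one_zpow]
    have hua : u • a ≠ a := fun h => hux (R.stab u hu a (x_fix_a E.hyp hx) h)
    obtain ⟨y, hy, hyu⟩ := cq_trans E hx (e_fix E hx R hu (x_fix_a E.hyp hx))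
      (e_fix E hx R he (x_fix_a E.hyp hx)) hua hea
    set u' := y * u * y⁻¹ with hu'
    have hu'm : u' ∈ R.EE := R.norm y hy.2 u hu
    have hu'a : u' • a = e • a := by
      rw [hu', mul_smul, mul_smul, mem_stabilizer_iff.1 (inv_mem (E.hyp.setup.le hy.1)), hyu]
    have hrem := R.stab (u'⁻¹ * e) (mul_mem (inv_mem hu'm) he) a (x_fix_a E.hyp hx)
      (by rw [mul_smul, ← hu'a, inv_smul_smul])
    obtain ⟨i, hi⟩ := Subgroup.mem_zpowers_iff.1 hrem
    have he' : e = u' * x ^ i := by rw [hi, mul_inv_cancel_left]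
    have hu'c : ∀ f ∈ R.EE, f * u' = u' * f := fun f hf => by
      have h := huc (y⁻¹ * f * y) (by
        have := R.norm y⁻¹ (inv_mem hy.2) f hf
        rwa [inv_inv] at this)
      calc f * u' = y * ((y⁻¹ * f * y) * u) * y⁻¹ := by rw [hu']; group
        _ = y * (u * (y⁻¹ * f * y)) * y⁻¹ := by rw [h]
        _ = _ := by rw [hu']; group
    refine ⟨fun f hf => ?_, ?_⟩
    · rw [he']
      exact ((show Commute f u' from hu'c f hf).mul_right (hxc i f hf)).eq
    · have hcm : Commute u' (x ^ i) := (hxc i u' hu'm)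
      rw [he', hcm.mul_pow, hu', conj_pow, hup, mul_one, mul_inv_cancel, one_mul, ← zpow_natCast (x ^ i),
        zpow_comm, zpow_natCast, hxp, one_zpow]
  exact ⟨fun e he f hf => (key f hf).1 e he, fun e he => (key e he).2⟩

/-- Every element of `EE` is a power of `x` times an inverted element. -/
theorem ee_split (hab : ∀ e ∈ R.EE, ∀ f ∈ R.EE, e * f = f * e) (hexp : ∀ e ∈ R.EE, e ^ p = 1) {e : G}
    (he : e ∈ R.EE) : ∃ k ∈ Subgroup.zpowers x, ∃ f ∈ R.EE, E.s * f * E.s = f⁻¹ ∧ e = k * f := by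
  obtain ⟨i, hi⟩ := hp.odd_of_ne_two (p_ne_two E hx hp hord hW hq2)
  set e' := E.s * e * E.s with he'
  have he'm : e' ∈ R.EE := s_conj_mem E hx R he
  have hss : ∀ z : G, E.s * (E.s * z * E.s) * E.s = z := fun z => by
    calc E.s * (E.s * z * E.s) * E.s = E.s * E.s * z * (E.s * E.s) := by group
      _ = z := by rw [E.hs.2.2, one_mul, mul_one]
  have hsc : ∀ z w : G, E.s * (z * w) * E.s = (E.s * z * E.s) * (E.s * w * E.s) := fun z w => by
    calc E.s * (z * w) * E.s = E.s * z * 1 * w * E.s := by group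
      _ = E.s * z * (E.s * E.s) * w * E.s := by rw [E.hs.2.2]
      _ = _ := by group
  have hsp : ∀ (z : G) (n : ℕ), E.s * z ^ n * E.s = (E.s * z * E.s) ^ n := fun z n => by
    have := (conj_pow (a := E.s) (b := z) (i := n)).symm
    rwa [inv_eq_of_mul_eq_one_right E.hs.2.2] at this
  have hsi : ∀ z : G, E.s * z⁻¹ * E.s = (E.s * z * E.s)⁻¹ := fun z => by
    rw [mul_inv_rev, mul_inv_rev, inv_eq_of_mul_eq_one_right E.hs.2.2, mul_assoc]
  refine ⟨(e * e') ^ (i + 1), s_fixed E hx hp hord hW hq2 R (pow_mem (mul_mem he he'm) _) ?_,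
    (e * e'⁻¹) ^ (i + 1), pow_mem (mul_mem he (inv_mem he'm)) _, ?_, ?_⟩
  · have h : E.s * (e * e') ^ (i + 1) * E.s = (e * e') ^ (i + 1) := by
      rw [hsp, hsc, he', hss, ← he', hab e' he'm e he]
    calc E.s * (e * e') ^ (i + 1) = E.s * (e * e') ^ (i + 1) * (E.s * E.s) := by rw [E.hs.2.2, mul_one]
      _ = (E.s * (e * e') ^ (i + 1) * E.s) * E.s := by group
      _ = _ := by rw [h]
  · rw [hsp, hsc, hsi, he', hss, ← he', ← inv_pow, mul_inv_rev, inv_inv]
  · have hc : Commute (e * e') (e * e'⁻¹) := hab _ (mul_mem he he'm) _ (mul_mem he (inv_mem he'm))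
    rw [← hc.mul_pow, show e * e' * (e * e'⁻¹) = e * e by
      rw [hab e he e' he'm, mul_assoc, ← mul_assoc e e, hab (e * e) (mul_mem he he) _ (inv_mem he'm),
        mul_inv_cancel_left], ← pow_two, ← pow_mul, show 2 * (i + 1) = p + 1 by omega, pow_succ, hexp e he,
      one_mul]

/-- The inverted elements of `EE` correspond to the fixed points of `x`. -/
theorem inv_bij (hab : ∀ e ∈ R.EE, ∀ f ∈ R.EE, e * f = f * e) (hexp : ∀ e ∈ R.EE, e ^ p = 1) :
    Function.Bijective (fun f : {f : G // f ∈ R.EE ∧ E.s * f * E.s = f⁻¹} =>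
      (⟨(f : G) • a, e_fix E hx R f.2.1 (x_fix_a E.hyp hx)⟩ : Fx Ω x)) := by
  constructor
  · intro f f' h
    have h' : (f : G) • a = (f' : G) • a := congrArg Subtype.val h
    set g := (f' : G)⁻¹ * f with hg
    have hgm : g ∈ R.EE := mul_mem (inv_mem f'.2.1) f.2.1
    obtain ⟨i, hi⟩ := Subgroup.mem_zpowers_iff.1 (R.stab g hgm a (x_fix_a E.hyp hx)
      (by rw [hg, mul_smul, h', inv_smul_smul]))
    have h1 : E.s * g * E.s = g := by
      rw [← hi, ((show Commute E.s x from s_comm E hx).zpow_right i).eq, mul_assoc, E.hs.2.2, mul_one]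
    have h2 : E.s * g * E.s = g⁻¹ := by
      calc E.s * g * E.s = E.s * (f' : G)⁻¹ * 1 * f * E.s := by rw [hg]; group
        _ = (E.s⁻¹ * (f' : G) * E.s⁻¹)⁻¹ * (E.s * f * E.s) := by rw [← E.hs.2.2]; group
        _ = _ := by
          rw [inv_eq_of_mul_eq_one_right E.hs.2.2, f'.2.2, f.2.2, inv_inv, hg, mul_inv_rev, inv_inv]
          exact hab _ f'.2.1 _ (inv_mem f.2.1)
    rw [h1] at h2
    have h3 : g ^ 2 = 1 := by rw [pow_two]; exact eq_inv_iff_mul_eq_one.1 h2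
    have h4 : orderOf g ∣ Nat.gcd 2 p :=
      Nat.dvd_gcd (orderOf_dvd_of_pow_eq_one h3) (orderOf_dvd_of_pow_eq_one (hexp g hgm))
    rw [(Nat.coprime_primes Nat.prime_two hp).2 (p_ne_two E hx hp hord hW hq2).symm, Nat.dvd_one,
      orderOf_eq_one_iff, hg, inv_mul_eq_one] at h4
    exact Subtype.ext h4.symm
  · intro c
    obtain ⟨e, he, hec⟩ := R.trans c c.2
    obtain ⟨k, hk, f, hf, hf', rfl⟩ := ee_split E hx hp hord hW hq2 R hab hexp he
    refine ⟨⟨f, hf, hf'⟩, Subtype.ext ?_⟩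
    obtain ⟨i, rfl⟩ := Subgroup.mem_zpowers_iff.1 hk
    show f • a = (c : Ω)
    have hkm : x ^ i ∈ R.EE := Subgroup.zpow_mem _ R.x_mem i
    rw [← hec, hab _ hkm f hf, mul_smul,
      mem_stabilizer_iff.1 (Subgroup.zpow_mem (stabilizer G a) (mem_stabilizer_iff.2 (x_fix_a E.hyp hx)) i)]

/-- `C_Q(x)` is transitive on the non-identity inverted elements. -/
theorem inv_trans (hab : ∀ e ∈ R.EE, ∀ f ∈ R.EE, e * f = f * e) (hexp : ∀ e ∈ R.EE, e ^ p = 1) {f f' : G}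
    (hf : f ∈ R.EE) (hfi : E.s * f * E.s = f⁻¹) (hf1 : f ≠ 1) (hf' : f' ∈ R.EE)
    (hfi' : E.s * f' * E.s = f'⁻¹) (hf1' : f' ≠ 1) :
    ∃ y ∈ Q ⊓ Subgroup.centralizer ({x} : Set G), y * f * y⁻¹ = f' := by
  have hinj := (inv_bij E hx hp hord hW hq2 R hab hexp).1
  have hs1 : E.s * (1 : G) * E.s = 1⁻¹ := by rw [mul_one, E.hs.2.2, inv_one]
  have hne : ∀ g : G, ∀ hg : g ∈ R.EE, E.s * g * E.s = g⁻¹ → g ≠ 1 → g • a ≠ a := fun g hg hgi hg1 h =>
    hg1 (congrArg Subtype.val (hinj (a₁ := ⟨g, hg, hgi⟩) (a₂ := ⟨1, one_mem _, hs1⟩)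
      (Subtype.ext (h.trans (one_smul G a).symm))))
  obtain ⟨y, hy, hyf⟩ := cq_trans E hx (e_fix E hx R hf (x_fix_a E.hyp hx))
    (e_fix E hx R hf' (x_fix_a E.hyp hx)) (hne f hf hfi hf1) (hne f' hf' hfi' hf1')
  have hys : E.s * y = y * E.s := zGrp_central E.hyp (s_mem_z E hx) hy.1
  refine ⟨y, hy, congrArg Subtype.val (hinj (a₁ := ⟨y * f * y⁻¹, R.norm y hy.2 f hf, ?_⟩)
    (a₂ := ⟨f', hf', hfi'⟩) (Subtype.ext ?_))⟩
  · have hys' : E.s * y⁻¹ = y⁻¹ * E.s := ((show Commute E.s y from hys).inv_right).eq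
    calc E.s * (y * f * y⁻¹) * E.s = (E.s * y) * f * (y⁻¹ * E.s) := by group
      _ = y * (E.s * f * E.s) * y⁻¹ := by rw [hys, ← hys']; group
      _ = (y * f * y⁻¹)⁻¹ := by rw [hfi]; group
  · show (y * f * y⁻¹) • a = f' • a
    rw [mul_smul, mul_smul, mem_stabilizer_iff.1 (inv_mem (E.hyp.setup.le hy.1)), hyf]

end Cfsg.Agent.Transfer.RankOne
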