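import Cfsg.Agent.Lib.Transfer.RankOne.LocalEE

/-!
The conjugates of `x` under the normaliser of `EE`.
-/

set_option autoImplicit false
set_option linter.unusedSectionVars false
set_option linter.style.haveILetI false

namespace Cfsg.Agent.Transfer.RankOne

open MulAction

universe u v

variable {G : Type u} {Ω : Type v} [Group G] [MulAction G Ω] [Finite G] [FaithfulSMul G Ω]
  {a : Ω} {t : G} {Q : Subgroup G} {F : Type} [Field F] [Finite F]
  (E : Env a t Q F) {x : G} {p : ℕ} (hx : x ∈ vGrp a t) (hp : p.Prime) (hord : orderOf x = p)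
  (hW : x ∉ wGrp a t) (hq2 : Nat.card ↥(zGrp G a ⊓ Subgroup.centralizer ({x} : Set G)) = 2)
  {m : ℕ} (R : RegData a x p m)
include E hx hp hord hW hq2 R

omit E hx hp hord hW hq2 in
theorem cent_le_normalizer : Subgroup.centralizer ({x} : Set G) ≤ Subgroup.normalizer (R.EE : Set G) :=
  fun g hg => Subgroup.mem_normalizer_fintype fun e he => R.norm g hg e he

/-- If the normaliser of `EE` moves `x` by a `p`-element, then the conjugates of `x` there form one coset. -/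
theorem orbit_full (hab : ∀ e ∈ R.EE, ∀ f ∈ R.EE, e * f = f * e) (hexp : ∀ e ∈ R.EE, e ^ p = 1)
    (hbig : padicValNat p (Nat.card (Subgroup.centralizer ({x} : Set G))) <
      padicValNat p (Nat.card (Subgroup.normalizer (R.EE : Set G)))) :
    padicValNat p (Nat.card (Subgroup.normalizer (R.EE : Set G))) =
        m + padicValNat p (Nat.card (Subgroup.centralizer ({x} : Set G))) ∧
      ∀ n ∈ Subgroup.normalizer (R.EE : Set G),
        ∃ f ∈ R.EE, E.s * f * E.s = f⁻¹ ∧ n * x * n⁻¹ = x * f := by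
  classical
  haveI := Fact.mk hp
  haveI : Fintype G := Fintype.ofFinite G
  set N := Subgroup.normalizer (R.EE : Set G)
  set C := Subgroup.centralizer ({x} : Set G)
  have hCN : C ≤ N := cent_le_normalizer R
  have hm : 0 < m := reg_pos E hx hp hord hW hq2 R
  letI : MulAction N G := MulAction.compHom G ((MulAut.conj).comp N.subtype)
  have hsm : ∀ (n : N) (g : G), n • g = (n : G) * g * (n : G)⁻¹ := fun _ _ => rfl
  have hstab : Nat.card (stabilizer N x) = Nat.card C := Nat.card_congr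
    { toFun := fun n => ⟨(n.1 : G), Subgroup.mem_centralizer_singleton_iff.2
        (mul_inv_eq_iff_eq_mul.1 (mem_stabilizer_iff.1 n.2))⟩
      invFun := fun g => ⟨⟨g.1, hCN g.2⟩, mem_stabilizer_iff.2 (by
        rw [hsm]
        exact mul_inv_eq_iff_eq_mul.2 (Subgroup.mem_centralizer_singleton_iff.1 g.2))⟩
      left_inv := fun _ => rfl
      right_inv := fun _ => rfl }
  have hmul : Nat.card (orbit N x) * Nat.card C = Nat.card N := by
    rw [← hstab, ← Nat.card_prod]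
    exact Nat.card_congr (MulAction.orbitProdStabilizerEquivGroup N x)
  have hor0 : Nat.card (orbit N x) ≠ 0 := fun h => by
    rw [h, zero_mul] at hmul; exact Nat.card_pos.ne' hmul.symm
  have hdvd : p ∣ Nat.card (orbit N x) := by
    refine dvd_of_one_le_padicValNat ?_
    rw [← hmul, padicValNat.mul hor0 Nat.card_pos.ne'] at hbig
    omega
  have hxO : x ∈ orbit N x := mem_orbit_self x
  have hOEE : ∀ u ∈ orbit N x, u ∈ R.EE := by
    rintro u ⟨n, rfl⟩
    exact (Subgroup.mem_normalizer_iff.1 n.2 x).1 R.x_mem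
  have hOs : ∀ u ∈ orbit N x, ∀ g ∈ C, g * u * g⁻¹ ∈ orbit N x := by
    rintro u ⟨n, rfl⟩ g hg
    exact ⟨⟨g, hCN hg⟩ * n, mul_smul (⟨g, hCN hg⟩ : N) n x⟩
  have hnotinv : ∀ u ∈ orbit N x, E.s * u * E.s ≠ u⁻¹ := by
    rintro u ⟨n, rfl⟩ h
    exact conj_not_inverted E hx hp hord hW hq2 (g := (n : G)) (h := E.s)
      (by rw [inv_eq_of_mul_eq_one_right E.hs.2.2]; exact h)
  have hpow : ∀ u ∈ orbit N x, u ∈ Subgroup.zpowers x → u = x := by
    rintro u ⟨n, rfl⟩ h
    exact conj_zpowers_eq E hx hp hord hW hq2 (g := (n : G)) h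
  have hkpow : ∀ k ∈ Subgroup.zpowers x, k ∈ R.EE ∧ E.s * k * E.s = k := by
    intro k hk
    obtain ⟨i, rfl⟩ := Subgroup.mem_zpowers_iff.1 hk
    refine ⟨Subgroup.zpow_mem _ R.x_mem i, ?_⟩
    rw [((show Commute E.s x from s_comm E hx).zpow_right i).eq, mul_assoc, E.hs.2.2, mul_one]
  have hinj := inv_bij E hx hp hord hW hq2 R hab hexp
  have hinv_z : ∀ f : G, f ∈ Subgroup.zpowers x → E.s * f * E.s = f⁻¹ → f = 1 := fun f hf h => by
    refine congrArg Subtype.val (hinj.1 (a₁ := ⟨f, (hkpow f hf).1, h⟩)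
      (a₂ := ⟨1, one_mem _, by rw [mul_one, E.hs.2.2, inv_one]⟩) (Subtype.ext ?_))
    show f • a = (1 : G) • a
    rw [one_smul]
    exact mem_stabilizer_iff.1 ((Subgroup.zpowers_le.2 (mem_stabilizer_iff.2 (x_fix_a E.hyp hx))) hf)
  -- the pieces
  let Inv := {f : G // f ∈ R.EE ∧ E.s * f * E.s = f⁻¹}
  let one' : Inv := ⟨1, one_mem _, by rw [mul_one, E.hs.2.2, inv_one]⟩
  have hInv : Nat.card Inv = p ^ m := by rw [← R.card_fix]; exact Nat.card_congr (Equiv.ofBijective _ hinj)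
  let I := {k : Subgroup.zpowers x // ∃ f : Inv, f ≠ one' ∧ (k : G) * f.1 ∈ orbit N x}
  have hIle : Nat.card I + 1 ≤ p := by
    have h1 : Nat.card I ≤ Nat.card {k : Subgroup.zpowers x // k ≠ 1} := by
      refine Nat.card_le_card_of_injective (fun k => ⟨k.1, fun hk => ?_⟩) fun k k' h =>
        Subtype.ext (congrArg (fun z : {k : Subgroup.zpowers x // k ≠ 1} => z.1) h)
      obtain ⟨f, -, hf⟩ := k.2
      rw [show ((k.1 : G)) = 1 by rw [hk]; rfl, one_mul] at hf
      exact hnotinv _ hf f.2.2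
    have h2 : Nat.card {k : Subgroup.zpowers x // k ≠ 1} + 1 = p := by
      rw [← Finite.card_option, Nat.card_congr (Equiv.optionSubtypeNe (1 : Subgroup.zpowers x)),
        Nat.card_zpowers, hord]
    omega
  let φ : I × {f : Inv // f ≠ one'} → {u : orbit N x // u ≠ ⟨x, hxO⟩} := fun q =>
    ⟨⟨(q.1.1 : G) * q.2.1.1, by
      obtain ⟨f, hf, hfo⟩ := q.1.2
      obtain ⟨y, hy, hyf⟩ := inv_trans E hx hp hord hW hq2 R hab hexp f.2.1 f.2.2
        (fun h => hf (Subtype.ext h)) q.2.1.2.1 q.2.1.2.2 (fun h => q.2.2 (Subtype.ext h))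
      have h := hOs _ hfo y hy.2
      obtain ⟨i, hi⟩ := Subgroup.mem_zpowers_iff.1 q.1.1.2
      have hcy : Commute y (q.1.1 : G) :=
        hi ▸ (show Commute y x from Subgroup.mem_centralizer_singleton_iff.1 hy.2).zpow_right i
      rwa [show y * ((q.1.1 : G) * f.1) * y⁻¹ = (q.1.1 : G) * q.2.1.1 by
        rw [← mul_assoc, hcy.eq, ← hyf]; group] at h⟩,
      fun h => q.2.2 (Subtype.ext (hinv_z _ (by
        have h' : (q.1.1 : G) * q.2.1.1 = x := congrArg (fun u : orbit N x => (u : G)) h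
        rw [show q.2.1.1 = (q.1.1 : G)⁻¹ * x from eq_inv_mul_of_mul_eq h']
        exact mul_mem (inv_mem q.1.1.2) (Subgroup.mem_zpowers x)) q.2.1.2.2))⟩
  have hφ : Function.Bijective φ := by
    constructor
    · rintro ⟨k, f⟩ ⟨k', f'⟩ h
      have h' : (k.1 : G) * f.1.1 = k'.1 * f'.1.1 :=
        congrArg (fun u : {u : orbit N x // u ≠ ⟨x, hxO⟩} => (u.1 : G)) h
      have e : f.1 = f'.1 := hinj.1 (Subtype.ext (by
        have h2 := congrArg (fun g : G => g • a) h'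
        rw [hab _ (hkpow _ k.1.2).1 _ f.1.2.1, hab _ (hkpow _ k'.1.2).1 _ f'.1.2.1, mul_smul, mul_smul,
          mem_stabilizer_iff.1 ((Subgroup.zpowers_le.2 (mem_stabilizer_iff.2 (x_fix_a E.hyp hx))) k.1.2),
          mem_stabilizer_iff.1 ((Subgroup.zpowers_le.2 (mem_stabilizer_iff.2 (x_fix_a E.hyp hx))) k'.1.2)] at h2
        exact h2))
      rw [e] at h'
      exact Prod.ext (Subtype.ext (Subtype.ext (mul_right_cancel h'))) (Subtype.ext e)
    · rintro ⟨⟨u, hu⟩, hux⟩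
      obtain ⟨k, hk, f, hf, hfi, rfl⟩ := ee_split E hx hp hord hW hq2 R hab hexp (hOEE u hu)
      have hf1 : (⟨f, hf, hfi⟩ : Inv) ≠ one' := fun h => hux (Subtype.ext (hpow _ hu (by
        show k * f ∈ Subgroup.zpowers x
        exact mul_mem hk ((show f = 1 from congrArg Subtype.val h) ▸ one_mem _))))
      exact ⟨(⟨⟨k, hk⟩, ⟨f, hf, hfi⟩, hf1, hu⟩, ⟨⟨f, hf, hfi⟩, hf1⟩), rfl⟩
  have hcount : Nat.card (orbit N x) = Nat.card I * (p ^ m - 1) + 1 := by
    rw [← Nat.card_congr (Equiv.optionSubtypeNe (⟨x, hxO⟩ : orbit N x)), Finite.card_option,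
      ← Nat.card_congr (Equiv.ofBijective φ hφ), Nat.card_prod]
    congr 2
    rw [← hInv, ← Nat.card_congr (Equiv.optionSubtypeNe one'), Finite.card_option, Nat.add_sub_cancel]
  have hI1 : Nat.card I = 1 := by
    have h1 : ((Nat.card (orbit N x) : ℕ) : ZMod p) = 0 := (ZMod.natCast_eq_zero_iff _ _).2 hdvd
    rw [hcount, Nat.cast_add, Nat.cast_mul, Nat.cast_sub (Nat.one_le_pow _ _ hp.pos), Nat.cast_pow,
      ZMod.natCast_self, zero_pow hm.ne'] at h1
    simp only [Nat.cast_one, zero_sub, mul_neg, mul_one, neg_add_eq_zero] at h1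
    have h2 : Nat.card I ≡ 1 [MOD p] := (ZMod.natCast_eq_natCast_iff _ _ _).1 (by simpa using h1)
    rw [Nat.ModEq, Nat.mod_eq_of_lt (by omega), Nat.mod_eq_of_lt hp.one_lt] at h2
    exact h2
  have hM : Nat.card (orbit N x) = p ^ m := by
    rw [hcount, hI1, one_mul, Nat.sub_add_cancel (Nat.one_le_pow _ _ hp.pos)]
  refine ⟨by rw [← hmul, padicValNat.mul hor0 Nat.card_pos.ne', hM, padicValNat.prime_pow], ?_⟩
  -- the product of the orbit
  obtain ⟨hsub, ⟨k₀⟩⟩ := Nat.card_eq_one_iff_unique.1 hI1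
  letI : CommGroup R.EE :=
    { (inferInstance : Group R.EE) with mul_comm := fun e f => Subtype.ext (hab _ e.2 _ f.2) }
  haveI : Fintype (orbit N x) := Fintype.ofFinite _
  let em : orbit N x → R.EE := fun u => ⟨u, hOEE u u.2⟩
  set P := ∏ u, em u with hP
  let conjN : ∀ n : G, n ∈ N → (R.EE →* R.EE) := fun n hn =>
    MonoidHom.mk' (fun e => ⟨n * e * n⁻¹, (Subgroup.mem_normalizer_iff.1 hn _).1 e.2⟩)
      fun e f => Subtype.ext (by
        show n * ((e : G) * f) * n⁻¹ = n * e * n⁻¹ * (n * f * n⁻¹); group)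
  have hPfix : ∀ (n : G) (hn : n ∈ N), conjN n hn P = P := by
    intro n hn
    rw [hP, map_prod]
    refine Fintype.prod_equiv (MulAction.toPerm (⟨n, hn⟩ : N) |>.subtypePerm (p := fun u => u ∈ orbit N x)
      (fun u => ?_)) _ _ fun u => rfl
    exact ⟨fun h => by
      obtain ⟨n', hn'⟩ := h
      exact ⟨(⟨n, hn⟩ : N)⁻¹ * n', (mul_smul _ n' x).trans ((congrArg (fun z => (⟨n, hn⟩ : N)⁻¹ • z) hn').trans
        (inv_smul_smul _ u))⟩, fun h => by
      obtain ⟨n', hn'⟩ := h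
      exact ⟨(⟨n, hn⟩ : N) * n', (mul_smul _ n' x).trans (congrArg (fun z => (⟨n, hn⟩ : N) • z) hn')⟩⟩
  have hPx : (P : G) ∈ Subgroup.zpowers x := by
    have hsN : E.s ∈ N := hCN (Subgroup.mem_centralizer_singleton_iff.2 (s_comm E hx))
    have h : E.s * (P : G) * E.s⁻¹ = P := congrArg Subtype.val (hPfix E.s hsN)
    exact s_fixed E hx hp hord hW hq2 R P.2 (mul_inv_eq_iff_eq_mul.1 h)
  let ψ : R.EE →* R.EE := MonoidHom.mk' (fun e => e * ⟨E.s * e * E.s, s_conj_mem E hx R e.2⟩) fun e f => by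
    have : (⟨E.s * ((e * f : R.EE) : G) * E.s, s_conj_mem E hx R (e * f).2⟩ : R.EE) =
        ⟨E.s * e * E.s, s_conj_mem E hx R e.2⟩ * ⟨E.s * f * E.s, s_conj_mem E hx R f.2⟩ := Subtype.ext (by
      show E.s * ((e : G) * f) * E.s = E.s * e * E.s * (E.s * f * E.s)
      calc E.s * ((e : G) * f) * E.s = E.s * e * 1 * f * E.s := by group
        _ = E.s * e * (E.s * E.s) * f * E.s := by rw [E.hs.2.2]
        _ = _ := by group)
    rw [this]
    exact mul_mul_mul_comm _ _ _ _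
  have hψk : ∀ (k : G) (hk : k ∈ Subgroup.zpowers x) (f : Inv),
      ψ ⟨k * f.1, mul_mem (hkpow k hk).1 f.2.1⟩ = ⟨k, (hkpow k hk).1⟩ ^ 2 := fun k hk f => by
    rw [show (⟨k * f.1, mul_mem (hkpow k hk).1 f.2.1⟩ : R.EE) = ⟨k, (hkpow k hk).1⟩ * ⟨f.1, f.2.1⟩ from rfl,
      map_mul]
    have e1 : ψ ⟨k, (hkpow k hk).1⟩ = ⟨k, (hkpow k hk).1⟩ ^ 2 := Subtype.ext (by
      show k * (E.s * k * E.s) = (((⟨k, (hkpow k hk).1⟩ : R.EE) ^ 2 : R.EE) : G)
      rw [Subgroup.coe_pow, pow_two]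
      exact congrArg (k * ·) (hkpow k hk).2)
    have e2 : ψ ⟨f.1, f.2.1⟩ = 1 := Subtype.ext (by
      show f.1 * (E.s * f.1 * E.s) = 1
      rw [f.2.2, mul_inv_cancel])
    rw [e1, e2, mul_one]
  set xE : R.EE := ⟨x, R.x_mem⟩
  set k0 : R.EE := ⟨(k₀.1 : G), (hkpow _ k₀.1.2).1⟩
  have hterm : ∀ u : orbit N x, u ≠ ⟨x, hxO⟩ → ψ (em u) = k0 ^ 2 := by
    intro u hu
    obtain ⟨⟨k, f⟩, e⟩ := hφ.2 ⟨u, hu⟩
    have e' : (u : G) = (k.1 : G) * f.1.1 :=
      (congrArg (fun z : {u : orbit N x // u ≠ ⟨x, hxO⟩} => (z.1 : G)) e).symm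
    rw [show em u = ⟨(k.1 : G) * f.1.1, mul_mem (hkpow _ k.1.2).1 f.1.2.1⟩ from Subtype.ext e']
    rw [hψk _ k.1.2 f.1, hsub.elim k k₀]
  have hψx : ψ xE = xE ^ 2 := by
    have h := hψk x (Subgroup.mem_zpowers x) one'
    rwa [show (⟨x * one'.1, mul_mem (hkpow x (Subgroup.mem_zpowers x)).1 one'.2.1⟩ : R.EE) = xE from
      Subtype.ext (mul_one x)] at h
  have hsum : P ^ 2 = xE ^ 2 * (k0 ^ 2) ^ (p ^ m - 1) := by
    have h1 : ψ P = P ^ 2 := by
      have h := hψk _ hPx one'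
      rwa [show (⟨(P : G) * one'.1, mul_mem (hkpow _ hPx).1 one'.2.1⟩ : R.EE) = P from
        Subtype.ext (mul_one _)] at h
    rw [← h1, hP, map_prod, ← Finset.mul_prod_erase _ _ (Finset.mem_univ (⟨x, hxO⟩ : orbit N x))]
    congr 1
    rw [Finset.prod_eq_pow_card (fun u hu => hterm u (Finset.ne_of_mem_erase hu)),
      Finset.card_erase_of_mem (Finset.mem_univ _), Finset.card_univ, ← Nat.card_eq_fintype_card, hM]
  have hsq : ∀ e f : R.EE, e ^ 2 = f ^ 2 → e = f := fun e f h => by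
    obtain ⟨i, hi⟩ := hp.odd_of_ne_two (p_ne_two E hx hp hord hW hq2)
    have hh : ∀ g : R.EE, (g ^ 2) ^ (i + 1) = g := fun g => by
      rw [← pow_mul, show 2 * (i + 1) = p + 1 by omega, pow_succ,
        show g ^ p = 1 from Subtype.ext (by rw [Subgroup.coe_pow]; exact hexp _ g.2), one_mul]
    rw [← hh e, ← hh f, h]
  have hPk : P = xE * k0 ^ (p ^ m - 1) := hsq _ _ (by
    rw [hsum, mul_pow, ← pow_mul, ← pow_mul, Nat.mul_comm])
  have hk0 : (k₀.1 : G) = x := by
    have hP1 : P = 1 := by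
      by_contra hne
      have hgen : x ∈ Subgroup.zpowers (P : G) :=
        mem_zpowers_prime hp hord hPx fun h => hne (Subtype.ext h)
      have hall : N ≤ C := by
        intro n hn
        have h : n * (P : G) * n⁻¹ = P := congrArg Subtype.val (hPfix n hn)
        obtain ⟨i, hi⟩ := Subgroup.mem_zpowers_iff.1 hgen
        refine Subgroup.mem_centralizer_singleton_iff.2 ?_
        rw [← hi]
        exact ((show Commute n (P : G) from mul_inv_eq_iff_eq_mul.1 h).zpow_right i).eq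
      exact absurd hbig (by rw [le_antisymm hall hCN]; exact lt_irrefl _)
    rw [hP1] at hPk
    have hk : k0 * k0 ^ (p ^ m - 1) = 1 := by
      rw [← pow_succ', Nat.sub_add_cancel (Nat.one_le_pow _ _ hp.pos),
        show p ^ m = p * p ^ (m - 1) by rw [← pow_succ', Nat.sub_add_cancel hm], pow_mul,
        show k0 ^ p = 1 from Subtype.ext (by rw [Subgroup.coe_pow]; exact hexp _ k0.2), one_pow]
    exact congrArg Subtype.val (mul_right_cancel (hk.trans hPk))
  intro n hn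
  by_cases hnx : n * x * n⁻¹ = x
  · exact ⟨1, one_mem _, one'.2.2, by rw [hnx, mul_one]⟩
  obtain ⟨⟨k, f⟩, e⟩ := hφ.2 ⟨⟨n * x * n⁻¹, ⟨⟨n, hn⟩, rfl⟩⟩, fun h => hnx (congrArg Subtype.val h)⟩
  refine ⟨f.1.1, f.1.2.1, f.1.2.2, ?_⟩
  have e' := (congrArg (fun z : {u : orbit N x // u ≠ ⟨x, hxO⟩} => (z.1 : G)) e).symm
  exact e'.trans (congrArg (· * f.1.1) ((congrArg (fun z : I => (z.1 : G)) (hsub.elim k k₀)).trans hk0))

end Cfsg.Agent.Transfer.RankOne
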