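import Cfsg.Agent.Lib.Transfer.RankOne.Reduce

/-!
The group induced by the centraliser of an element `x` of `V` on the fixed points of `x`.
-/

set_option autoImplicit false
set_option linter.unusedSectionVars false
set_option linter.style.haveILetI false

namespace Cfsg.Agent.Transfer.RankOne

open MulAction
open Cfsg.Agent.Lie.RankOne (b_ne q_fix q_b exists_qd exists_q invol_mem_Q inv_t cent_q cent_two_transitive cent_even mem_cent)

universe u v

variable {G : Type u} {Ω : Type v} [Group G] [MulAction G Ω] [Finite G] [FaithfulSMul G Ω]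
  {a : Ω} {t : G} {Q : Subgroup G}

theorem mem_zGrp' (H : Hyp G Ω a t Q) {z : G} : z ∈ zGrp G a ↔ z ∈ Q ∧ z * z = 1 :=
  ⟨fun h => ⟨zGrp_le H h, ((mem_zGrp H).1 h).2⟩, fun h => (mem_zGrp H).2 ⟨H.setup.le h.1, h.2⟩⟩

variable (Ω) in
/-- The fixed points of an element. -/
abbrev Fx (x : G) : Type v := {c : Ω // x • c = c}

variable (Ω) in
/-- The centraliser acts on the fixed points. -/
@[reducible]
def fxAction (x : G) : MulAction (Subgroup.centralizer ({x} : Set G)) (Fx Ω x) where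
  smul g c := ⟨(g : G) • (c : Ω), by
    rw [← mul_smul, ← Subgroup.mem_centralizer_singleton_iff.1 g.2, mul_smul, c.2]⟩
  one_smul c := Subtype.ext (one_smul G (c : Ω))
  mul_smul g g' c := Subtype.ext (mul_smul (g : G) (g' : G) (c : Ω))

variable (Ω) in
/-- The permutation representation of the centraliser on the fixed points. -/
noncomputable def fxHom (x : G) : Subgroup.centralizer ({x} : Set G) →* Equiv.Perm (Fx Ω x) :=
  letI := fxAction Ω x
  MulAction.toPermHom _ _

theorem fxHom_apply (x : G) (g : Subgroup.centralizer ({x} : Set G)) (c : Fx Ω x) :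
    ((fxHom Ω x g c : Fx Ω x) : Ω) = (g : G) • (c : Ω) := rfl

variable (Ω) in
/-- The induced permutation group. -/
noncomputable abbrev subG (x : G) : Subgroup (Equiv.Perm (Fx Ω x)) := (fxHom Ω x).range

variable (Ω) in
/-- The induced homomorphism. -/
noncomputable abbrev toSub (x : G) : Subgroup.centralizer ({x} : Set G) →* subG Ω x := (fxHom Ω x).rangeRestrict

theorem toSub_smul (x : G) (g : Subgroup.centralizer ({x} : Set G)) (c : Fx Ω x) :
    ((toSub Ω x g • c : Fx Ω x) : Ω) = (g : G) • (c : Ω) := rfl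

theorem toSub_surj (x : G) : Function.Surjective (toSub Ω x) := (fxHom Ω x).rangeRestrict_surjective

instance finite_subG (x : G) : Finite (subG Ω x) := Finite.of_surjective _ (toSub_surj x)

section

variable {x : G} (H : Hyp G Ω a t Q) (hx : x ∈ vGrp a t)
include H hx

theorem x_fix_a : x • a = a := mem_stabilizer_iff.1 hx.1.1

theorem x_fix_b : x • (t • a) = t • a := mem_stabilizer_iff.1 hx.1.2

theorem exists_third_fix : ∃ r ∈ Q, r ≠ 1 ∧ t • (r • (t • a)) = r • (t • a) ∧ r * x = x * r ∧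
    x • (r • (t • a)) = r • (t • a) ∧ r • (t • a) ≠ a ∧ r • (t • a) ≠ t • a := by
  obtain ⟨s, r, -, hr, hr1, -, e⟩ := exists_dist H
  refine ⟨r, hr, hr1, e, (v_comm_r H hr e hx).symm, ?_,
    Lie.RankOne.ne_of_q_smul H.setup hr (b_ne H.setup), fun h => hr1 (q_b H.setup hr h)⟩
  rw [← mul_smul, v_comm_r H hr e hx, mul_smul, x_fix_b H hx]

theorem x_three : ∃ b c d : Ω, b ≠ c ∧ b ≠ d ∧ c ≠ d ∧ ∀ y ∈ ({x} : Set G), y • b = b ∧ y • c = c ∧ y • d = d := by
  obtain ⟨r, -, -, -, -, h1, h2, h3⟩ := exists_third_fix H hx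
  refine ⟨a, t • a, r • (t • a), (b_ne H.setup).symm, h2.symm, h3.symm, ?_⟩
  rintro y rfl
  exact ⟨x_fix_a H hx, x_fix_b H hx, h1⟩

omit H in
theorem x_subset : ({x} : Set G) ⊆ ((stabilizer G a ⊓ stabilizer G (t • a)) : Set G) :=
  Set.singleton_subset_iff.2 hx.1

omit H in
theorem t_mem_cent : t ∈ Subgroup.centralizer ({x} : Set G) :=
  Subgroup.mem_centralizer_singleton_iff.2 (mem_vGrp.1 hx).2.symm

/-- The base point among the fixed points. -/
def subA : Fx Ω x := ⟨a, x_fix_a H hx⟩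

omit H in
/-- The involution in the induced group. -/
noncomputable def subT : subG Ω x := toSub Ω x ⟨t, t_mem_cent hx⟩

omit H hx in
variable (Ω x Q) in
/-- The regular normal subgroup in the induced group. -/
noncomputable def subQ : Subgroup (subG Ω x) :=
  (Q.subgroupOf (Subgroup.centralizer ({x} : Set G))).map (toSub Ω x)

theorem subT_smul_coe : ((subT (Ω := Ω) hx • subA H hx : Fx Ω x) : Ω) = t • a := rfl

theorem toSub_inj_on {g g' : Subgroup.centralizer ({x} : Set G)} (hg : (g : G) ∈ Q) (hg' : (g' : G) ∈ Q)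
    (h : toSub Ω x g = toSub Ω x g') : g = g' := by
  refine Subtype.ext (Lie.RankOne.q_unique H.setup hg hg' ?_)
  have := congrArg (fun s : subG Ω x => ((s • (⟨t • a, x_fix_b H hx⟩ : Fx Ω x) : Fx Ω x) : Ω)) h
  exact this

/-- `C_Q(x)` is the regular normal subgroup. -/
noncomputable def subQEquiv : ↥(Q.subgroupOf (Subgroup.centralizer ({x} : Set G))) ≃* subQ Ω Q x :=
  MulEquiv.ofBijective ((toSub Ω x).subgroupMap _)
    ⟨fun g g' h => Subtype.ext (toSub_inj_on H hx g.2 g'.2 (congrArg Subtype.val h)),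
      (toSub Ω x).subgroupMap_surjective _⟩

theorem sub_stab {g : Subgroup.centralizer ({x} : Set G)} :
    toSub Ω x g ∈ stabilizer (subG Ω x) (subA H hx) ↔ (g : G) ∈ stabilizer G a := by
  rw [mem_stabilizer_iff, mem_stabilizer_iff]
  exact ⟨fun h => congrArg Subtype.val h, fun h => Subtype.ext h⟩

theorem sub_stab_b {g : Subgroup.centralizer ({x} : Set G)} :
    toSub Ω x g ∈ stabilizer (subG Ω x) (subT (Ω := Ω) hx • subA H hx) ↔ (g : G) ∈ stabilizer G (t • a) := by
  rw [mem_stabilizer_iff, mem_stabilizer_iff]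
  exact ⟨fun h => congrArg Subtype.val h, fun h => Subtype.ext h⟩

theorem sub_setup : Cfsg.IsRankOneSetup (subG Ω x) (Fx Ω x) (subA H hx) (subT (Ω := Ω) hx) (subQ Ω Q x) := by
  have h3 := x_three H hx
  have hX := x_subset hx
  constructor
  · rw [is_two_pretransitive_iff]
    intro b₁ b₂ c₁ c₂ hb hc
    obtain ⟨g, hg, g1, g2⟩ := cent_two_transitive H.setup hX h3 (b₁ := (b₁ : Ω)) (b₂ := b₂) (c₁ := c₁) (c₂ := c₂)
      (by rintro y rfl; exact ⟨b₁.2, b₂.2, c₁.2, c₂.2⟩) (fun e => hb (Subtype.ext e)) (fun e => hc (Subtype.ext e))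
    exact ⟨toSub Ω x ⟨g, hg⟩, Subtype.ext g1, Subtype.ext g2⟩
  · rw [subT, ← map_mul, ← map_one (toSub Ω x)]
    exact congrArg _ (Subtype.ext H.setup.mul_self)
  · intro h
    exact b_ne H.setup (congrArg (fun s : subG Ω x => ((s • subA H hx : Fx Ω x) : Ω)) h)
  · exact fun h => H.setup.not_mem ((sub_stab H hx).1 h)
  · rintro _ ⟨g, hg, rfl⟩
    exact (sub_stab H hx).2 (H.setup.le hg)
  · rintro h hh _ ⟨g, hg, rfl⟩
    obtain ⟨k, rfl⟩ := toSub_surj x h
    exact ⟨k * g * k⁻¹, H.setup.conj_mem _ ((sub_stab H hx).1 hh) _ hg, by simp only [map_mul, map_inv]⟩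
  · rw [eq_bot_iff]
    rintro _ ⟨⟨g, hg, rfl⟩, h2⟩
    rw [Subgroup.mem_bot, show g = 1 from Subtype.ext (q_b H.setup hg ((sub_stab_b H hx).1 h2)), map_one]
  · refine le_antisymm (sup_le ?_ inf_le_left) fun h hh => ?_
    · rintro _ ⟨g, hg, rfl⟩
      exact (sub_stab H hx).2 (H.setup.le hg)
    obtain ⟨g, rfl⟩ := toSub_surj x h
    have hga := (sub_stab H hx).1 hh
    obtain ⟨q, hq, hqc, e⟩ := cent_q H.setup hX (c := (g : G) • (t • a))
      (by rintro y rfl; exact (toSub Ω y g • (⟨t • a, x_fix_b H hx⟩ : Fx Ω y)).2)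
      (fun h => b_ne H.setup (smul_left_cancel (g : G) (h.trans (mem_stabilizer_iff.1 hga).symm)))
    let q' : Subgroup.centralizer ({x} : Set G) := ⟨q, hqc⟩
    rw [show toSub Ω x g = toSub Ω x q' * toSub Ω x (q'⁻¹ * g) by rw [← map_mul, mul_inv_cancel_left]]
    refine mul_mem (Subgroup.mem_sup_left ⟨q', hq, rfl⟩) (Subgroup.mem_sup_right ⟨(sub_stab H hx).2 ?_, (sub_stab_b H hx).2 ?_⟩)
    · exact mul_mem (inv_mem (H.setup.le hq)) hga
    · rw [mem_stabilizer_iff]
      show (q⁻¹ * (g : G)) • (t • a) = t • a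
      rw [mul_smul, ← e, inv_smul_smul]
  · rw [← Nat.card_congr (subQEquiv H hx).toEquiv]
    have h := cent_even H.setup hX h3
    rwa [show Nat.card ↥(Subgroup.centralizer {x} ⊓ Q) =
        Nat.card ↥(Q.subgroupOf (Subgroup.centralizer ({x} : Set G))) from
      Nat.card_congr ⟨fun g => ⟨⟨g.1, g.2.1⟩, g.2.2⟩, fun g => ⟨g.1.1, g.1.2, g.2⟩, fun _ => rfl, fun _ => rfl⟩] at h
  · have e : stabilizer (subG Ω x) (subA H hx) ⊓ stabilizer (subG Ω x) (subT (Ω := Ω) hx • subA H hx) =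
        ((stabilizer G a ⊓ stabilizer G (t • a)).subgroupOf (Subgroup.centralizer ({x} : Set G))).map (toSub Ω x) := by
      ext h
      obtain ⟨g, rfl⟩ := toSub_surj x h
      constructor
      · exact fun hh => ⟨g, ⟨(sub_stab H hx).1 hh.1, (sub_stab_b H hx).1 hh.2⟩, rfl⟩
      · rintro ⟨g', hg', e⟩
        rw [← e]
        exact ⟨(sub_stab H hx).2 hg'.1, (sub_stab_b H hx).2 hg'.2⟩
    rw [e]
    refine H.setup.odd_card.of_dvd_nat ((Subgroup.card_map_dvd _ _).trans ?_)
    exact Subgroup.card_dvd_of_injective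
      (⟨⟨fun g => ⟨((g : Subgroup.centralizer ({x} : Set G)) : G), g.2⟩, rfl⟩, fun _ _ => rfl⟩ :
        ↥((stabilizer G a ⊓ stabilizer G (t • a)).subgroupOf (Subgroup.centralizer ({x} : Set G))) →*
          ↥(stabilizer G a ⊓ stabilizer G (t • a)))
      (fun p p' h => Subtype.ext (Subtype.ext (congrArg (fun z => (z.1 : G)) h)))

theorem sub_hyp {z z' : G} (hz : z ∈ zGrp G a) (hz' : z' ∈ zGrp G a) (hne : z ≠ z') (h1 : z ≠ 1) (h1' : z' ≠ 1)
    (hzx : z * x = x * z) (hzx' : z' * x = x * z') :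
    Hyp (subG Ω x) (Fx Ω x) (subA H hx) (subT (Ω := Ω) hx) (subQ Ω Q x) := by
  let y : Subgroup.centralizer ({x} : Set G) := ⟨z, Subgroup.mem_centralizer_singleton_iff.2 hzx⟩
  let y' : Subgroup.centralizer ({x} : Set G) := ⟨z', Subgroup.mem_centralizer_singleton_iff.2 hzx'⟩
  have h0 : ((1 : Subgroup.centralizer ({x} : Set G)) : G) ∈ Q := Q.one_mem
  refine ⟨sub_setup H hx, toSub Ω x y, toSub Ω x y', fun e => h1 ?_, fun e => h1' ?_, fun e => hne ?_, ?_, ?_, ?_⟩
  · exact congrArg Subtype.val (toSub_inj_on H hx (g := y) (zGrp_le H hz) h0 (e.trans (map_one _).symm))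
  · exact congrArg Subtype.val (toSub_inj_on H hx (g := y') (zGrp_le H hz') h0 (e.trans (map_one _).symm))
  · exact congrArg Subtype.val (toSub_inj_on H hx (g := y) (g' := y') (zGrp_le H hz) (zGrp_le H hz') e)
  · rw [← map_mul, ← map_one (toSub Ω x)]
    exact congrArg _ (Subtype.ext ((mem_zGrp H).1 hz).2)
  · rw [← map_mul, ← map_one (toSub Ω x)]
    exact congrArg _ (Subtype.ext ((mem_zGrp H).1 hz').2)
  · rw [← map_mul, ← map_mul]
    exact congrArg _ (Subtype.ext (zGrp_central H hz (zGrp_le H hz')))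

/-- An element acting trivially on the fixed points lies in `V`. -/
theorem ker_le_vGrp {g : Subgroup.centralizer ({x} : Set G)} (h : toSub Ω x g = 1) : (g : G) ∈ vGrp a t := by
  obtain ⟨r, hr, hr1, hrt, -, hfix, -, -⟩ := exists_third_fix H hx
  have hfx : ∀ c : Fx Ω x, (g : G) • (c : Ω) = c := fun c => by
    have := congrArg (fun s : subG Ω x => ((s • c : Fx Ω x) : Ω)) h
    exact this
  have hd : (g : G) ∈ dGrp a t :=
    ⟨mem_stabilizer_iff.2 (hfx ⟨a, x_fix_a H hx⟩), mem_stabilizer_iff.2 (hfx ⟨t • a, x_fix_b H hx⟩)⟩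
  exact (fix_three_iff H hr hr1 hrt hd).1 (hfx ⟨_, hfix⟩)

theorem centralizer_lt (hx1 : x ≠ 1) : Nat.card (subG Ω x) < Nat.card G := by
  refine lt_of_le_of_lt (Nat.card_le_card_of_surjective (toSub Ω x) (toSub_surj x)) ?_
  refine lt_of_le_of_ne (Subgroup.card_le_card_group _) fun e => hx1 ?_
  have htop := Subgroup.eq_top_of_card_eq _ e
  refine FaithfulSMul.eq_of_smul_eq_smul (α := Ω) fun c => ?_
  obtain ⟨g, hg⟩ : ∃ g : G, g • a = c := Lie.RankOne.exists_smul H.setup
  have hgx := Subgroup.mem_centralizer_singleton_iff.1 (htop ▸ Subgroup.mem_top g : g ∈ Subgroup.centralizer ({x} : Set G))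
  rw [one_smul, ← hg, ← mul_smul, ← hgx, mul_smul, x_fix_a H hx]

end

end Cfsg.Agent.Transfer.RankOne
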