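import Cfsg.Agent.Lib.Transfer.RankOne.VFix
import Cfsg.Agent.Lib.Transfer.RankOne.Sub
import Cfsg.Agent.Lib.Grp.Solvable
import Cfsg.Agent.S0205
import Cfsg.Agent.S0215

/-!
An element `x` of prime order `p` of `V` outside `W` fixing only one involution of `G_a`: its centraliser has a
normal subgroup that is elementary abelian and regular on the fixed points of `x`, modulo `x`.
-/

set_option autoImplicit false
set_option linter.unusedSectionVars false
set_option linter.style.haveILetI false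

namespace Cfsg.Agent.Transfer.RankOne

open MulAction

universe u v

variable {G : Type u} {Ω : Type v} [Group G] [MulAction G Ω]

/-- The normal subgroup of `C(x)` regular on the fixed points of `x` modulo `x`. -/
structure RegData (a : Ω) (x : G) (p m : ℕ) : Type (max u v) where
  EE : Subgroup G
  le : EE ≤ Subgroup.centralizer ({x} : Set G)
  x_mem : x ∈ EE
  norm : ∀ g ∈ Subgroup.centralizer ({x} : Set G), ∀ e ∈ EE, g * e * g⁻¹ ∈ EE
  card_fix : Nat.card (Fx Ω x) = p ^ m
  card : Nat.card EE = p ^ (m + 1)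
  stab : ∀ e ∈ EE, ∀ c : Ω, x • c = c → e • c = c → e ∈ Subgroup.zpowers x
  trans : ∀ c : Ω, x • c = c → ∃ e ∈ EE, e • a = c
  self_cent : ∀ g ∈ Subgroup.centralizer ({x} : Set G),
    (∀ e ∈ EE, g * e * g⁻¹ * e⁻¹ ∈ Subgroup.zpowers x) → g ∈ EE

variable [Finite G] [FaithfulSMul G Ω] {a : Ω} {t : G} {Q : Subgroup G} {F : Type} [Field F] [Finite F]
  (E : Env a t Q F) {x : G} {p : ℕ} (hx : x ∈ vGrp a t) (hp : p.Prime) (hord : orderOf x = p)
  (hW : x ∉ wGrp a t) (hq2 : Nat.card ↥(zGrp G a ⊓ Subgroup.centralizer ({x} : Set G)) = 2)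
include E hx hp hord hW hq2

theorem card_F_two : Nat.card F = 2 ^ p := by
  rw [← E.card_F, E.card_z_pow hx hp hord hW, hq2]

theorem sig_mem_zpowers {y : G} (hy : y ∈ vGrp a t) : E.sig hy ∈ Subgroup.zpowers (E.sig hx) := by
  classical
  haveI := Fintype.ofFinite F
  haveI : Fact (Nat.Prime 2) := ⟨Nat.prime_two⟩
  haveI : CharP F 2 := by
    obtain ⟨l, hl⟩ := CharP.exists F
    haveI := hl
    rcases CharP.char_is_prime_or_zero F l with h | h
    · haveI := Fact.mk h
      obtain ⟨n, -, hn⟩ := FiniteField.card F l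
      have h2 : l ∣ 2 ^ p := by
        rw [← card_F_two E hx hp hord hW hq2, Nat.card_eq_fintype_card, hn]
        exact dvd_pow_self l n.ne_zero
      have := (Nat.prime_dvd_prime_iff_eq h Nat.prime_two).1 (h.dvd_of_dvd_pow h2)
      subst this
      exact hl
    · subst h
      haveI := CharP.charP_to_charZero F
      exact absurd (Finite.of_injective _ (Nat.cast_injective (R := F))) (not_finite_iff_infinite.2 inferInstance)
  letI : Algebra (ZMod 2) F := ZMod.algebra _ 2
  haveI : Module.Finite (ZMod 2) F := Module.Finite.of_finite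
  have hfr : Module.finrank (ZMod 2) F = p := by
    have h := Module.natCard_eq_pow_finrank (K := ZMod 2) (V := F)
    rw [Nat.card_zmod, card_F_two E hx hp hord hW hq2] at h
    exact (Nat.pow_right_injective le_rfl h).symm
  let ψ : (F ≃+* F) → (F ≃ₐ[ZMod 2] F) := fun σ => AlgEquiv.ofRingEquiv (f := σ) fun c => by
    obtain ⟨n, rfl⟩ : ∃ n : ℕ, (n : ZMod 2) = c := ⟨c.val, ZMod.natCast_zmod_val c⟩
    rw [map_natCast, map_natCast]
  have hψ : Function.Injective ψ := fun σ τ h => RingEquiv.ext fun y => by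
    have := congrArg (fun f : F ≃ₐ[ZMod 2] F => f y) h
    exact this
  haveI : Finite (F ≃+* F) := Finite.of_injective (fun f => (f : F → F)) DFunLike.coe_injective
  have hle : Nat.card (F ≃+* F) ≤ p := by
    refine (Nat.card_le_card_of_injective ψ hψ).trans ?_
    rw [IsGalois.card_aut_eq_finrank, hfr]
  have htop : Subgroup.zpowers (E.sig hx) = ⊤ := Subgroup.eq_top_of_card_eq _ (le_antisymm
    (Subgroup.card_le_card_group _) (by rw [Nat.card_zpowers, E.sig_order hx hp hord hW]; exact hle))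
  rw [htop]
  exact Subgroup.mem_top _

theorem v_decomp {y : G} (hy : y ∈ vGrp a t) : ∃ i : ℤ, y * x ^ i ∈ wGrp a t := by
  obtain ⟨i, hi⟩ := Subgroup.mem_zpowers_iff.1 (sig_mem_zpowers E hx hp hord hW hq2 hy)
  refine ⟨-i, (E.sig_one_iff (mul_mem hy (Subgroup.zpow_mem _ hx _))).1 ?_⟩
  rw [E.sig_mul hy (Subgroup.zpow_mem _ hx _), ← hi, Env.sig, Env.sig,
    show (⟨x ^ (-i), (Subgroup.zpow_mem (vGrp a t) hx (-i)).1.1⟩ : stabilizer G a) = ⟨x, hx.1.1⟩ ^ (-i) from rfl,
    map_zpow, ← zpow_add, add_neg_cancel, zpow_zero]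

variable (hker : ∀ w ∈ wGrp a t, w * x = x * w → (∀ c : Ω, x • c = c → w • c = c) → w = 1)
include hker

theorem ker_eq {g : Subgroup.centralizer ({x} : Set G)} (h : toSub Ω x g = 1) :
    (g : G) ∈ Subgroup.zpowers x := by
  have hgV := ker_le_vGrp E.hyp hx h
  obtain ⟨i, hi⟩ := v_decomp E hx hp hord hW hq2 hgV
  have hgx : Commute (g : G) x := Subgroup.mem_centralizer_singleton_iff.1 g.2
  have h1 := hker _ hi ((hgx.mul_left ((Commute.refl x).zpow_left i)).eq) fun c hc => by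
    have h2 : x ^ i • c = c :=
      mem_stabilizer_iff.1 (Subgroup.zpow_mem (stabilizer G c) (mem_stabilizer_iff.2 hc) i)
    rw [mul_smul, h2]
    exact congrArg (fun s : subG Ω x => ((s • (⟨c, hc⟩ : Fx Ω x) : Fx Ω x) : Ω)) h
  rw [mul_eq_one_iff_eq_inv] at h1
  rw [h1]
  exact inv_mem (Subgroup.zpow_mem _ (Subgroup.mem_zpowers x) i)

theorem exists_reg [IsSimpleGroup G] : ∃ m : ℕ, 0 < m ∧ Nonempty (RegData a x p m) := by
  classical
  haveI := Fact.mk hp
  haveI : Fact (Nat.Prime 2) := ⟨Nat.prime_two⟩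
  have H := E.hyp
  haveI := Lie.RankOne.finite_omega H.setup
  have HB := sub_setup H hx
  -- the involutions of the stabiliser
  have huniq : ∀ u : subG Ω x, u ∈ stabilizer (subG Ω x) (subA H hx) → u * u = 1 → u ≠ 1 →
      ∀ u' : subG Ω x, u' ∈ stabilizer (subG Ω x) (subA H hx) → u' * u' = 1 → u' ≠ 1 → u = u' := by
    have key : ∀ u : subG Ω x, u ∈ stabilizer (subG Ω x) (subA H hx) → u * u = 1 →
        ∃ g : Subgroup.centralizer ({x} : Set G), (g : G) ∈ zGrp G a ∧ toSub Ω x g = u := by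
      intro u hu hu2
      obtain ⟨g, hg, rfl⟩ := Lie.RankOne.invol_mem_Q HB hu hu2
      refine ⟨g, (mem_zGrp' H).2 ⟨hg, ?_⟩, rfl⟩
      exact congrArg Subtype.val (toSub_inj_on H hx (g := g * g) (g' := 1) (mul_mem hg hg) Q.one_mem
        (by rw [map_mul, map_one]; exact hu2))
    intro u hu hu2 hu1 u' hu' hu2' hu1'
    obtain ⟨g, hg, rfl⟩ := key u hu hu2
    obtain ⟨g', hg', rfl⟩ := key u' hu' hu2'
    by_contra hne
    haveI : Fintype ↥(zGrp G a ⊓ Subgroup.centralizer ({x} : Set G)) := Fintype.ofFinite _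
    have h3 : ({⟨1, one_mem _⟩, ⟨(g : G), hg, g.2⟩, ⟨(g' : G), hg', g'.2⟩} :
        Finset ↥(zGrp G a ⊓ Subgroup.centralizer ({x} : Set G))).card = 3 := by
      refine Finset.card_eq_three.2 ⟨_, _, _, ?_, ?_, ?_, rfl⟩
      · intro e
        exact hu1 (by rw [show g = 1 from Subtype.ext (congrArg Subtype.val e).symm, map_one])
      · intro e
        exact hu1' (by rw [show g' = 1 from Subtype.ext (congrArg Subtype.val e).symm, map_one])
      · intro e
        have h' : (g : G) = g' := congrArg (fun z : ↥(zGrp G a ⊓ Subgroup.centralizer ({x} : Set G)) => (z : G)) e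
        exact hne (congrArg (toSub Ω x) (Subtype.ext h'))
    have h4 := Finset.card_le_univ ({⟨1, one_mem _⟩, ⟨(g : G), hg, g.2⟩, ⟨(g' : G), hg', g'.2⟩} :
        Finset ↥(zGrp G a ⊓ Subgroup.centralizer ({x} : Set G)))
    rw [h3, ← Nat.card_eq_fintype_card, hq2] at h4
    omega
  obtain ⟨u, ⟨huA, hu1, hu2⟩⟩ := Lie.RankOne.invol_in_Q HB
  obtain ⟨P, hP⟩ := Lie.RankOne.exists_sylow HB
  have huP : u ∈ (P : Subgroup (subG Ω x)) := by
    obtain ⟨v', hv⟩ := exists_prime_orderOf_dvd_card' (G := (P : Subgroup (subG Ω x))) 2 (by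
      have hev := HB.even_card
      have h1 : 2 ∣ Nat.card (subG Ω x) := (even_iff_two_dvd.1 hev).trans (Subgroup.card_subgroup_dvd_card _)
      rw [← (P : Subgroup (subG Ω x)).card_mul_index] at h1
      exact (Nat.prime_two.dvd_mul.1 h1).resolve_right P.not_dvd_index)
    have hv2 : (v' : subG Ω x) * v' = 1 := by
      have := congrArg Subtype.val (pow_orderOf_eq_one v')
      rw [hv, pow_two] at this
      exact this
    have hv1 : (v' : subG Ω x) ≠ 1 := fun h => by
      rw [show v' = 1 from Subtype.ext h, orderOf_one] at hv; omega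
    exact huniq _ (HB.le (hP v'.2)) hv2 hv1 u huA hu2 hu1 ▸ v'.2
  obtain ⟨N, hNn, hNodd, hN⟩ := S0215.result P u (orderOf_eq_prime (by rw [pow_two, hu2]) hu1) huP fun g hg =>
    huniq _ (HB.le (hP hg)) (by rw [conj_mul, hu2, mul_one, mul_inv_cancel]) (fun h => hu1 (conj_eq_one_iff.1 h))
      u huA hu2 hu1
  haveI := hNn
  have hN1 : N ≠ ⊥ := by
    intro h
    subst h
    obtain ⟨g, hg⟩ : ∃ g : subG Ω x, g • subA H hx = subT (Ω := Ω) hx • subA H hx :=
      Lie.RankOne.exists_smul HB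
    have hc : u * g = g * u := mul_inv_eq_iff_eq_mul.1 (mul_inv_eq_one.1 (Subgroup.mem_bot.1 (hN g)))
    have hfix : u • (g • subA H hx) = g • subA H hx := by
      rw [← mul_smul, hc, mul_smul, mem_stabilizer_iff.1 huA]
    exact Lie.RankOne.b_ne HB (hg ▸ Lie.RankOne.fix_unique HB huA hu1 hu2 hfix)
  haveI hsN : Group.IsSolvable N := S0205.result hNodd
  obtain ⟨Ē, hEn, hE0, hEN, hmin⟩ := Grp.exists_minimal_normal_le hN1
  haveI := hEn
  obtain ⟨hab, l, hl, hexp⟩ := Grp.minimal_normal_solvable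
    (solvable_of_solvable_injective (Subgroup.inclusion_injective hEN)) hE0 hmin
  -- transitive and regular
  have htrans : ∀ c : Fx Ω x, ∃ e ∈ Ē, e • subA H hx = c := by
    obtain ⟨e, he, he1⟩ := (Subgroup.bot_or_exists_ne_one Ē).resolve_left hE0
    obtain ⟨c₀, hc₀⟩ : ∃ c : Fx Ω x, e • c ≠ c := by
      by_contra hcon
      push Not at hcon
      exact he1 (Subtype.ext (Equiv.ext fun c => hcon c))
    obtain ⟨g, hg⟩ : ∃ g : subG Ω x, g • subA H hx = c₀ := Lie.RankOne.exists_smul HB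
    have he' : (g⁻¹ * e * g) • subA H hx ≠ subA H hx := by
      rw [mul_smul, mul_smul, hg, ne_eq, inv_smul_eq_iff, hg]
      exact hc₀
    have hem : g⁻¹ * e * g ∈ Ē := by simpa using hEn.conj_mem e he g⁻¹
    intro c
    by_cases hc : c = subA H hx
    · exact ⟨1, one_mem _, by rw [hc, one_smul]⟩
    obtain ⟨k, hk1, hk2⟩ := (is_two_pretransitive_iff.1 HB.two_transitive) he'.symm (Ne.symm hc)
    refine ⟨k * (g⁻¹ * e * g) * k⁻¹, hEn.conj_mem _ hem k, ?_⟩
    rw [mul_smul, inv_smul_eq_iff.2 hk1.symm, mul_smul, hk2]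
  have hfree : ∀ e ∈ Ē, ∀ c : Fx Ω x, e • c = c → e = 1 := by
    intro e he c hc
    refine Subtype.ext (Equiv.ext fun d => ?_)
    obtain ⟨f, hf, rfl⟩ := htrans c
    obtain ⟨f', hf', rfl⟩ := htrans d
    have hcomm : ∀ y ∈ Ē, ∀ z ∈ Ē, y * z = z * y := fun y hy z hz =>
      congrArg Subtype.val (hab.is_comm.comm (⟨y, hy⟩ : Ē) ⟨z, hz⟩)
    show e • (f' • subA H hx) = f' • subA H hx
    rw [show f' • subA H hx = (f' * f⁻¹) • (f • subA H hx) by rw [← mul_smul, inv_mul_cancel_right],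
      ← mul_smul, hcomm e he _ (mul_mem hf' (inv_mem hf)), mul_smul, hc]
  have hbij : Function.Bijective (fun e : Ē => (e : subG Ω x) • subA H hx) := by
    refine ⟨fun e e' h => ?_, fun c => ?_⟩
    · have h1 := hfree _ (mul_mem (inv_mem e'.2) e.2) (subA H hx) (by
        rw [mul_smul, inv_smul_eq_iff]; exact h)
      exact Subtype.ext (inv_mul_eq_one.1 h1).symm
    · obtain ⟨e, he, e'⟩ := htrans c
      exact ⟨⟨e, he⟩, e'⟩
  have hcardE : Nat.card Ē = Nat.card (Fx Ω x) := Nat.card_congr (Equiv.ofBijective _ hbij)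
  have hpdvd : p ∣ Nat.card (Fx Ω x) := by
    have hP : IsPGroup p (Subgroup.zpowers x) := IsPGroup.of_card (n := 1) (by rw [Nat.card_zpowers, hord, pow_one])
    have h := hP.card_modEq_card_fixedPoints Ω
    have hfx : Nat.card (MulAction.fixedPoints (Subgroup.zpowers x) Ω) = Nat.card (Fx Ω x) := by
      refine Nat.card_congr (Equiv.subtypeEquivRight fun c => ?_)
      constructor
      · exact fun h => h ⟨x, Subgroup.mem_zpowers x⟩
      · rintro h ⟨g, hg⟩
        exact (Subgroup.zpowers_le.2 (mem_stabilizer_iff.2 h : x ∈ stabilizer G c)) hg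
    rw [hfx] at h
    have h2 : p ∣ Nat.card Ω := by
      rw [Lie.RankOne.card_omega H.setup]
      exact E.dvd_card_succ hx hp hord hW
    exact Nat.modEq_zero_iff_dvd.1 (h.symm.trans (Nat.modEq_zero_iff_dvd.2 h2))
  have hlp : l = p := by
    haveI := Fact.mk hl
    obtain ⟨e, he⟩ := exists_prime_orderOf_dvd_card' (G := Ē) p (hcardE ▸ hpdvd)
    have h1 : orderOf e ∣ l := orderOf_dvd_of_pow_eq_one (Subtype.ext (hexp e e.2))
    rw [he] at h1
    exact ((Nat.prime_dvd_prime_iff_eq hp hl).1 h1).symm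
  subst hlp
  obtain ⟨m, hm⟩ := (IsPGroup.iff_card (G := Ē) (p := l)).1
    (fun e => ⟨1, Subtype.ext (by rw [pow_one]; exact hexp e e.2)⟩)
  have hm0 : 0 < m := by
    rcases Nat.eq_zero_or_pos m with h | h
    · rw [h, pow_zero] at hm
      exact absurd (Subgroup.card_eq_one.1 hm) hE0
    · exact h
  let C' := Subgroup.centralizer ({x} : Set G)
  let xc : C' := ⟨x, Subgroup.mem_centralizer_singleton_iff.2 rfl⟩
  have hkerx : ∀ g : C', toSub Ω x g = 1 ↔ (g : G) ∈ Subgroup.zpowers x := by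
    refine fun g => ⟨ker_eq E hx hp hord hW hq2 hker, fun h => ?_⟩
    refine Subtype.ext (Equiv.ext fun c => Subtype.ext ?_)
    exact (Subgroup.zpowers_le.2 (mem_stabilizer_iff.2 c.2 : x ∈ stabilizer G (c : Ω))) h
  have hcard : Nat.card ((Ē.comap (toSub Ω x)).map C'.subtype) = l ^ (m + 1) := by
    rw [Nat.card_congr (Subgroup.equivMapOfInjective _ C'.subtype C'.subtype_injective).toEquiv.symm]
    let f : ↥(Ē.comap (toSub Ω x)) →* Ē :=
      MonoidHom.mk' (fun g => ⟨toSub Ω x g, g.2⟩) fun g g' => Subtype.ext (map_mul (toSub Ω x) g.1 g'.1)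
    have hsurj : Function.Surjective f := fun e => by
      obtain ⟨g, hg⟩ := toSub_surj x (e : subG Ω x)
      exact ⟨⟨g, by rw [Subgroup.mem_comap, hg]; exact e.2⟩, Subtype.ext hg⟩
    have hk : Nat.card f.ker = l := by
      rw [← hord, ← Nat.card_zpowers]
      refine Nat.card_congr
        { toFun := fun g => ⟨((g.1 : C') : G), (hkerx g.1).1 (congrArg Subtype.val (MonoidHom.mem_ker.1 g.2))⟩
          invFun := fun g => ⟨⟨⟨g.1, Subgroup.mem_centralizer_singleton_iff.2 (by
              obtain ⟨i, hi⟩ := Subgroup.mem_zpowers_iff.1 g.2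
              rw [← hi]; exact ((Commute.refl x).zpow_left i).eq)⟩, by
            rw [Subgroup.mem_comap, (hkerx _).2 g.2]; exact one_mem _⟩,
            MonoidHom.mem_ker.2 (Subtype.ext ((hkerx _).2 g.2))⟩
          left_inv := fun _ => rfl
          right_inv := fun _ => rfl }
    rw [← Subgroup.card_mul_index f.ker, Subgroup.index_ker, MonoidHom.range_eq_top.2 hsurj, Subgroup.card_top,
      hk, hm, pow_succ']
  refine ⟨m, hm0, ⟨{
    EE := (Ē.comap (toSub Ω x)).map C'.subtype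
    le := Subgroup.map_subtype_le _
    x_mem := ⟨xc, by
      rw [SetLike.mem_coe, Subgroup.mem_comap, (hkerx xc).2 (Subgroup.mem_zpowers x)]; exact one_mem _, rfl⟩
    norm := by
      rintro g hg _ ⟨e, he, rfl⟩
      refine ⟨⟨g, hg⟩ * e * ⟨g, hg⟩⁻¹, ?_, rfl⟩
      rw [SetLike.mem_coe, Subgroup.mem_comap, map_mul, map_mul, map_inv]
      exact hEn.conj_mem _ he _
    card_fix := hcardE ▸ hm
    card := hcard
    stab := by
      rintro _ ⟨e, he, rfl⟩ c hc h
      exact (hkerx e).1 (hfree _ he ⟨c, hc⟩ (Subtype.ext h))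
    trans := fun c hc => by
      obtain ⟨e, he, he'⟩ := htrans ⟨c, hc⟩
      obtain ⟨g, rfl⟩ := toSub_surj x e
      exact ⟨g, ⟨g, he, rfl⟩, congrArg Subtype.val he'⟩
    self_cent := fun g hg h => by
      refine ⟨⟨g, hg⟩, ?_, rfl⟩
      rw [SetLike.mem_coe, Subgroup.mem_comap]
      have hc : ∀ e ∈ Ē, toSub Ω x ⟨g, hg⟩ * e = e * toSub Ω x ⟨g, hg⟩ := by
        intro e he
        obtain ⟨k, rfl⟩ := toSub_surj x e
        have h1 := (hkerx (⟨g, hg⟩ * k * ⟨g, hg⟩⁻¹ * k⁻¹)).2 (h k ⟨k, he, rfl⟩)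
        rw [map_mul, map_mul, map_mul, map_inv, map_inv, mul_inv_eq_one, mul_inv_eq_iff_eq_mul] at h1
        exact h1
      obtain ⟨f, hf, hf'⟩ := htrans (toSub Ω x ⟨g, hg⟩ • subA H hx)
      suffices toSub Ω x ⟨g, hg⟩ = f by rw [this]; exact hf
      refine Subtype.ext (Equiv.ext fun d => ?_)
      obtain ⟨f', hf2, rfl⟩ := htrans d
      show toSub Ω x ⟨g, hg⟩ • (f' • subA H hx) = f • (f' • subA H hx)
      rw [← mul_smul, hc f' hf2, mul_smul, ← hf', ← mul_smul, ← mul_smul,
        show f' * f = f * f' from congrArg Subtype.val (hab.is_comm.comm (⟨f', hf2⟩ : Ē) ⟨f, hf⟩)] }⟩⟩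

end Cfsg.Agent.Transfer.RankOne
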