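import Cfsg.Agent.Lib.Transfer.RankOne.CardCent
import Cfsg.Agent.Lib.Transfer.RankOne.CycFix
import Cfsg.Agent.Lib.Grp.Basic

/-!
The `p`-parts of the orders of `G` and of the centraliser of `x`, and a Sylow `p`-subgroup of that centraliser.
-/

set_option autoImplicit false
set_option linter.unusedSectionVars false
set_option linter.style.haveILetI false

namespace Cfsg.Agent.Transfer.RankOne

open MulAction

universe u v

variable {G : Type u} {Ω : Type v} [Group G] [MulAction G Ω] [Finite G] [FaithfulSMul G Ω]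
  {a : Ω} {t : G} {Q : Subgroup G} {F : Type} [Field F] [Finite F]
  (E : Env a t Q F) {x : G} {p : ℕ} (hx : x ∈ vGrp a t) (hp : p.Prime) (hord : orderOf x = p)
  (hW : x ∉ wGrp a t) (hq2 : Nat.card ↥(zGrp G a ⊓ Subgroup.centralizer ({x} : Set G)) = 2)
include E hx hp hord hW hq2

theorem p_ne_two : p ≠ 2 := by
  intro h
  have h1 : p ∣ Nat.card (vGrp a t) := hord ▸ Subgroup.orderOf_dvd_natCard _ hx
  exact Nat.not_even_iff_odd.2 (odd_vGrp E.hyp) (even_iff_two_dvd.2 (h ▸ h1))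

theorem card_wc :
    Nat.card ↥(vGrp a t ⊓ Subgroup.centralizer ({x} : Set G)) =
      p * Nat.card ↥(wGrp a t ⊓ Subgroup.centralizer ({x} : Set G)) := by
  rw [card_sub_v E hx hp hord hW hq2 inf_le_left ⟨hx, Subgroup.mem_centralizer_singleton_iff.2 rfl⟩,
    inf_right_comm, inf_eq_right.2 wGrp_le_vGrp]

variable {m : ℕ} (R : RegData a x p m)
include R

theorem reg_pos : 0 < m := by
  rcases Nat.eq_zero_or_pos m with h | h
  · have h1 := card_cq E.hyp hx
    rw [R.card_fix, h, pow_zero] at h1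
    have : 0 < Nat.card ↥(Q ⊓ Subgroup.centralizer ({x} : Set G)) := Nat.card_pos
    omega
  · exact h

theorem not_dvd_cq : ¬ p ∣ Nat.card ↥(Q ⊓ Subgroup.centralizer ({x} : Set G)) := by
  intro h
  have h1 := card_cq E.hyp hx
  rw [R.card_fix] at h1
  have h2 : p ∣ p ^ m := dvd_pow_self p (reg_pos E hx hp hord hW hq2 R).ne'
  rw [← h1] at h2
  exact hp.one_lt.ne' (Nat.dvd_one.1 ((Nat.dvd_add_right h).1 h2))

theorem val_cent : padicValNat p (Nat.card (Subgroup.centralizer ({x} : Set G))) =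
    m + 1 + padicValNat p (Nat.card ↥(wGrp a t ⊓ Subgroup.centralizer ({x} : Set G))) := by
  haveI := Fact.mk hp
  rw [card_cent E.hyp hx, R.card_fix, dGrp_inf_cent E hx hq2, card_wc E hx hp hord hW hq2,
    padicValNat.mul (pow_ne_zero _ hp.ne_zero) (mul_ne_zero Nat.card_pos.ne' (mul_ne_zero hp.ne_zero Nat.card_pos.ne')),
    padicValNat.mul Nat.card_pos.ne' (mul_ne_zero hp.ne_zero Nat.card_pos.ne'),
    padicValNat.mul hp.ne_zero Nat.card_pos.ne', padicValNat_self,
    padicValNat.prime_pow, padicValNat.eq_zero_of_not_dvd (not_dvd_cq E hx hp hord hW hq2 R)]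
  omega

variable [IsSimpleGroup G]

theorem q_eq_pow : Nat.card Q = (p ^ m - 1) ^ p := by
  have hcop : ¬ p ∣ Nat.card Q := fun h =>
    hp.one_lt.ne' (Nat.dvd_one.1 ((Nat.dvd_add_right h).1 (E.dvd_card_succ hx hp hord hW)))
  have h1 := card_cq E.hyp hx
  rw [R.card_fix] at h1
  rw [E.card_pow hx hp hord hW hcop, show Nat.card ↥(Q ⊓ Subgroup.centralizer ({x} : Set G)) = p ^ m - 1 by omega]

theorem val_card : padicValNat p (Nat.card G) = m + 2 + padicValNat p (Nat.card (wGrp a t)) := by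
  haveI := Fact.mk hp
  have hm := reg_pos E hx hp hord hW hq2 R
  have hp2 := p_ne_two E hx hp hord hW hq2
  have hQ1 : ¬ p ∣ Nat.card Q := fun h =>
    hp.one_lt.ne' (Nat.dvd_one.1 ((Nat.dvd_add_right h).1 (E.dvd_card_succ hx hp hord hW)))
  have hKcard : Nat.card (kGrp a t) + 1 = 2 ^ p := by
    rw [card_kGrp E.hyp, E.card_z_pow hx hp hord hW, hq2]
  have hK1 : ¬ p ∣ Nat.card (kGrp a t) := by
    intro h
    have h1 : ((Nat.card (kGrp a t) + 1 : ℕ) : ZMod p) = ((2 ^ p : ℕ) : ZMod p) := by rw [hKcard]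
    rw [Nat.cast_pow, ZMod.pow_card, Nat.cast_add, (ZMod.natCast_eq_zero_iff _ _).2 h, zero_add] at h1
    have h2 : 1 ≡ 2 [MOD p] := (ZMod.natCast_eq_natCast_iff _ _ _).1 h1
    have h3 := (Nat.modEq_iff_dvd' one_le_two).1 h2
    exact hp.one_lt.ne' (Nat.dvd_one.1 h3)
  have hV : Nat.card (vGrp a t) = p * Nat.card (wGrp a t) := by
    rw [card_sub_v E hx hp hord hW hq2 le_rfl hx, inf_eq_right.2 wGrp_le_vGrp]
  have hQv : padicValNat p (Nat.card Q + 1) = m + 1 := by
    have hge : 1 < p ^ m := Nat.one_lt_pow hm.ne' hp.one_lt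
    have h := padicValNat.pow_add_pow (hp.odd_of_ne_two hp2) (x := p ^ m - 1) (y := 1)
      (by rw [Nat.sub_add_cancel (by omega)]; exact dvd_pow_self p hm.ne')
      (by
        have h0 := not_dvd_cq E hx hp hord hW hq2 R
        have h1 := card_cq E.hyp hx
        rw [R.card_fix] at h1
        rwa [show p ^ m - 1 = Nat.card ↥(Q ⊓ Subgroup.centralizer ({x} : Set G)) by omega])
      (hp.odd_of_ne_two hp2)
    rw [one_pow, Nat.sub_add_cancel (by omega), padicValNat.prime_pow, padicValNat_self,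
      ← q_eq_pow E hx hp hord hW hq2 R] at h
    exact h
  have hne : Nat.card Q * Nat.card ↥(dGrp a t) ≠ 0 := mul_ne_zero Nat.card_pos.ne' Nat.card_pos.ne'
  rw [Lie.RankOne.card_group E.hyp.setup, padicValNat.mul hne (by omega), hQv, card_dGrp E.hyp, hV,
    padicValNat.mul Nat.card_pos.ne' (mul_ne_zero Nat.card_pos.ne' (mul_ne_zero hp.ne_zero Nat.card_pos.ne')),
    padicValNat.mul Nat.card_pos.ne' (mul_ne_zero hp.ne_zero Nat.card_pos.ne'),
    padicValNat.mul hp.ne_zero Nat.card_pos.ne', padicValNat_self, padicValNat.eq_zero_of_not_dvd hQ1,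
    padicValNat.eq_zero_of_not_dvd hK1]
  omega

omit [IsSimpleGroup G] in
/-- A Sylow `p`-subgroup of the centraliser of `x` that contains `EE`. -/
theorem exists_p_one : ∃ P1 : Subgroup G, P1 ≤ Subgroup.centralizer ({x} : Set G) ∧ R.EE ≤ P1 ∧
    Nat.card P1 = p ^ padicValNat p (Nat.card (Subgroup.centralizer ({x} : Set G))) ∧
    ∀ g ∈ P1, ∃ e ∈ R.EE, ∃ y ∈ vGrp a t, y * x = x * y ∧ g = e * y := by
  haveI := Fact.mk hp
  set C := Subgroup.centralizer ({x} : Set G) with hC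
  set c := padicValNat p (Nat.card ↥(wGrp a t ⊓ C)) with hc
  have hcd : p ^ (c + 1) ∣ Nat.card ↥(vGrp a t ⊓ C) := by
    rw [card_wc E hx hp hord hW hq2, pow_succ']
    exact mul_dvd_mul_left p pow_padicValNat_dvd
  let xx : ↥(vGrp a t ⊓ C) := ⟨x, hx, Subgroup.mem_centralizer_singleton_iff.2 rfl⟩
  obtain ⟨T, hT, hxT⟩ := Sylow.exists_subgroup_card_pow_prime_le p hcd (Subgroup.zpowers xx)
    (n := 1) (by rw [Nat.card_zpowers, pow_one, ← Subgroup.orderOf_coe]; exact hord) (by omega)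
  set PV := T.map (vGrp a t ⊓ C).subtype with hPV
  have hPVle : PV ≤ vGrp a t ⊓ C := Subgroup.map_subtype_le _
  have hPVcard : Nat.card PV = p ^ (c + 1) := by
    rw [hPV, Nat.card_congr (T.equivMapOfInjective _ (vGrp a t ⊓ C).subtype_injective).toEquiv.symm, hT]
  have hxPV : x ∈ PV := ⟨xx, hxT (Subgroup.mem_zpowers xx), rfl⟩
  have hnorm : PV ≤ Subgroup.normalizer (R.EE : Set G) := fun g hg =>
    Subgroup.mem_normalizer_fintype fun e he => R.norm g (hPVle hg).2 e he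
  have hinf : PV ⊓ R.EE = Subgroup.zpowers x := by
    refine le_antisymm ?_ (le_inf (Subgroup.zpowers_le.2 hxPV) (Subgroup.zpowers_le.2 R.x_mem))
    rintro g ⟨hg, hge⟩
    exact R.stab g hge a (x_fix_a E.hyp hx) (mem_stabilizer_iff.1 (hPVle hg).1.1.1)
  have hcard := Grp.card_sup_mul_card_inf hnorm
  rw [hinf, Nat.card_zpowers, hord, hPVcard, R.card] at hcard
  refine ⟨PV ⊔ R.EE, sup_le (fun g hg => (hPVle hg).2) R.le, le_sup_right, ?_, fun g hg => ?_⟩
  · rw [val_cent E hx hp hord hW hq2 R, ← hc]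
    refine Nat.eq_of_mul_eq_mul_right hp.pos (hcard.trans ?_)
    rw [← pow_succ, ← pow_add]
    congr 1
    omega
  · have hg' : g ∈ ((PV ⊔ R.EE : Subgroup G) : Set G) := hg
    rw [Subgroup.coe_mul_of_left_le_normalizer_right _ _ hnorm] at hg'
    obtain ⟨y, hy, e, he, rfl⟩ := hg'
    exact ⟨y * e * y⁻¹, R.norm y (hPVle hy).2 e he, y, (hPVle hy).1,
      Subgroup.mem_centralizer_singleton_iff.1 (hPVle hy).2, by simp⟩

omit [IsSimpleGroup G] R in
/-- The `p`-part of the centraliser of `x` in `W` is at most one factor below that of `W`. -/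
theorem val_wc (hcyc : ∀ P : Subgroup G, P ≤ wGrp a t → IsPGroup p P → IsCyclic P) :
    padicValNat p (Nat.card ↥(wGrp a t ⊓ Subgroup.centralizer ({x} : Set G))) ≤
        padicValNat p (Nat.card (wGrp a t)) ∧
    padicValNat p (Nat.card (wGrp a t)) ≤
      padicValNat p (Nat.card ↥(wGrp a t ⊓ Subgroup.centralizer ({x} : Set G))) + 1 := by
  haveI := Fact.mk hp
  set C := Subgroup.centralizer ({x} : Set G)
  set w := padicValNat p (Nat.card (wGrp a t))
  refine ⟨(padicValNat_dvd_iff_le Nat.card_pos.ne').1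
    (pow_padicValNat_dvd.trans (Subgroup.card_dvd_of_le inf_le_left)), ?_⟩
  have hV : Nat.card (vGrp a t) = p * Nat.card (wGrp a t) := by
    rw [card_sub_v E hx hp hord hW hq2 le_rfl hx, inf_eq_right.2 wGrp_le_vGrp]
  have hcd : p ^ (w + 1) ∣ Nat.card (vGrp a t) := by
    rw [hV, pow_succ']
    exact mul_dvd_mul_left p pow_padicValNat_dvd
  let xx : vGrp a t := ⟨x, hx⟩
  obtain ⟨T, hT, hxT⟩ := Sylow.exists_subgroup_card_pow_prime_le p hcd (Subgroup.zpowers xx)
    (n := 1) (by rw [Nat.card_zpowers, pow_one, ← Subgroup.orderOf_coe]; exact hord) (by omega)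
  set PV := T.map (vGrp a t).subtype with hPV
  have hPVle : PV ≤ vGrp a t := Subgroup.map_subtype_le _
  have hxPV : x ∈ PV := ⟨xx, hxT (Subgroup.mem_zpowers xx), rfl⟩
  have hPVcard : Nat.card PV = p ^ (w + 1) := by
    rw [hPV, Nat.card_congr (T.equivMapOfInjective _ (vGrp a t).subtype_injective).toEquiv.symm, hT]
  have h1 : Nat.card PV = p * Nat.card ↥(PV ⊓ wGrp a t) :=
    card_sub_v E hx hp hord hW hq2 hPVle hxPV
  have h2 : Nat.card ↥(PV ⊓ wGrp a t) = p ^ w := by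
    refine Nat.eq_of_mul_eq_mul_left hp.pos ?_
    rw [← h1, hPVcard, pow_succ']
  have hwn : ∀ g ∈ PV ⊓ wGrp a t, x * g * x⁻¹ ∈ PV ⊓ wGrp a t := fun g hg => by
    refine ⟨(mul_mem (mul_mem hxPV hg.1) (inv_mem hxPV) : x * g * x⁻¹ ∈ PV), (E.sig_one_iff (mul_mem (mul_mem hx (hPVle hg.1)) (inv_mem hx))).1 ?_⟩
    rw [E.sig_mul (mul_mem hx (hPVle hg.1)) (inv_mem hx), E.sig_mul hx (hPVle hg.1),
      (E.sig_one_iff (hPVle hg.1)).2 hg.2, mul_one, ← E.sig_mul hx (inv_mem hx), E.sig_one_iff, mul_inv_cancel]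
    exact one_mem _
  have h3 := cyclic_fix hp (p_ne_two E hx hp hord hW hq2) (x := x) (by rw [← hord, pow_orderOf_eq_one])
    (hcyc (PV ⊓ wGrp a t) inf_le_right (IsPGroup.of_card h2)) hwn h2
  have h4 : p ^ (w - 1) ∣ Nat.card ↥(wGrp a t ⊓ C) :=
    h3.trans (Subgroup.card_dvd_of_le (inf_le_inf_right _ inf_le_right))
  have := (padicValNat_dvd_iff_le Nat.card_pos.ne').1 h4
  omega

end Cfsg.Agent.Transfer.RankOne
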