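import Cfsg.Agent.Lib.Transfer.RankOne.OddPrep
import Cfsg.Agent.Lib.Transfer.RankOne.FpfCase

/-!
In the simple case `Q` is a `2`-group.
-/

set_option autoImplicit false
set_option linter.unusedSectionVars false
set_option linter.style.haveILetI false

namespace Cfsg.Agent.Transfer.RankOne

open MulAction

universe u v

variable {G : Type u} {Ω : Type v} [Group G] [MulAction G Ω] [Finite G] [FaithfulSMul G Ω]
  {a : Ω} {t : G} {Q : Subgroup G}

theorem conj_o (H : Hyp G Ω a t Q) {S O : Subgroup G} (P : Split Q S O) {d y : G} (hd : d ∈ dGrp a t)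
    (hy : y ∈ O) : d * y * d⁻¹ ∈ O := by
  haveI := Fintype.ofFinite G
  haveI := Fintype.ofFinite Q
  have h := conj_mem_o H P ⟨d⁻¹, inv_mem hd⟩ ⟨y, hy⟩
  simp only [inv_inv] at h
  exact h

variable {F : Type} [Field F] [Finite F] (E : Env a t Q F)
include E

theorem frobenius_mem {x : G} {p : ℕ} (hx : x ∈ vGrp a t) (hp : p.Prime) (hord : orderOf x = p)
    (hW : x ∉ wGrp a t) (hq2 : Nat.card ↥(zGrp G a ⊓ Subgroup.centralizer ({x} : Set G)) = 2) :
    ∃ i : ℕ, ∀ y : F, (E.sig hx ^ i) y = y ^ 2 := by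
  classical
  haveI := Fintype.ofFinite F
  haveI := Fact.mk hp
  haveI : Fact (Nat.Prime 2) := ⟨Nat.prime_two⟩
  have hF := card_F_two E hx hp hord hW hq2
  rw [Nat.card_eq_fintype_card] at hF
  obtain ⟨l, hl⟩ := CharP.exists F
  haveI := hl
  haveI hlp : Fact l.Prime := ⟨CharP.char_is_prime F l⟩
  obtain ⟨j, -, hj⟩ := FiniteField.card F l
  obtain rfl : l = 2 := (Nat.prime_dvd_prime_iff_eq hlp.out Nat.prime_two).1
    (hlp.out.dvd_of_dvd_pow (show l ∣ 2 ^ p by rw [← hF, hj]; exact dvd_pow_self l j.ne_zero))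
  letI : Algebra (ZMod 2) F := ZMod.algebra _ 2
  haveI : Module.Finite (ZMod 2) F := Module.Finite.of_finite
  have hfr : Module.finrank (ZMod 2) F = p := by
    have h := Module.natCard_eq_pow_finrank (K := ZMod 2) (V := F)
    rw [Nat.card_zmod, Nat.card_eq_fintype_card, hF] at h
    exact (Nat.pow_right_injective le_rfl h).symm
  let ψ : (F ≃+* F) → (F ≃ₐ[ZMod 2] F) := fun σ => AlgEquiv.ofRingEquiv (f := σ) fun c => by
    obtain ⟨k, rfl⟩ : ∃ k : ℕ, (k : ZMod 2) = c := ⟨c.val, ZMod.natCast_zmod_val c⟩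
    rw [map_natCast, map_natCast]
  have hψ : Function.Injective ψ := fun σ τ h => RingEquiv.ext fun y => by
    have := congrArg (fun f : F ≃ₐ[ZMod 2] F => f y) h
    exact this
  haveI : Finite (F ≃+* F) := Finite.of_injective (fun f => (f : F → F)) DFunLike.coe_injective
  have hle : Nat.card (F ≃+* F) ≤ p := by
    refine (Nat.card_le_card_of_injective ψ hψ).trans ?_
    rw [IsGalois.card_aut_eq_finrank, hfr]
  have htop : Subgroup.zpowers (E.sig hx) = ⊤ := Subgroup.eq_top_of_card_eq _ (le_antisymm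
    (Subgroup.card_le_card_group _) (by rw [Nat.card_zpowers, E.sig_order hx hp hord hW]; exact hle))
  haveI : PerfectRing F 2 := PerfectRing.ofFiniteOfIsReduced 2 F
  have hmem : frobeniusEquiv F 2 ∈ Subgroup.zpowers (E.sig hx) := htop ▸ Subgroup.mem_top _
  obtain ⟨i, hi⟩ := (mem_powers_iff_mem_zpowers).2 hmem
  exact ⟨i, fun y => (congrArg (fun f : F ≃+* F => f y) hi).trans (frobeniusEquiv_apply F 2 y)⟩

theorem isPGroup_q [IsSimpleGroup G] {n : ℕ} (ih : Below.{v} n) (hn : Nat.card G ≤ n) : IsPGroup 2 Q := by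
  classical
  have H := E.hyp
  haveI hQnil : Group.IsNilpotent Q := Lie.RankOne.nilpotent_Q H.setup H.two
  obtain ⟨S, O, P, hmap⟩ := exists_split hQnil
  rcases eq_or_ne O ⊥ with hO | hO
  · refine P.two.to_le fun q hq => ?_
    obtain ⟨x, hx, y, hy, rfl⟩ := P.mul q hq
    rw [hO, Subgroup.mem_bot] at hy
    rw [hy, mul_one]; exact hx
  exfalso
  obtain ⟨d, hd, hd1, y, hy, hy1, hdy⟩ : ∃ d ∈ dGrp a t, d ≠ 1 ∧ ∃ y ∈ O, y ≠ 1 ∧ d * y = y * d := by
    by_contra hcon
    push Not at hcon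
    haveI := Fintype.ofFinite G
    haveI := Fintype.ofFinite Q
    haveI := Fintype.ofFinite S
    haveI := Fintype.ofFinite O
    exact fpf_false H P (fun d hd hd1 y hy hc => by_contra fun hy1 => hcon d hd hd1 y hy hy1 hc) hmap hO
  obtain ⟨k, hk, hkt⟩ := Lie.RankOne.conj_into_centralizer H.setup (X := {d}) (Set.singleton_subset_iff.2 hd)
    (Lie.RankOne.three_of_cent H.setup hd (P.o_le hy) hy1 hdy)
  set v := k * d * k⁻¹ with hv
  have hvV : v ∈ vGrp a t := mem_vGrp.2 ⟨mul_mem (mul_mem hk hd) (inv_mem hk), hkt d rfl⟩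
  set y' := k * y * k⁻¹ with hy'
  have hy'O : y' ∈ O := conj_o H P hk hy
  have hy'1 : y' ≠ 1 := fun h => hy1 (conj_eq_one_iff.1 h)
  have hvy : v * y' = y' * v := by
    calc v * y' = k * (d * y) * k⁻¹ := by rw [hv, hy']; group
      _ = y' * v := by rw [hdy, hv, hy']; group
  obtain ⟨p, i, hp, hord⟩ := exists_prime_pow (x := v) (fun h => hd1 (conj_eq_one_iff.1 h))
  set x := v ^ i with hxdef
  haveI := Fact.mk hp
  have hx : x ∈ vGrp a t := pow_mem hvV i
  have hxy : x * y' = y' * x := ((show Commute v y' from hvy).pow_left i).eq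
  have hx1 : x ≠ 1 := fun h => by rw [h, orderOf_one] at hord; exact hp.one_lt.ne hord
  have hW : x ∉ wGrp a t := fun h => hy'1 (w_fpf E P ih hn h hx1 hy'O hxy)
  have hs : E.s ∈ zGrp G a := Subgroup.subset_closure E.hs
  have hsx : E.s * x = x * E.s := s_comm E hx
  have hq2 : Nat.card ↥(zGrp G a ⊓ Subgroup.centralizer ({x} : Set G)) = 2 := by
    have hcov : ∀ z ∈ zGrp G a, z * x = x * z → z = 1 ∨ z = E.s := by
      intro z hz hzx
      by_contra hcon
      push Not at hcon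
      obtain ⟨k', hk'⟩ := (sub_struct H hx ih hn hx1 hz hs hcon.2 hcon.1 E.hs.2.1 hzx hsx).1
        ⟨y', P.o_le hy'O, Subgroup.mem_centralizer_singleton_iff.2 hxy.symm⟩
      exact hy'1 (P.inter (P.mem_s_iff.2 ⟨P.o_le hy'O, k', congrArg Subtype.val hk'⟩) hy'O)
    have h2 : ((zGrp G a ⊓ Subgroup.centralizer ({x} : Set G) : Subgroup G) : Set G) = {1, E.s} := by
      ext z
      refine ⟨fun h => hcov z h.1 (Subgroup.mem_centralizer_singleton_iff.1 h.2), ?_⟩
      rintro (rfl | rfl)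
      · exact one_mem _
      · exact ⟨hs, Subgroup.mem_centralizer_singleton_iff.2 hsx⟩
    show Nat.card ((zGrp G a ⊓ Subgroup.centralizer ({x} : Set G) : Subgroup G) : Set G) = 2
    rw [Nat.card_coe_set_eq, h2, Set.ncard_pair (Ne.symm E.hs.2.1)]
  have hker : ∀ w ∈ wGrp a t, w * x = x * w → (∀ c : Ω, x • c = c → w • c = c) → w = 1 := by
    intro w hw hwx hfix
    by_contra hw1
    refine hy'1 (w_fpf E P ih hn hw hw1 hy'O ((fix_q_iff H hw.1.1 (P.o_le hy'O)).1 (hfix _ ?_)))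
    rw [← mul_smul, hxy, mul_smul, x_fix_b H hx]
  obtain ⟨m, hm, ⟨R⟩⟩ := exists_reg E hx hp hord hW hq2 hker
  have hp2 := p_ne_two E hx hp hord hW hq2
  have hpQ : ¬ p ∣ Nat.card Q := fun h =>
    hp.one_lt.ne' (Nat.dvd_one.1 ((Nat.dvd_add_right h).1 (E.dvd_card_succ hx hp hord hW)))
  have hpO : ¬ p ∣ Nat.card O := fun h => hpQ (h.trans (Subgroup.card_dvd_of_le P.o_le))
  obtain ⟨hab, hexp, hm2, -⟩ := local_main E hx hp hord hW hq2 R hker
    (fun T hT hTp => w_cyclic E P ih hn hO hp hp2 hpO T hT hTp)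
  -- an elementary abelian central part of the odd part
  haveI hOn : Group.IsNilpotent O := by
    haveI := hQnil
    exact Group.nilpotent_of_mulEquiv (Subgroup.subgroupOfEquivOfLe P.o_le)
  obtain ⟨r, hr, hrO⟩ := Nat.exists_prime_and_dvd (fun h => hO (Subgroup.card_eq_one.1 h) : Nat.card O ≠ 1)
  haveI := Fact.mk hr
  have hr2 : r ≠ 2 := by
    rintro rfl
    exact Nat.not_even_iff_odd.2 P.odd (even_iff_two_dvd.2 hrO)
  obtain ⟨z₀, hz₀, hz₀r, hz₀c⟩ := Grp.Wielandt.exists_central_prime (A := O) hOn hr hrO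
  let Z : Subgroup G :=
    { carrier := {z | z ∈ O ∧ (∀ o ∈ O, o * z = z * o) ∧ z ^ r = 1}
      one_mem' := ⟨one_mem O, fun o _ => by simp, one_pow r⟩
      mul_mem' := fun {b c} hb hc => ⟨mul_mem hb.1 hc.1,
        fun o ho => ((show Commute o b from hb.2.1 o ho).mul_right (hc.2.1 o ho)).eq,
        by rw [(show Commute b c from (hc.2.1 b hb.1)).mul_pow, hb.2.2, hc.2.2, one_mul]⟩
      inv_mem' := fun {b} hb => ⟨inv_mem hb.1, fun o ho => ((show Commute o b from hb.2.1 o ho).inv_right).eq,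
        by rw [inv_pow, hb.2.2, inv_one]⟩ }
  have hZO : Z ≤ O := fun z hz => hz.1
  have hZab : ∀ y ∈ Z, ∀ z ∈ Z, y * z = z * y := fun y hy z hz => hz.2.1 y hy.1
  have hZn : ∀ g ∈ dGrp a t, ∀ z ∈ Z, g * z * g⁻¹ ∈ Z := by
    intro g hg z hz
    refine ⟨conj_o H P hg hz.1, fun o ho => ?_, by rw [conj_pow, hz.2.2, mul_one, mul_inv_cancel]⟩
    have h := conj_o H P (inv_mem hg) ho
    rw [inv_inv] at h
    calc o * (g * z * g⁻¹) = g * ((g⁻¹ * o * g) * z) * g⁻¹ := by group
      _ = g * (z * (g⁻¹ * o * g)) * g⁻¹ := by rw [hz.2.1 _ h]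
      _ = _ := by group
  have hZQ : Z ≤ Q := hZO.trans P.o_le
  have hpZ : ¬ p ∣ Nat.card Z := fun h => hpQ (h.trans (Subgroup.card_dvd_of_le hZQ))
  have hfix := E.card_pow_sub hx hp hord hW hZQ hZn hpZ
  set CZ := Z ⊓ Subgroup.centralizer ({x} : Set G) with hCZ
  have hZ1 : Nat.card Z ≠ 1 := fun h => by
    have hz : z₀ ∈ Z := ⟨hz₀, hz₀c, by rw [← hz₀r, pow_orderOf_eq_one]⟩
    rw [Subgroup.card_eq_one.1 h, Subgroup.mem_bot] at hz
    rw [hz, orderOf_one] at hz₀r
    exact hr.one_lt.ne hz₀r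
  have hCZr : IsPGroup r CZ := fun z => ⟨1, Subtype.ext (by rw [pow_one]; exact z.2.1.2.2)⟩
  have hCZcyc : IsCyclic CZ := by
    by_contra hnc
    haveI : IsMulCommutative CZ := ⟨⟨fun y z => Subtype.ext (hZab _ y.2.1 _ z.2.1)⟩⟩
    have hnorm : CZ ≤ Subgroup.normalizer (R.EE : Set G) := fun g hg => cent_le_normalizer R hg.2
    have hrp : r ≠ p := by
      rintro rfl
      exact hpO hrO
    have hcop : (Nat.card CZ).Coprime (Nat.card R.EE) := by
      obtain ⟨j, hj⟩ := hCZr.exists_card_eq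
      rw [hj, R.card]
      exact ((Nat.coprime_primes hr hp).2 hrp).pow j (m + 1)
    have hle : R.EE ≤ Subgroup.zpowers x := by
      conv_lhs => rw [← Grp.generated_by_centralizers CZ R.EE hnc hnorm hcop]
      refine iSup₂_le fun g hg e he => R.stab e he.1 a (x_fix_a H hx) ?_
      by_contra hne
      refine hg.2 (Lie.RankOne.semireg H.setup (hZQ hg.1.1) hne ?_)
      rw [← mul_smul, ← Subgroup.mem_centralizer_singleton_iff.1 he.2, mul_smul, Lie.RankOne.q_fix H.setup (hZQ hg.1.1)]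
    have hc := Subgroup.card_dvd_of_le hle
    rw [R.card, Nat.card_zpowers, hord] at hc
    have := (Nat.pow_dvd_pow_iff_le_right hp.one_lt).1 (hc.trans (dvd_of_eq (pow_one p).symm))
    omega
  have hCZcard : Nat.card CZ = r := by
    obtain ⟨g, hg⟩ := hCZcyc.exists_generator
    have h1 : orderOf g = Nat.card CZ := orderOf_eq_card_of_forall_mem_zpowers hg
    have h2 : orderOf g ∣ r := orderOf_dvd_of_pow_eq_one (Subtype.ext g.2.1.2.2)
    rw [h1] at h2
    refine ((Nat.dvd_prime hr).1 h2).resolve_left fun h => hZ1 ?_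
    rw [hfix, h, one_pow]
  rw [hCZcard] at hfix
  -- the divisibility
  have hrm : r ∣ p ^ m - 1 := by
    have h1 := card_cq H hx
    rw [R.card_fix] at h1
    rw [show p ^ m - 1 = Nat.card ↥(Q ⊓ Subgroup.centralizer ({x} : Set G)) by omega]
    exact hCZcard ▸ Subgroup.card_dvd_of_le (inf_le_inf_right _ hZQ)
  have hrle : 2 * r ≤ p + 1 := by
    obtain ⟨q, hq⟩ := hp.odd_of_ne_two hp2
    obtain ⟨s', hs'⟩ := hr.odd_of_ne_two hr2
    have hcases : r ∣ p - 1 ∨ r ∣ p + 1 := by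
      rcases (show m = 1 ∨ m = 2 by omega) with rfl | rfl
      · rw [pow_one] at hrm; exact Or.inl hrm
      · rw [show p ^ 2 - 1 = (p + 1) * (p - 1) from Nat.sq_sub_sq p 1] at hrm
        exact (hr.dvd_mul.1 hrm).symm
    have hpp := hp.two_le
    rcases hcases with ⟨c, hc⟩ | ⟨c, hc⟩
    · have h2 : 2 ≤ c := by
        rcases c with _ | _ | c
        · rw [mul_zero] at hc; omega
        · rw [zero_add, mul_one] at hc; omega
        · omega
      have := Nat.mul_le_mul_left r h2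
      omega
    · have h2 : 2 ≤ c := by
        rcases c with _ | _ | c
        · rw [mul_zero] at hc; omega
        · rw [zero_add, mul_one] at hc; omega
        · omega
      have := Nat.mul_le_mul_left r h2
      omega
  -- a generator of `K` conjugate to its square
  haveI := Fintype.ofFinite F
  obtain ⟨g, hg⟩ := IsCyclic.exists_generator (α := Fˣ)
  obtain ⟨j, hj⟩ := frobenius_mem E hx hp hord hW hq2
  set kk := E.C.kap g with hkk
  set h := x ^ j with hhdef
  let κ : Fˣ →* G := MonoidHom.mk' E.C.kap E.C.kap_mul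
  have hordk : orderOf kk = 2 ^ p - 1 := by
    rw [hkk, show E.C.kap g = κ g from rfl, orderOf_injective κ E.C.kap_inj g,
      orderOf_eq_card_of_forall_mem_zpowers hg, Nat.card_units, card_F_two E hx hp hord hW hq2]
  have hhk : h * kk * h⁻¹ = kk ^ 2 := by
    rw [hkk, hhdef, E.sig_kap (pow_mem hx j)]
    show κ _ = κ g ^ 2
    rw [← map_pow]
    refine congrArg κ (Units.ext ?_)
    show E.sig (pow_mem hx j) (g : F) = _
    rw [E.sig_pow hx, hj, Units.val_pow_eq_pow_val]
  obtain ⟨i', hi', hmod⟩ := mersenne_group (r := r) hp hZab (fun z hz => hz.2.2) hfix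
    (k := kk) (h := h) (hZn kk (kGrp_le_dGrp H (E.C.kap_mem g))) (hZn h (pow_mem hx j).1) hhk
    (by rw [← hordk, pow_orderOf_eq_one]) (fun l hl hlM z hz hc => kGrp_fpf H
      (pow_mem (E.C.kap_mem g) l) (fun h1 => by
        have h2 : orderOf kk ≤ l := Nat.le_of_dvd hl (orderOf_dvd_of_pow_eq_one h1)
        rw [hordk] at h2
        omega) (hZQ hz) hc)
  have hbig : p + 1 < 2 ^ p - 1 ∨ p = 3 := by
    rcases Nat.lt_or_ge p 4 with h4 | h4
    · have := hp.two_le; omega
    · left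
      have h1 : ∀ l, 4 ≤ l → l + 2 < 2 ^ l := by
        intro l hl
        induction l, hl using Nat.le_induction with
        | base => norm_num
        | succ l hl ih => rw [pow_succ]; omega
      have := h1 p h4
      omega
  have hM : 2 ^ i' < 2 ^ p - 1 := by
    have h1 : 2 ^ (i' + 1) ≤ 2 ^ p := Nat.pow_le_pow_right (by norm_num) hi'
    have h4 : 2 ^ 2 ≤ 2 ^ p := Nat.pow_le_pow_right (by norm_num) hp.two_le
    rw [pow_succ] at h1
    omega
  have hrlt : r < 2 ^ p - 1 := by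
    rcases hbig with h1 | rfl
    · omega
    · norm_num; omega
  rw [Nat.ModEq, Nat.mod_eq_of_lt hrlt, Nat.mod_eq_of_lt hM] at hmod
  rcases Nat.eq_zero_or_pos i' with h0 | h0
  · rw [h0, pow_zero] at hmod
    exact hr.one_lt.ne' hmod
  · exact hr2 ((Nat.prime_dvd_prime_iff_eq Nat.prime_two hr).1 (hmod ▸ dvd_pow_self 2 h0.ne')).symm

end Cfsg.Agent.Transfer.RankOne
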