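import Cfsg.Agent.Lib.Transfer.RankOne.QSplit
import Cfsg.Agent.Lib.Transfer.RankOne.LocalBound
import Cfsg.Agent.Lib.Transfer.RankOne.Struct
import Cfsg.Agent.Lib.Transfer.RankOne.EigenGroup
import Cfsg.Agent.Lib.Transfer.RankOneCyclic
import Cfsg.Agent.Lib.Grp.CoprimeAbelian
import Cfsg.Agent.Lib.Grp.Wielandt.Basic

/-!
Preparations for the odd part of `Q`: the elements of `W` act on it without fixed points.
-/

set_option autoImplicit false
set_option linter.unusedSectionVars false
set_option linter.style.haveILetI false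

namespace Cfsg.Agent.Transfer.RankOne

open MulAction

universe u v

variable {G : Type u} {Ω : Type v} [Group G] [MulAction G Ω] [Finite G] [FaithfulSMul G Ω]
  {a : Ω} {t : G} {Q : Subgroup G} {F : Type} [Field F] [Finite F] (E : Env a t Q F)
include E

theorem w_cent_z {w z : G} (hw : w ∈ wGrp a t) (hz : z ∈ zGrp G a) : z * w = w * z := by
  obtain ⟨y, rfl⟩ := E.C.e_surj z hz
  exact (E.sig_fix (wGrp_le_vGrp hw)).2 (by rw [(E.sig_one_iff (wGrp_le_vGrp hw)).2 hw]; rfl)

omit E in
theorem exists_prime_pow {x : G} (hx : x ≠ 1) : ∃ (l : ℕ) (i : ℕ), l.Prime ∧ orderOf (x ^ i) = l := by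
  obtain ⟨l, hl, hld⟩ := Nat.exists_prime_and_dvd (fun h => hx (orderOf_eq_one_iff.1 h) : orderOf x ≠ 1)
  exact ⟨l, orderOf x / l, hl, orderOf_pow_orderOf_div (orderOf_pos x).ne' hld⟩

variable {S O : Subgroup G} (P : Split Q S O) {n : ℕ} (ih : Below.{v} n) (hn : Nat.card G ≤ n)
include P ih hn

/-- The non-identity elements of `W` act on the odd part without fixed points. -/
theorem w_fpf {w : G} (hw : w ∈ wGrp a t) (hw1 : w ≠ 1) {y : G} (hy : y ∈ O) (hc : w * y = y * w) : y = 1 := by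
  obtain ⟨l, i, hl, hord⟩ := exists_prime_pow hw1
  have hwi : w ^ i ≠ 1 := fun h => by rw [h, orderOf_one] at hord; exact hl.one_lt.ne hord
  obtain ⟨z, z', hz, hz', hne⟩ := Lie.RankOne.exists_two_involutions E.hyp.setup E.hyp.two
  have hzm : z ∈ zGrp G a := Subgroup.subset_closure hz
  have hzm' : z' ∈ zGrp G a := Subgroup.subset_closure hz'
  have h := (sub_struct E.hyp (x := w ^ i) (pow_mem (wGrp_le_vGrp hw) i) ih hn hwi hzm hzm' hne hz.2.1 hz'.2.1
    ((show Commute z w from w_cent_z E hw hzm).pow_right i).eq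
    ((show Commute z' w from w_cent_z E hw hzm').pow_right i).eq).1
  obtain ⟨k, hk⟩ := h ⟨y, P.o_le hy, Subgroup.mem_centralizer_singleton_iff.2
    ((show Commute y w from hc.symm).pow_right i).eq⟩
  exact P.inter (P.mem_s_iff.2 ⟨P.o_le hy, k, congrArg Subtype.val hk⟩) hy

/-- The subgroups of `W` of prime power order prime to `O` are cyclic. -/
theorem w_cyclic (hO : O ≠ ⊥) {p : ℕ} (hp : p.Prime) (hp2 : p ≠ 2) (hpO : ¬ p ∣ Nat.card O)
    (T : Subgroup G) (hT : T ≤ wGrp a t) (hTp : IsPGroup p T) : IsCyclic T := by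
  haveI := Fact.mk hp
  haveI := Fintype.ofFinite G
  haveI := Fintype.ofFinite Q
  refine RankOneCyclic.isCyclic_of_abelian_cyclic hp2 hTp fun A hA => ?_
  by_contra hnc
  set A' := A.map T.subtype with hA'
  let e := A.equivMapOfInjective T.subtype T.subtype_injective
  haveI : IsMulCommutative A' := ⟨⟨fun y z => e.symm.injective (by rw [map_mul, map_mul]; exact mul_comm' _ _)⟩⟩
  have hA'W : A' ≤ wGrp a t := (Subgroup.map_subtype_le _).trans hT
  have hnc' : ¬ IsCyclic A' := fun h => hnc (isCyclic_of_surjective e.symm.toMonoidHom e.symm.surjective)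
  have hnorm : A' ≤ Subgroup.normalizer (O : Set G) := fun g hg =>
    Subgroup.mem_normalizer_fintype fun y hy => by
      have h := conj_mem_o E.hyp P ⟨g⁻¹, inv_mem (vGrp_le_dGrp (wGrp_le_vGrp (hA'W hg)))⟩ ⟨y, hy⟩
      simp only [inv_inv] at h
      exact h
  have hcop : (Nat.card A').Coprime (Nat.card O) := by
    obtain ⟨j, hj⟩ := ((hTp.to_le (Subgroup.map_subtype_le A) : IsPGroup p A')).exists_card_eq
    rw [hA'] at hj ⊢
    rw [hj]
    exact (hp.coprime_iff_not_dvd.2 hpO).pow_left j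
  refine hO ?_
  rw [← Grp.generated_by_centralizers A' O hnc' hnorm hcop]
  refine le_bot_iff.1 (iSup₂_le fun g hg y hy => Subgroup.mem_bot.2 ?_)
  exact w_fpf E P ih hn (hA'W hg.1) hg.2 hy.1 (Subgroup.mem_centralizer_singleton_iff.1 hy.2).symm

end Cfsg.Agent.Transfer.RankOne
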