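import Cfsg.Agent.Lib.Transfer.RankOne.SquareW
import Cfsg.Agent.Lib.Grp.SuzIdent.Coord
import Cfsg.Agent.Lib.Grp.SuzIdent.Rules

/-!
Coordinates on `Q` of order `q ^ 2` in which `K` is diagonal, and the structure equation of `t`.
-/

set_option autoImplicit false
set_option linter.unusedSectionVars false
set_option linter.style.haveILetI false

namespace Cfsg.Agent.Transfer.RankOne

open MulAction
open Cfsg.Agent.Grp.SuzIdent (mulP sclP nm nm_mul nm_one nm_zero nm_ne_zero Rules)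
open Cfsg.Agent.Lie.RankOne (b_ne q_fix q_unique exists_q t_smul_b)

universe u v

variable {G : Type u} {Ω : Type v} [Group G] [MulAction G Ω]

/-- Pairs of field elements as coordinates on `Q`, with `K` diagonal. -/
structure QCoord (a : Ω) (t : G) (Q : Subgroup G) (K : Type) [Field K] (φ : K ≃+* K) where
  e : K × K → G
  mem : ∀ p, e p ∈ Q
  inj : Function.Injective e
  surj : ∀ u ∈ Q, ∃ p, e p = u
  mul : ∀ p q, e p * e q = e (mulP φ p q)
  h : K → G
  h_mem : ∀ c, c ≠ 0 → h c ∈ kGrp a t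
  h_surj : ∀ k ∈ kGrp a t, ∃ c, c ≠ 0 ∧ h c = k
  h_conj : ∀ c, c ≠ 0 → ∀ p, h c * e p * (h c)⁻¹ = e (sclP φ c p)

namespace QCoord

variable {a : Ω} {t : G} {Q : Subgroup G} {K : Type} [Field K] {φ : K ≃+* K} (C : QCoord a t Q K φ)

theorem e_zero : C.e 0 = 1 := by
  have h := C.mul 0 0
  have e0 : mulP φ (0 : K × K) 0 = 0 := by simp [mulP]
  rw [e0] at h
  exact mul_eq_left.1 h

/-- Replace the coordinates by diagonally rescaled ones. -/
def scale {α : K} (hα : α ≠ 0) : QCoord a t Q K φ where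
  e p := C.e (sclP φ α p)
  mem p := C.mem _
  inj p q h := by
    have := C.inj h
    simp only [sclP, Prod.mk.injEq] at this
    exact Prod.ext (mul_left_cancel₀ hα this.1) (mul_left_cancel₀ (nm_ne_zero φ hα) this.2)
  surj u hu := by
    obtain ⟨p, rfl⟩ := C.surj u hu
    refine ⟨sclP φ α⁻¹ p, congrArg C.e ?_⟩
    simp only [sclP, ← mul_assoc, mul_inv_cancel₀ hα, ← nm_mul, nm_one, one_mul]
  mul p q := by
    rw [C.mul]
    refine congrArg C.e ?_
    simp only [sclP, mulP, nm, map_mul, Prod.mk.injEq]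
    exact ⟨by ring, by ring⟩
  h := C.h
  h_mem := C.h_mem
  h_surj := C.h_surj
  h_conj c hc p := by
    rw [C.h_conj c hc]
    refine congrArg C.e ?_
    simp only [sclP, nm, Prod.mk.injEq]
    exact ⟨by ring, by ring⟩

variable [CharP K 2]

/-- The recoordinatisation exchanging the two normalisations. -/
def twist : QCoord a t Q K φ.symm where
  e p := C.e (p.1, φ p.2 + p.1 * φ p.1)
  mem p := C.mem _
  inj p q h := by
    have := C.inj h
    simp only [Prod.mk.injEq] at this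
    obtain ⟨h1, h2⟩ := this
    refine Prod.ext h1 (φ.injective ?_)
    rw [h1] at h2
    exact add_right_cancel h2
  surj u hu := by
    obtain ⟨p, rfl⟩ := C.surj u hu
    refine ⟨(p.1, φ.symm (p.2 + p.1 * φ p.1)), congrArg C.e ?_⟩
    simp only [RingEquiv.apply_symm_apply, add_assoc, CharTwo.add_self_eq_zero, add_zero]
  mul p q := by
    rw [C.mul]
    refine congrArg C.e ?_
    simp only [mulP, map_add, map_mul, RingEquiv.apply_symm_apply, Prod.mk.injEq, true_and]
    linear_combination -(φ p.1 * q.1) * CharTwo.two_eq_zero (R := K)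
  h := C.h
  h_mem := C.h_mem
  h_surj := C.h_surj
  h_conj c hc p := by
    rw [C.h_conj c hc]
    refine congrArg C.e ?_
    simp only [sclP, nm, map_mul, RingEquiv.apply_symm_apply, Prod.mk.injEq, true_and]
    ring

/-- The point attached to a pair. -/
def pt (p : K × K) : Ω := C.e p • (t • a)

variable [Finite G] [FaithfulSMul G Ω] (H : Hyp G Ω a t Q)
include H

theorem pt_ne (p : K × K) : C.pt p ≠ a := Lie.RankOne.ne_of_q_smul H.setup (C.mem p) (b_ne H.setup)

theorem pt_inj {p q : K × K} (h : C.pt p = C.pt q) : p = q :=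
  C.inj (q_unique H.setup (C.mem p) (C.mem q) h)

theorem pt_zero : C.pt 0 = t • a := by rw [pt, C.e_zero, one_smul]

theorem exists_pt {x : Ω} (hx : x ≠ a) : ∃ p, C.pt p = x := by
  obtain ⟨u, hu, hub⟩ := exists_q H.setup hx
  obtain ⟨p, rfl⟩ := C.surj u hu
  exact ⟨p, hub⟩

theorem e_smul_pt (p q : K × K) : C.e p • C.pt q = C.pt (mulP φ p q) := by
  rw [pt, pt, ← C.mul, mul_smul]

theorem h_smul_pt {c : K} (hc : c ≠ 0) (p : K × K) : C.h c • C.pt p = C.pt (sclP φ c p) := by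
  rw [pt, pt, ← C.h_conj c hc, mul_smul, mul_smul, smul_left_cancel_iff, smul_left_cancel_iff,
    eq_inv_smul_iff]
  exact mem_stabilizer_iff.1 (kGrp_le_dGrp H (C.h_mem c hc)).2

theorem h_inv {c : K} (hc : c ≠ 0) : (C.h c)⁻¹ = C.h c⁻¹ := by
  have hci := inv_ne_zero hc
  set d := C.h c * C.h c⁻¹ with hd
  have hd1 : d * C.e (1, 0) = C.e (1, 0) * d := by
    have h1 : C.h c * (C.h c⁻¹ * C.e (1, 0) * (C.h c⁻¹)⁻¹) * (C.h c)⁻¹ = C.e (1, 0) := by
      rw [C.h_conj _ hci, C.h_conj _ hc]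
      refine congrArg C.e ?_
      simp only [sclP, mul_zero, mul_one, mul_inv_cancel₀ hc]
    refine mul_inv_eq_iff_eq_mul.1 ?_
    rw [hd]
    conv_rhs => rw [← h1]
    group
  refine inv_eq_of_mul_eq_one_right ?_
  rw [← hd]
  by_contra hne
  have := kGrp_fpf H (mul_mem (C.h_mem c hc) (C.h_mem _ hci)) hne (C.mem _) hd1
  rw [← C.e_zero] at this
  exact one_ne_zero (congrArg Prod.fst (C.inj this) : (1 : K) = 0)

/-- The map induced by `t` on pairs. -/
noncomputable def tau (p : K × K) : K × K :=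
  open scoped _root_.Classical in
  if h : ∃ q, C.pt q = t • C.pt p then h.choose else 0

theorem pt_tau {p : K × K} (hp : p ≠ 0) : C.pt (C.tau p) = t • C.pt p := by
  have h : ∃ q, C.pt q = t • C.pt p := C.exists_pt H fun e => hp (C.pt_inj H (by
    rw [C.pt_zero H]
    exact smul_left_cancel t (e.trans (t_smul_b H.setup).symm)))
  rw [tau, dif_pos h]
  exact h.choose_spec

omit H in
/-- The relation between `t` and two elements of `Q`. -/
def Rel (ζ r : K) : Prop := t * C.e (0, ζ) * t = C.e (1, r) * t * (C.e (1, r))⁻¹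

theorem rules {ζ r : K} (hnid : φ ≠ RingEquiv.refl K) (hinj : ∀ a : K, a * φ a = 1 → a = 1) (hζ : ζ ≠ 0)
    (hr : C.Rel ζ r) : Rules φ ζ r C.tau := by
  have t2 := H.setup.mul_self
  have htb := t_smul_b H.setup
  have htt : ∀ x : Ω, t • t • x = x := fun x => by rw [← mul_smul, t2, one_smul]
  have hne : ∀ p : K × K, p ≠ 0 → C.tau p ≠ 0 := fun p hp e => by
    have h := C.pt_tau H hp
    rw [e, C.pt_zero H] at h
    exact C.pt_ne H p (smul_left_cancel t h).symm
  have hA : C.e (1, r) * C.e (1, r + 1) = 1 := by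
    rw [C.mul, ← C.e_zero]
    refine congrArg C.e ?_
    simp only [mulP, map_one, mul_one, CharTwo.add_self_eq_zero]
    exact Prod.ext rfl (show r + (r + 1) + 1 = 0 by linear_combination (r + 1) * CharTwo.two_eq_zero (R := K))
  have hAi : (C.e (1, r))⁻¹ = C.e (1, r + 1) := inv_eq_of_mul_eq_one_right hA
  have hr' : C.e (0, ζ) * t * C.e (1, r) = t * C.e (1, r) * t := by
    have e1 : C.e (0, ζ) = t * (C.e (1, r) * t * (C.e (1, r))⁻¹) * t := by
      rw [← hr]
      calc C.e (0, ζ) = (t * t) * C.e (0, ζ) * (t * t) := by rw [t2, one_mul, mul_one]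
        _ = _ := by group
    rw [e1]
    calc t * (C.e (1, r) * t * (C.e (1, r))⁻¹) * t * t * C.e (1, r)
        = t * C.e (1, r) * t * (C.e (1, r))⁻¹ * (t * t) * C.e (1, r) := by group
      _ = _ := by rw [t2]; group
  have hzero : ∀ v : K × K, v ≠ (1, r + 1) → mulP φ (1, r) v ≠ 0 := by
    intro v hv e
    refine hv (C.inj ?_)
    have h1 : C.e (1, r) * C.e v = 1 := by rw [C.mul, e, C.e_zero]
    exact (eq_inv_of_mul_eq_one_right h1).trans hAi
  have hzero' : ∀ v : K × K, v ≠ (1, r) → mulP φ (1, r + 1) v ≠ 0 := by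
    intro v hv e
    refine hv (C.inj ?_)
    have h1 : C.e (1, r + 1) * C.e v = 1 := by rw [C.mul, e, C.e_zero]
    rw [eq_inv_of_mul_eq_one_right h1, ← hAi, inv_inv]
  refine ⟨hnid, hinj, hζ, hne, fun p hp => C.pt_inj H ?_, fun c hc p hp => C.pt_inj H ?_, C.pt_inj H ?_,
    fun v hv hv' => C.pt_inj H ?_, fun v hv hv' => C.pt_inj H ?_⟩
  · rw [C.pt_tau H (hne p hp), C.pt_tau H hp, htt]
  · have hsp : sclP φ c p ≠ 0 := fun e => hp (by
      have h := congrArg (sclP φ c⁻¹) e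
      simpa [sclP, ← mul_assoc, inv_mul_cancel₀ hc, ← nm_mul, nm_one, Prod.ext_iff] using h)
    rw [C.pt_tau H hsp, ← C.h_smul_pt H hc, ← C.h_smul_pt H (inv_ne_zero hc), C.pt_tau H hp, ← C.h_inv H hc,
      ← mul_smul, ← mul_smul]
    congr 1
    rw [← t_k H (C.h_mem c hc), mul_assoc (t * C.h c), t2, mul_one]
  · have h := congrArg (fun g : G => g • a) hr
    simp only [mul_smul] at h
    rw [inv_smul_eq_iff.2 (q_fix H.setup (C.mem _)).symm] at h
    rw [C.pt_tau H (Rules.pair_ne (Or.inr hζ))]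
    exact h
  · set p := mulP φ (0, ζ) (C.tau v) with hp
    have h : t • C.pt p = C.pt (mulP φ (1, r) (C.tau (mulP φ (1, r + 1) v))) := by
      rw [hp, ← C.e_smul_pt H, C.pt_tau H hv, ← mul_smul, ← mul_smul, hr, hAi, mul_smul, mul_smul,
        C.e_smul_pt H, ← C.pt_tau H (hzero' v hv'), C.e_smul_pt H]
    have hp0 : p ≠ 0 := fun e => by
      rw [e, C.pt_zero H, htb] at h
      exact C.pt_ne H _ h.symm
    rw [C.pt_tau H hp0, h]
  · set p := mulP φ (1, r) (C.tau v) with hp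
    have h : t • C.pt p = C.pt (mulP φ (0, ζ) (C.tau (mulP φ (1, r) v))) := by
      rw [hp, ← C.e_smul_pt H, C.pt_tau H hv, ← mul_smul, ← mul_smul, ← hr', mul_smul, mul_smul,
        C.e_smul_pt H, ← C.pt_tau H (hzero v hv'), C.e_smul_pt H]
    have hp0 : p ≠ 0 := fun e => by
      rw [e, C.pt_zero H, htb] at h
      exact C.pt_ne H _ h.symm
    rw [C.pt_tau H hp0, h]

end QCoord

variable [Finite G] [FaithfulSMul G Ω] {a : Ω} {t : G} {Q : Subgroup G}

/-- Coordinates on `Q` exist. -/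
theorem exists_qcoord (H : Hyp G Ω a t Q) (hQ2 : IsPGroup 2 Q) (hna : ∃ x ∈ Q, ∃ y ∈ Q, x * y ≠ y * x)
    (hsz : Nat.card Q = Nat.card (zGrp G a) ^ 2) :
    ∃ (K : Type) (_ : Field K) (_ : Fintype K) (φ : K ≃+* K) (_ : QCoord a t Q K φ),
      Fintype.card K = Nat.card (zGrp G a) ∧ CharP K 2 ∧ φ ≠ RingEquiv.refl K ∧
      ∀ a : K, a * φ a = 1 → a = 1 := by
  classical
  obtain ⟨z₁, z₂, hz₁, hz₂, hne⟩ := Lie.RankOne.exists_two_involutions H.setup H.two
  have hcQ : ∀ (k : kGrp a t) (y : Q), (k : G) * y * (k : G)⁻¹ ∈ Q := fun k y =>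
    H.setup.conj_mem _ (kGrp_le_dGrp H k.2).1 _ y.2
  let cj : kGrp a t →* MulAut Q :=
    { toFun := fun k =>
        { toFun := fun y => ⟨_, hcQ k y⟩
          invFun := fun y => ⟨_, hcQ k⁻¹ y⟩
          left_inv := fun y => Subtype.ext (by
            show ((k⁻¹ : kGrp a t) : G) * ((k : G) * y * (k : G)⁻¹) * ((k⁻¹ : kGrp a t) : G)⁻¹ = y
            rw [Subgroup.coe_inv]; group)
          right_inv := fun y => Subtype.ext (by
            show (k : G) * (((k⁻¹ : kGrp a t) : G) * y * ((k⁻¹ : kGrp a t) : G)⁻¹) * (k : G)⁻¹ = y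
            rw [Subgroup.coe_inv]; group)
          map_mul' := fun y y' => Subtype.ext (by
            show (k : G) * ((y : G) * y') * (k : G)⁻¹ = (k : G) * y * (k : G)⁻¹ * ((k : G) * y' * (k : G)⁻¹)
            group) }
      map_one' := MulEquiv.ext fun y => Subtype.ext (by
        show ((1 : kGrp a t) : G) * y * ((1 : kGrp a t) : G)⁻¹ = y
        rw [Subgroup.coe_one, one_mul, inv_one, mul_one])
      map_mul' := fun k k' => MulEquiv.ext fun y => Subtype.ext (by
        show ((k * k' : kGrp a t) : G) * y * ((k * k' : kGrp a t) : G)⁻¹ =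
          (k : G) * ((k' : G) * y * (k' : G)⁻¹) * (k : G)⁻¹
        rw [Subgroup.coe_mul]; group) }
  have hcj : ∀ (k : kGrp a t) (y : Q), ((cj k y : Q) : G) = (k : G) * y * (k : G)⁻¹ := fun _ _ => rfl
  have hcyc : IsCyclic (kGrp a t) := by
    obtain ⟨k₀, -, e⟩ := exists_k_gen H
    rw [e]
    exact isCyclic_of_surjective (MonoidHom.id _) Function.surjective_id
  have hcinj : ∀ {x : Q}, x ≠ 1 → ∀ {k k' : kGrp a t}, cj k x = cj k' x → k = k' := by
    intro x hx k k' h
    have h' : (k : G) * x * (k : G)⁻¹ = (k' : G) * x * (k' : G)⁻¹ := congrArg Subtype.val h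
    by_contra hne'
    refine hx (Subtype.ext (kGrp_fpf H (mul_mem (inv_mem k'.2) k.2)
      (fun e => hne' (Subtype.ext (inv_mul_eq_one.1 e).symm)) x.2 ?_))
    calc (k' : G)⁻¹ * k * x = (k' : G)⁻¹ * ((k : G) * x * (k : G)⁻¹) * k := by group
      _ = _ := by rw [h']; group
  have hinv : ∀ x : Q, x ≠ 1 → x * x = 1 → (x : G) ∈ Cfsg.involutionsIn (stabilizer G a : Set G) := fun x h1 h2 =>
    ⟨H.setup.le x.2, fun e => h1 (Subtype.ext e), congrArg Subtype.val h2⟩
  have hreg : ∀ x y : Q, x ≠ 1 → x * x = 1 → y ≠ 1 → y * y = 1 →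
      ∃! k : cj.range, (k : MulAut Q) x = y := by
    intro x y hx hx2 hy hy2
    obtain ⟨k, hk, e⟩ := exists_k_conj H (hinv x hx hx2) (hinv y hy hy2)
    refine ⟨⟨cj ⟨k, hk⟩, _, rfl⟩, Subtype.ext e, ?_⟩
    rintro ⟨_, k', rfl⟩ hk'
    exact Subtype.ext (congrArg cj (hcinj hx (hk'.trans (Subtype.ext e).symm)))
  have hzc : ∀ y : Q, y ∈ Subgroup.center Q ↔ (y : G) ∈ zGrp G a := fun y => by
    rw [Subgroup.mem_center_iff, ← center_iff H hsz hna y.2]
    exact ⟨fun h g hg => congrArg Subtype.val (h ⟨g, hg⟩), fun h g => Subtype.ext (h g g.2)⟩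
  have hcard : Nat.card Q = Nat.card (Subgroup.center Q) ^ 2 := by
    rw [hsz]
    congr 1
    exact Nat.card_congr
      { toFun := fun z => ⟨⟨z, zGrp_le H z.2⟩, (hzc _).2 z.2⟩
        invFun := fun y => ⟨(y : Q), (hzc _).1 y.2⟩
        left_inv := fun _ => rfl
        right_inv := fun _ => rfl }
  obtain ⟨x₀, hx₀, y₀, hy₀, hne₀⟩ := hna
  have hzQ : ∀ {z : G}, z ∈ Cfsg.involutionsIn (stabilizer G a : Set G) → z ∈ Q := fun hz =>
    Lie.RankOne.invol_mem_Q H.setup hz.1 hz.2.2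
  have hnaQ : ∃ x y : Q, x * y ≠ y * x := ⟨⟨x₀, hx₀⟩, ⟨y₀, hy₀⟩, fun e => hne₀ (congrArg Subtype.val e)⟩
  obtain ⟨K, iK, iK', φ', e', w, hK, hchar, hw, hinj', hmul', heq'⟩ :=
    Grp.SuzIdent.exists_coordinates hQ2 hnaQ (t₁ := ⟨z₁, hzQ hz₁⟩) (t₂ := ⟨z₂, hzQ hz₂⟩)
      (fun e => hne (congrArg Subtype.val e)) (fun e => hz₁.2.1 (congrArg Subtype.val e)) (Subtype.ext hz₁.2.2)
      (fun e => hz₂.2.1 (congrArg Subtype.val e)) (Subtype.ext hz₂.2.2) cj.range
      (isCyclic_of_surjective cj.rangeRestrict cj.rangeRestrict_surjective) hreg hcard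
  haveI := hchar
  have hk : ∀ c : Kˣ, ∃ k : kGrp a t, cj k = (w c : MulAut Q) := fun c => (w c).2
  choose kf hkf using hk
  have he1 : ∀ p q : K × K, e' p * e' q = e' (p.1 + q.1, p.2 + q.2 + φ' p.1 * q.1) :=
    fun p q => hmul' p.1 p.2 q.1 q.2
  let C : QCoord a t Q K φ'.symm :=
    { e := fun p => (e' (p.1, φ' p.2) : G)
      mem := fun p => (e' _).2
      inj := fun p q h => by
        have := e'.injective (Subtype.ext h)
        simp only [Prod.mk.injEq, EmbeddingLike.apply_eq_iff_eq] at this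
        exact Prod.ext this.1 this.2
      surj := fun u hu => by
        obtain ⟨p, hp⟩ := e'.surjective ⟨u, hu⟩
        exact ⟨(p.1, φ'.symm p.2), by simp [hp]⟩
      mul := fun p q => by
        rw [← Subgroup.coe_mul, he1]
        simp only [mulP, map_add, map_mul, RingEquiv.apply_symm_apply]
      h := fun c => if hc : c = 0 then 1 else (kf (Units.mk0 c hc) : G)
      h_mem := fun c hc => by rw [dif_neg hc]; exact (kf _).2
      h_surj := fun k hk => by
        obtain ⟨c, hc⟩ := hw.2 ⟨cj ⟨k, hk⟩, _, rfl⟩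
        refine ⟨c, c.ne_zero, ?_⟩
        rw [dif_neg c.ne_zero, Units.mk0_val]
        have h1 : cj (kf c) = cj ⟨k, hk⟩ := (hkf c).trans (congrArg Subtype.val hc)
        exact congrArg Subtype.val (hcinj (x := ⟨z₁, hzQ hz₁⟩) (fun e => hz₁.2.1 (congrArg Subtype.val e))
          (congrArg (fun f : MulAut Q => f _) h1))
      h_conj := fun c hc p => by
        rw [dif_neg hc, ← hcj, hkf, heq']
        simp only [sclP, nm, map_mul, RingEquiv.apply_symm_apply, Units.val_mk0]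
        congr 3
        ring }
  refine ⟨K, iK, iK', φ'.symm, C, ?_, hchar, fun e => ?_, fun a ha => ?_⟩
  · rw [hK]
    exact Nat.card_congr
      { toFun := fun y => ⟨(y : Q), (hzc _).1 y.2⟩
        invFun := fun z => ⟨⟨z, zGrp_le H z.2⟩, (hzc _).2 z.2⟩
        left_inv := fun _ => rfl
        right_inv := fun _ => rfl }
  · obtain ⟨x, y, hxy⟩ := hnaQ
    obtain ⟨p, rfl⟩ := e'.surjective x
    obtain ⟨q, rfl⟩ := e'.surjective y
    refine hxy ?_
    have hφ : ∀ z, φ' z = z := fun z => by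
      have := congrArg (fun f : K ≃+* K => f (φ' z)) e
      simpa using this.symm
    rw [he1, he1, hφ, hφ]
    congr 2 <;> ring
  · refine hinj' a ?_
    have := congrArg φ' ha
    rw [map_mul, map_one, RingEquiv.apply_symm_apply] at this
    rw [mul_comm]; exact this

/-- Normalised coordinates exist. -/
theorem exists_normal_q {F : Type} [Field F] [Finite F] (E : Env a t Q F) (hQ2 : IsPGroup 2 Q)
    (hna : ∃ x ∈ Q, ∃ y ∈ Q, x * y ≠ y * x) (hsz : Nat.card Q = Nat.card (zGrp G a) ^ 2) :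
    ∃ (m : ℕ) (K : Type) (_ : Field K) (_ : Fintype K) (φ : K ≃+* K) (C : QCoord a t Q K φ),
      1 ≤ m ∧ Fintype.card K = 2 ^ (2 * m + 1) ∧ CharP K 2 ∧ (∀ c, φ (φ c) * φ (φ c) = c) ∧
      Rules φ 1 0 C.tau := by
  classical
  have H := E.hyp
  have hr := r_not_mem_square E hQ2 hna hsz
  obtain ⟨K, iK, iK', φ, C, hK, hchar, hnid, hinj⟩ := exists_qcoord H hQ2 hna hsz
  haveI := hchar
  obtain ⟨⟨σ₀, σ⟩, hσ⟩ := C.surj E.s (Lie.RankOne.invol_mem_Q H.setup E.hs.1 E.hs.2.2)
  have hσ0 : σ₀ = 0 := by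
    have h := E.hs.2.2
    rw [← hσ, C.mul, ← C.e_zero] at h
    have h' := congrArg Prod.snd (C.inj h)
    simp only [mulP, CharTwo.add_self_eq_zero, zero_add, Prod.snd_zero, mul_eq_zero,
      EmbeddingLike.map_eq_zero_iff, or_self] at h'
    exact h'
  subst hσ0
  obtain ⟨⟨α, β⟩, hab⟩ := C.surj E.r⁻¹ (inv_mem E.hr)
  have hα : α ≠ 0 := by
    rintro rfl
    refine hr (inv_mem_iff.1 ((mem_zGrp' H).2 ⟨inv_mem E.hr, ?_⟩))
    rw [← hab, C.mul, ← C.e_zero]
    exact congrArg C.e (by simp [mulP, CharTwo.add_self_eq_zero])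
  have hσne : σ ≠ 0 := fun h => E.hs.2.1 (by
    rw [← hσ, h]
    exact C.e_zero)
  have hζ : σ / nm φ α ≠ 0 := div_ne_zero hσne (nm_ne_zero φ hα)
  have hrel : (C.scale hα).Rel (σ / nm φ α) (β / nm φ α) := by
    show t * C.e (sclP φ α (0, σ / nm φ α)) * t =
      C.e (sclP φ α (1, β / nm φ α)) * t * (C.e (sclP φ α (1, β / nm φ α)))⁻¹
    have h1 := nm_ne_zero φ hα
    rw [show sclP φ α (0, σ / nm φ α) = ((0 : K), σ) from Prod.ext (mul_zero α) (mul_div_cancel₀ _ h1),
      show sclP φ α (1, β / nm φ α) = (α, β) from Prod.ext (mul_one α) (mul_div_cancel₀ _ h1), hσ, hab, inv_inv]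
    exact E.eq
  have R := (C.scale hα).rules H hnid hinj hζ hrel
  have hζ1 := R.zeta_eq_one
  rw [hζ1] at R hrel
  obtain ⟨n, hn2, hn⟩ := exists_card_zGrp H
  rw [hn] at hK
  -- the degree is odd
  have fin : ∀ (ψ : K ≃+* K), (∀ c, ψ (ψ c) * ψ (ψ c) = c) → ∃ m, 1 ≤ m ∧ Fintype.card K = 2 ^ (2 * m + 1) := by
    intro ψ hψ
    rcases Nat.even_or_odd n with he | ho
    · exfalso
      obtain ⟨k, hk⟩ := he
      have h3 : 3 ∣ Fintype.card Kˣ := by
        rw [Fintype.card_units, hK, hk, ← two_mul, pow_mul]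
        exact (by have := Nat.sub_dvd_pow_sub_pow (2 ^ 2) 1 k; rwa [one_pow] at this)
      haveI := Fact.mk Nat.prime_three
      obtain ⟨w, hw⟩ := exists_prime_orderOf_dvd_card 3 h3
      have hw' : IsPrimitiveRoot (w : K) 3 := IsPrimitiveRoot.coe_units_iff.2 (hw ▸ IsPrimitiveRoot.orderOf w)
      obtain ⟨i, hi, hi'⟩ := hw'.eq_pow_of_pow_eq_one (ξ := ψ (w : K)) (by
        rw [← map_pow, hw'.pow_eq_one, map_one])
      have hi0 : i ≠ 0 := fun e => hw'.ne_one (by norm_num) (ψ.injective (by rw [← hi', e, pow_zero, map_one]))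
      have hfix : ψ (ψ (w : K)) = w := by
        rw [← hi', map_pow, ← hi', ← pow_mul, ← pow_mod_orderOf, ← hw'.eq_orderOf,
          show i * i % 3 = 1 by rcases (show i = 1 ∨ i = 2 by omega) with rfl | rfl <;> rfl, pow_one]
      have h := hψ (w : K)
      rw [hfix, mul_eq_left₀ w.ne_zero] at h
      exact hw'.ne_one (by norm_num) h
    · obtain ⟨m, rfl⟩ := ho
      exact ⟨m, by omega, hK⟩
  rcases R.main with ⟨hr0, hB⟩ | hr1
  · rw [hr0] at R
    obtain ⟨m, hm, hKm⟩ := fin φ hB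
    exact ⟨m, K, iK, iK', φ, C.scale hα, hm, hKm, hchar, hB, R⟩
  rw [hr1] at hrel
  have hrel' : (C.scale hα).twist.Rel 1 0 := by
    show t * (C.scale hα).e ((0 : K), φ 1 + 0 * φ 0) * t =
      (C.scale hα).e ((1 : K), φ 0 + 1 * φ 1) * t * ((C.scale hα).e ((1 : K), φ 0 + 1 * φ 1))⁻¹
    rw [map_one, map_zero, mul_zero, add_zero, one_mul, zero_add]
    exact hrel
  have hnid' : φ.symm ≠ RingEquiv.refl K := fun e => hnid (RingEquiv.ext fun x => by
    have := congrArg (fun f : K ≃+* K => f (φ x)) e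
    simpa using this.symm)
  have hinj'' : ∀ a : K, a * φ.symm a = 1 → a = 1 := fun a ha => hinj a (by
    have := congrArg φ ha
    rw [map_mul, map_one, RingEquiv.apply_symm_apply] at this
    rw [mul_comm]; exact this)
  have R' := (C.scale hα).twist.rules H hnid' hinj'' one_ne_zero hrel'
  rcases R'.main with ⟨-, hB⟩ | h
  · obtain ⟨m, hm, hKm⟩ := fin φ.symm hB
    exact ⟨m, K, iK, iK', φ.symm, (C.scale hα).twist, hm, hKm, hchar, hB, R'⟩
  · exact absurd h zero_ne_one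

end Cfsg.Agent.Transfer.RankOne
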