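import Cfsg.Agent.Lib.Transfer.RankOne.CharCore
import Cfsg.Agent.Lib.Char.Perm
import Cfsg.Agent.Lib.Char.Complete

/-!
The kernel `Q` of the rank-one set-up as the product of its Sylow 2-subgroup `S` and the subgroup `O` of its
elements of odd order, and the products of characters of the two factors.
-/

set_option autoImplicit false
set_option linter.unusedSectionVars false

namespace Cfsg.Agent.Transfer.RankOne

open MulAction
open scoped ComplexConjugate
open Cfsg.Agent.Char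

universe u v

variable {G : Type u} [Group G]

/-- A decomposition of a subgroup into commuting subgroups of two-power and of odd order. -/
structure Split (Q S O : Subgroup G) : Prop where
  s_le : S ≤ Q
  o_le : O ≤ Q
  two : IsPGroup 2 S
  odd : Odd (Nat.card O)
  comm : ∀ x ∈ S, ∀ y ∈ O, x * y = y * x
  mul : ∀ q ∈ Q, ∃ x ∈ S, ∃ y ∈ O, q = x * y

theorem exists_split [Finite G] {Q : Subgroup G} (hQ : Group.IsNilpotent Q) :
    ∃ S O : Subgroup G, Split Q S O ∧ ∃ P : Sylow 2 Q, S = (P : Subgroup Q).map Q.subtype := by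
  classical
  haveI : Fact (Nat.Prime 2) := ⟨Nat.prime_two⟩
  haveI := hQ
  let P : Sylow 2 Q := default
  haveI hPn : (P : Subgroup Q).Normal := inferInstance
  have hcop : Nat.Coprime (Nat.card (P : Subgroup Q)) (P : Subgroup Q).index := by
    obtain ⟨n, hn⟩ := IsPGroup.iff_card.1 P.isPGroup'
    rw [hn]
    exact Nat.Coprime.pow_left _ (Nat.prime_two.coprime_iff_not_dvd.2 P.not_dvd_index)
  obtain ⟨C, hC⟩ := Subgroup.exists_right_complement'_of_coprime hcop
  have hCodd : Odd (Nat.card C) := by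
    rw [← hC.symm.index_eq_card]
    exact Nat.odd_iff.2 (Nat.two_dvd_ne_zero.1 P.not_dvd_index)
  have hcomm : ∀ x ∈ (P : Subgroup Q), ∀ y ∈ C, x * y = y * x := by
    set Z := Subgroup.centralizer ((P : Subgroup Q) : Set Q) with hZ
    haveI hZn : Z.Normal := Subgroup.normal_centralizer
    have hidx : ∀ p : ℕ, p.Prime → p ∣ Z.index → p = 2 := by
      intro p hp hpd
      by_contra hne
      haveI := Fact.mk hp
      let R : Sylow p Q := default
      haveI : (R : Subgroup Q).Normal := inferInstance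
      have hdis : Disjoint (P : Subgroup Q) (R : Subgroup Q) :=
        IsPGroup.disjoint_of_ne 2 p (Ne.symm hne) _ _ P.isPGroup' R.isPGroup'
      have hle : (R : Subgroup Q) ≤ Z := fun y hy => Subgroup.mem_centralizer_iff.2 fun x hx =>
        Subgroup.commute_of_normal_of_disjoint _ _ inferInstance inferInstance hdis x y hx hy
      exact R.not_dvd_index (hpd.trans (Subgroup.index_dvd_of_le hle))
    intro x hx y hy
    have hy1 : Odd (orderOf (QuotientGroup.mk' Z y)) := by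
      refine hCodd.of_dvd_nat ((orderOf_map_dvd _ y).trans ?_)
      rw [← Subgroup.orderOf_mk y hy]; exact orderOf_dvd_natCard _
    have hy2 : orderOf (QuotientGroup.mk' Z y) = 1 := by
      by_contra h1
      obtain ⟨p, hp, hpd⟩ := Nat.exists_prime_and_dvd h1
      have h2 := hidx p hp (hpd.trans (by rw [Subgroup.index_eq_card]; exact orderOf_dvd_natCard _))
      subst h2
      exact (Nat.not_even_iff_odd.2 hy1) (even_iff_two_dvd.2 hpd)
    rw [orderOf_eq_one_iff, QuotientGroup.mk'_apply, QuotientGroup.eq_one_iff] at hy2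
    exact Subgroup.mem_centralizer_iff.1 hy2 x hx
  refine ⟨(P : Subgroup Q).map Q.subtype, C.map Q.subtype, ⟨Subgroup.map_subtype_le _,
    Subgroup.map_subtype_le _, P.isPGroup'.map _, ?_, ?_, ?_⟩, P, rfl⟩
  · rwa [Nat.card_congr (Subgroup.equivMapOfInjective C Q.subtype Q.subtype_injective).toEquiv.symm]
  · rintro _ ⟨x, hx, rfl⟩ _ ⟨y, hy, rfl⟩
    exact congrArg Subtype.val (hcomm x hx y hy)
  · intro q hq
    obtain ⟨⟨x, y⟩, hxy⟩ := hC.2 ⟨q, hq⟩
    exact ⟨x.1, ⟨x.1, x.2, rfl⟩, y.1, ⟨y.1, y.2, rfl⟩, (congrArg Subtype.val hxy).symm⟩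

section Split

variable [Finite G] {Q S O : Subgroup G} (P : Split Q S O)
include P

theorem Split.inter {x : G} (hx : x ∈ S) (hy : x ∈ O) : x = 1 := by
  obtain ⟨k, hk⟩ := P.two ⟨x, hx⟩
  have h1 : orderOf x ∣ 2 ^ k := orderOf_dvd_of_pow_eq_one (congrArg Subtype.val hk)
  have h2 : Odd (orderOf x) := P.odd.of_dvd_nat (by rw [← Subgroup.orderOf_mk x hy]; exact orderOf_dvd_natCard _)
  obtain ⟨j, -, hj⟩ := (Nat.dvd_prime_pow Nat.prime_two).1 h1
  rcases j with _ | j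
  · exact orderOf_eq_one_iff.1 (by rw [hj, pow_zero])
  · rw [hj] at h2
    exact absurd h2 (Nat.not_odd_iff_even.2 ((Nat.even_pow' (Nat.succ_ne_zero j)).2 even_two))

theorem Split.mul_inj {x x' y y' : G} (hx : x ∈ S) (hx' : x' ∈ S) (hy : y ∈ O) (hy' : y' ∈ O)
    (e : x * y = x' * y') : x = x' ∧ y = y' := by
  have e' : x'⁻¹ * x = y' * y⁻¹ := by
    calc x'⁻¹ * x = x'⁻¹ * (x * y) * y⁻¹ := by group
      _ = _ := by rw [e]; group
  have h := P.inter (mul_mem (inv_mem hx') hx) (e' ▸ mul_mem hy' (inv_mem hy))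
  rw [inv_mul_eq_one] at h
  subst h
  exact ⟨rfl, mul_left_cancel e⟩

theorem Split.mem_s_iff {x : G} : x ∈ S ↔ x ∈ Q ∧ ∃ k : ℕ, x ^ 2 ^ k = 1 := by
  refine ⟨fun hx => ⟨P.s_le hx, ?_⟩, ?_⟩
  · obtain ⟨k, hk⟩ := P.two ⟨x, hx⟩
    exact ⟨k, congrArg Subtype.val hk⟩
  · rintro ⟨hxQ, k, hk⟩
    obtain ⟨a, ha, b, hb, rfl⟩ := P.mul x hxQ
    rw [(show Commute a b from P.comm a ha b hb).mul_pow] at hk
    have h1 := (P.mul_inj (pow_mem ha _) (one_mem S) (pow_mem hb _) (one_mem O) (by rw [hk, one_mul])).2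
    have hd : Odd (orderOf b) := P.odd.of_dvd_nat (by rw [← Subgroup.orderOf_mk b hb]; exact orderOf_dvd_natCard _)
    have hb1 : orderOf b = 1 := Nat.eq_one_of_dvd_coprimes
      (Nat.Coprime.pow_right k (hd.coprime_two_right)) dvd_rfl (orderOf_dvd_of_pow_eq_one h1)
    rw [orderOf_eq_one_iff.1 hb1, mul_one]
    exact ha

theorem Split.mem_o_iff {x : G} : x ∈ O ↔ x ∈ Q ∧ Odd (orderOf x) := by
  refine ⟨fun hx => ⟨P.o_le hx, P.odd.of_dvd_nat (by
    rw [← Subgroup.orderOf_mk x hx]; exact orderOf_dvd_natCard _)⟩, ?_⟩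
  rintro ⟨hxQ, hodd⟩
  obtain ⟨a, ha, b, hb, rfl⟩ := P.mul x hxQ
  obtain ⟨k, hk⟩ := P.two ⟨a, ha⟩
  have hk' : a ^ 2 ^ k = 1 := congrArg Subtype.val hk
  have h := pow_orderOf_eq_one (a * b)
  set m := orderOf (a * b)
  rw [(show Commute a b from P.comm a ha b hb).mul_pow] at h
  have h1 := (P.mul_inj (pow_mem ha _) (one_mem S) (pow_mem hb _) (one_mem O) (by rw [h, one_mul])).1
  have ha1 : orderOf a = 1 := Nat.eq_one_of_dvd_coprimes
    ((Nat.Coprime.pow_right k hodd.coprime_two_right).symm) (orderOf_dvd_of_pow_eq_one hk')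
    (orderOf_dvd_of_pow_eq_one h1)
  rw [orderOf_eq_one_iff.1 ha1, one_mul]
  exact hb

/-- The product decomposition. -/
noncomputable def Split.equiv : S × O ≃* Q :=
  MulEquiv.ofBijective
    (MonoidHom.mk' (fun p => (⟨p.1 * p.2, mul_mem (P.s_le p.1.2) (P.o_le p.2.2)⟩ : Q)) fun p p' =>
      Subtype.ext (by
        show (p.1 * p'.1 : G) * (p.2 * p'.2) = (p.1 * p.2 : G) * (p'.1 * p'.2)
        rw [mul_assoc, ← mul_assoc (p'.1 : G) p.2, P.comm _ p'.1.2 _ p.2.2]
        group))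
    ⟨fun p p' e => by
      obtain ⟨h1, h2⟩ := P.mul_inj p.1.2 p'.1.2 p.2.2 p'.2.2 (congrArg Subtype.val e)
      exact Prod.ext (Subtype.ext h1) (Subtype.ext h2), fun q => by
      obtain ⟨x, hx, y, hy, e⟩ := P.mul q q.2
      exact ⟨(⟨x, hx⟩, ⟨y, hy⟩), Subtype.ext e.symm⟩⟩

theorem Split.equiv_coe (p : S × O) : ((P.equiv p : Q) : G) = p.1 * p.2 := rfl

/-- The product of a function on `S` and a function on `O`. -/
noncomputable def Split.fn (μ : S → ℂ) (φ : O → ℂ) : Q → ℂ :=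
  fun q => μ (P.equiv.symm q).1 * φ (P.equiv.symm q).2

theorem Split.fn_equiv (μ : S → ℂ) (φ : O → ℂ) (p : S × O) : P.fn μ φ (P.equiv p) = μ p.1 * φ p.2 := by
  simp [Split.fn]

theorem Split.fn_one (μ : S → ℂ) (φ : O → ℂ) : P.fn μ φ 1 = μ 1 * φ 1 := by
  simp [Split.fn]

theorem Split.fn_mem_s (μ : S → ℂ) (φ : O → ℂ) {q : Q} (hq : (q : G) ∈ S) :
    P.fn μ φ q = μ ⟨q, hq⟩ * φ 1 := by
  have e : P.equiv (⟨q, hq⟩, 1) = q := Subtype.ext (by rw [P.equiv_coe]; simp)
  conv_lhs => rw [← e]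
  rw [P.fn_equiv]

section Inner

variable [Fintype Q] [Fintype S] [Fintype O]

theorem Split.inner_fn (μ μ' : S → ℂ) (φ φ' : O → ℂ) :
    classInner (P.fn μ φ) (P.fn μ' φ') = classInner μ μ' * classInner φ φ' := by
  simp only [classInner]
  rw [← P.equiv.toEquiv.sum_comp, Fintype.sum_prod_type, ← Nat.card_congr P.equiv.toEquiv, Nat.card_prod,
    Nat.cast_mul, mul_inv, mul_mul_mul_comm (Nat.card S : ℂ)⁻¹, Finset.sum_mul_sum]
  congr 1
  refine Finset.sum_congr rfl fun x _ => Finset.sum_congr rfl fun y _ => ?_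
  simp only [MulEquiv.toEquiv_eq_coe, EquivLike.coe_coe, P.fn_equiv, map_mul]
  ring

theorem Split.irr_fn {μ : S → ℂ} {φ : O → ℂ} (hμ : IsIrrCharacter S μ) (hφ : IsIrrCharacter O φ) :
    IsIrrCharacter Q (P.fn μ φ) := by
  refine IsChar.irr_of_norm_one ?_ (by rw [P.inner_fn, classInner_self_irr hμ, classInner_self_irr hφ, one_mul])
  exact IsChar.mul (IsChar.comp ((MonoidHom.fst S O).comp P.equiv.symm.toMonoidHom) (IsIrr.isCharacter hμ))
    (IsChar.comp ((MonoidHom.snd S O).comp P.equiv.symm.toMonoidHom) (IsIrr.isCharacter hφ))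

end Inner

end Split

section Rank

variable {Ω : Type v} [MulAction G Ω] [Fintype G] [FaithfulSMul G Ω] {a : Ω} {t : G} {Q S O : Subgroup G}
  [Fintype Q] (H : Hyp G Ω a t Q) (P : Split Q S O)
include H P

theorem conj_mem_s (d : dGrp a t) (x : S) : (d : G)⁻¹ * x * d ∈ S := by
  obtain ⟨k, hk⟩ := (P.mem_s_iff).1 x.2 |>.2
  refine P.mem_s_iff.2 ⟨(qConj H d ⟨x, P.s_le x.2⟩).2, k, ?_⟩
  have h : ((d : G)⁻¹ * x * d) ^ 2 ^ k = (d : G)⁻¹ * (x : G) ^ 2 ^ k * d := by
    simpa using (conj_pow (a := (d : G)⁻¹) (b := (x : G)) (i := 2 ^ k))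
  rw [h, hk]; group

theorem conj_mem_o (d : dGrp a t) (x : O) : (d : G)⁻¹ * x * d ∈ O := by
  refine P.mem_o_iff.2 ⟨(qConj H d ⟨x, P.o_le x.2⟩).2, ?_⟩
  have h : orderOf ((d : G)⁻¹ * x * d) = orderOf (x : G) := by
    simpa using orderOf_injective (MulAut.conj (d : G)⁻¹).toMonoidHom (MulAut.conj (d : G)⁻¹).injective (x : G)
  rw [h]
  exact (P.mem_o_iff.1 x.2).2

/-- Conjugation on `S`. -/
def sConj (d : dGrp a t) : S →* S :=
  MonoidHom.mk' (fun x => ⟨(d : G)⁻¹ * x * d, conj_mem_s H P d x⟩) fun x y => Subtype.ext (by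
    simp only [Subgroup.coe_mul]; group)

/-- Conjugation on `O`. -/
def oConj (d : dGrp a t) : O →* O :=
  MonoidHom.mk' (fun x => ⟨(d : G)⁻¹ * x * d, conj_mem_o H P d x⟩) fun x y => Subtype.ext (by
    simp only [Subgroup.coe_mul]; group)

theorem fn_qConj (μ : S → ℂ) (φ : O → ℂ) (d : dGrp a t) :
    (fun x => P.fn μ φ (qConj H d x)) = P.fn (μ ∘ sConj H P d) (φ ∘ oConj H P d) := by
  funext x
  obtain ⟨p, rfl⟩ := P.equiv.surjective x
  have e : qConj H d (P.equiv p) = P.equiv (sConj H P d p.1, oConj H P d p.2) := Subtype.ext (by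
    rw [qConj_coe, P.equiv_coe, P.equiv_coe]
    show (d : G)⁻¹ * (p.1 * p.2) * d = ((d : G)⁻¹ * p.1 * d) * ((d : G)⁻¹ * p.2 * d)
    group)
  show P.fn μ φ (qConj H d (P.equiv p)) = P.fn (μ ∘ sConj H P d) (φ ∘ oConj H P d) (P.equiv p)
  rw [e, P.fn_equiv, P.fn_equiv]
  rfl

end Rank

end Cfsg.Agent.Transfer.RankOne
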