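import Cfsg.Agent.Lib.Transfer.RankOne.Basic

/-!
A real element of the two-point stabiliser lies in `K` or fixes a third point.
-/

set_option autoImplicit false
set_option linter.unusedSectionVars false

namespace Cfsg.Agent.Transfer.RankOne

open MulAction
open Cfsg.Agent.Lie.RankOne (b_ne q_b exists_qd t_smul_b)

universe u v

variable {G : Type u} {Ω : Type v} [Group G] [MulAction G Ω] [Finite G] [FaithfulSMul G Ω]
  {a : Ω} {t : G} {Q : Subgroup G}

/-- In a subgroup of odd order only the identity is conjugate to its inverse. -/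
theorem eq_one_of_real {X : Subgroup G} (hX : Odd (Nat.card X)) {h y : G} (hh : h ∈ X) (hy : y ∈ X)
    (e : h * y * h⁻¹ = y⁻¹) : y = 1 := by
  obtain ⟨i, hi⟩ := hX.of_dvd_nat (Subgroup.orderOf_dvd_natCard X hh)
  have hit : ∀ j : ℕ, h ^ (2 * j) * y * (h ^ (2 * j))⁻¹ = y := by
    intro j
    induction j with
    | zero => simp
    | succ j ih =>
      calc h ^ (2 * (j + 1)) * y * (h ^ (2 * (j + 1)))⁻¹
          = h * (h * (h ^ (2 * j) * y * (h ^ (2 * j))⁻¹) * h⁻¹) * h⁻¹ := by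
            rw [show 2 * (j + 1) = 2 * j + 1 + 1 by ring, pow_succ', pow_succ']; group
        _ = h * y⁻¹ * h⁻¹ := by rw [ih, e]
        _ = y := by rw [← conj_inv, e, inv_inv]
  have h1 : h ^ (2 * i) = h⁻¹ := by
    refine eq_inv_of_mul_eq_one_left ?_
    rw [← pow_succ, ← hi, pow_orderOf_eq_one]
  have h2 := hit i
  rw [h1, inv_inv] at h2
  have h3 : y = y⁻¹ := by
    calc y = h * (h⁻¹ * y * h) * h⁻¹ := by group
      _ = y⁻¹ := by rw [h2, e]
  exact Lie.RankOne.eq_one_of_sq hX hy (eq_inv_iff_mul_eq_one.1 h3)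

/-- A real element of the two-point stabiliser lies in `K` or fixes a third point. -/
theorem real_cases (H : Hyp G Ω a t Q) {d h : G} (hd : d ∈ dGrp a t) (e : h * d * h⁻¹ = d⁻¹) :
    d ∈ kGrp a t ∨ ∃ c : Ω, c ≠ a ∧ c ≠ t • a ∧ d • c = c := by
  by_contra hcon
  push Not at hcon
  obtain ⟨hdK, hfix⟩ := hcon
  have hda := mem_stabilizer_iff.1 hd.1
  have hdb := mem_stabilizer_iff.1 hd.2
  have hmap : ∀ c : Ω, d • c = c → d • (h • c) = h • c := by
    intro c hc
    have e' : d * h = h * d⁻¹ := by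
      calc d * h = (d⁻¹)⁻¹ * h := by rw [inv_inv]
        _ = (h * d * h⁻¹)⁻¹ * h := by rw [e]
        _ = h * d⁻¹ := by group
    rw [← mul_smul, e', mul_smul, inv_smul_eq_iff.2 hc.symm]
  have hpair : ∀ c : Ω, d • c = c → c = a ∨ c = t • a := fun c hc => by
    by_contra hne
    push Not at hne
    exact hfix c hne.1 hne.2 hc
  rcases hpair _ (hmap a hda) with ha | ha
  · -- inside the stabiliser of `a`
    obtain ⟨q, hq, d1, hd1, rfl⟩ := exists_qd H.setup (mem_stabilizer_iff.2 ha)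
    set c := d1 * d * d1⁻¹ with hc
    have hcD : c ∈ dGrp a t := mul_mem (mul_mem hd1 hd) (inv_mem hd1)
    have e1 : q * c * q⁻¹ * c⁻¹ = d⁻¹ * c⁻¹ := by
      rw [← e, hc]; group
    have hQ : q * c * q⁻¹ * c⁻¹ ∈ Q := by
      rw [mul_assoc, mul_assoc, ← mul_assoc c]
      exact mul_mem hq (H.setup.conj_mem c hcD.1 _ (inv_mem hq))
    have h1 : d⁻¹ * c⁻¹ = 1 := e1 ▸ q_b H.setup hQ (by
      rw [e1]
      exact mem_stabilizer_iff.1 (mul_mem (inv_mem hd) (inv_mem hcD)).2)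
    have h2 : d1 * d * d1⁻¹ = d⁻¹ := by
      rw [← hc]; exact (inv_inv c ▸ (eq_inv_of_mul_eq_one_left h1).symm)
    exact hdK (eq_one_of_real H.setup.odd_card hd1 hd h2 ▸ one_mem _)
  · have hb : h • (t • a) = a := by
      refine (hpair _ (hmap _ hdb)).resolve_right fun h' => b_ne H.setup (smul_left_cancel h (h'.trans ha.symm))
    have hd1 : t * h ∈ dGrp a t := by
      refine ⟨mem_stabilizer_iff.2 ?_, mem_stabilizer_iff.2 ?_⟩
      · rw [mul_smul, ha, t_smul_b H.setup]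
      · rw [mul_smul, hb]
    obtain ⟨k1, hk1, v1, hv1, e1⟩ := exists_decomp H hd1
    obtain ⟨k, hk, v, hv, rfl⟩ := exists_decomp H hd
    have hh : h = t * (k1 * v1) := by
      rw [← e1, ← mul_assoc, H.setup.mul_self, one_mul]
    set v' := v1 * v * v1⁻¹ with hv'
    have hv'V : v' ∈ vGrp a t := mul_mem (mul_mem hv1 hv) (inv_mem hv1)
    set k' := k1 * (v1 * k * v1⁻¹) * (v' * k1⁻¹ * v'⁻¹) with hk'
    have hk'K : k' ∈ kGrp a t :=
      mul_mem (mul_mem hk1 (conj_kGrp H hv1.1 hk)) (conj_kGrp H hv'V.1 (inv_mem hk1))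
    have e2 : h * (k * v) * h⁻¹ = k'⁻¹ * v' := by
      calc h * (k * v) * h⁻¹ = t * (k' * v') * t⁻¹ := by rw [hh, hk', hv']; group
        _ = (t * k' * t) * (t * v' * t) := by
          rw [Lie.RankOne.inv_t H.setup, show t * k' * t * (t * v' * t) = t * k' * (t * t) * v' * t by group,
            H.setup.mul_self]; group
        _ = k'⁻¹ * v' := by rw [t_k H hk'K, t_v H hv'V]
    have e3 : (k * v)⁻¹ = (v⁻¹ * k⁻¹ * v) * v⁻¹ := by group
    have hk'' : v⁻¹ * k⁻¹ * v ∈ kGrp a t := by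
      have := conj_kGrp H (inv_mem hv.1) (inv_mem hk)
      rwa [inv_inv] at this
    obtain ⟨-, h3⟩ := decomp_unique H (inv_mem hk'K) hk'' hv'V (inv_mem hv) (by rw [← e2, e, e3])
    rw [eq_one_of_real (odd_vGrp H) hv1 hv h3, mul_one] at hdK
    exact hdK hk

end Cfsg.Agent.Transfer.RankOne
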