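import Cfsg.Agent.Lib.Transfer.RankOne.QShape
import Cfsg.Agent.Lib.Transfer.RankOne.RealV
import Cfsg.Agent.Lib.Transfer.RankOne.AbCase

/-!
When `Q` is nonabelian of order `q ^ 2`, the group `W` is trivial and the distinguished element `r` is no involution.
-/

set_option autoImplicit false
set_option linter.unusedSectionVars false
set_option linter.style.haveILetI false

namespace Cfsg.Agent.Transfer.RankOne

open MulAction

universe u v

variable {G : Type u} {Ω : Type v} [Group G] [MulAction G Ω] [Finite G] [FaithfulSMul G Ω]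
  {a : Ω} {t : G} {Q : Subgroup G} {F : Type} [Field F] [Finite F] (E : Env a t Q F)
  (hQ2 : IsPGroup 2 Q) (hna : ∃ x ∈ Q, ∃ y ∈ Q, x * y ≠ y * x)
  (hsz : Nat.card Q = Nat.card (zGrp G a) ^ 2)
include E hQ2 hna hsz

theorem w_bot_square : wGrp a t = ⊥ := by
  have H := E.hyp
  refine (Subgroup.eq_bot_iff_forall _).2 fun w hw => d_eq_one E hw.1.1 fun x hx => ?_
  have hwa : w ∈ stabilizer G a := hw.1.1.1
  have hsig : ∀ y, E.sig (wGrp_le_vGrp hw) y = y := fun y => by
    rw [(E.sig_one_iff (wGrp_le_vGrp hw)).2 hw]; rfl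
  have hz : ∀ z ∈ zGrp G a, w * z = z * w := fun z hz => by
    obtain ⟨y, rfl⟩ := E.C.e_surj z hz
    exact ((E.sig_fix (wGrp_le_vGrp hw)).2 (hsig y)).symm
  by_cases hxz : x ∈ zGrp G a
  · exact hz x hxz
  have hy : w * x * w⁻¹ ∈ Q := H.setup.conj_mem w hwa x hx
  have hsq : (w * x * w⁻¹) * (w * x * w⁻¹) = x * x := by
    rw [show w * x * w⁻¹ * (w * x * w⁻¹) = w * (x * x) * w⁻¹ by group,
      hz _ ((q_shape H hQ2 hna).2 x hx), mul_inv_cancel_right]
  have hyz : w * x * w⁻¹ ∉ zGrp G a := fun h => hxz (by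
    have h1 := hz _ h
    rw [show w * (w * x * w⁻¹) = w * w * x * w⁻¹ by group, inv_mul_cancel_right, mul_assoc w w x] at h1
    have h2 := conj_zGrp H (inv_mem hwa) h
    rwa [show w⁻¹ * (w * x * w⁻¹) * w⁻¹⁻¹ = x by group] at h2)
  set c := x⁻¹ * (w * x * w⁻¹) with hc
  have hcz : c ∈ zGrp G a := coset_of_sq H hsz hQ2 hna hx hxz hy hyz hsq.symm
  have hit : ∀ j : ℕ, w ^ j * x * (w ^ j)⁻¹ = x * c ^ j := by
    intro j
    induction j with
    | zero => simp
    | succ j ihj =>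
      calc w ^ (j + 1) * x * (w ^ (j + 1))⁻¹ = w * (w ^ j * x * (w ^ j)⁻¹) * w⁻¹ := by rw [pow_succ']; group
        _ = w * x * (c ^ j * w⁻¹) := by rw [ihj]; group
        _ = w * x * (w⁻¹ * c ^ j) := by
          rw [((show Commute c w from (hz c hcz).symm).pow_left j).inv_right.eq]
        _ = x * c * c ^ j := by rw [hc]; group
        _ = _ := by rw [mul_assoc, ← pow_succ']
  have h1 := hit (orderOf w)
  obtain ⟨i, hi⟩ : Odd (orderOf w) :=
    (odd_vGrp H).of_dvd_nat (Subgroup.orderOf_dvd_natCard _ (wGrp_le_vGrp hw))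
  rw [pow_orderOf_eq_one, one_mul, inv_one, mul_one, left_eq_mul, hi, pow_succ, pow_mul,
    show c ^ 2 = 1 by rw [pow_two]; exact ((mem_zGrp H).1 hcz).2, one_pow, one_mul, hc, inv_mul_eq_one] at h1
  exact (mul_inv_eq_iff_eq_mul.1 h1.symm)

theorem r_not_mem_square : E.r ∉ zGrp G a := by
  classical
  intro hrz
  have H := E.hyp
  haveI := Lie.RankOne.finite_omega H.setup
  haveI : Fintype Ω := Fintype.ofFinite Ω
  set q := Nat.card (zGrp G a) with hq
  have hq4 := four_le_q H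
  have hB : ∃ c, ¬ InB E hrz c := by
    by_contra hcon
    push Not at hcon
    have hsurj : Function.Surjective fun o : Option (zGrp G a) => o.elim a fun z => (z : G) • (t • a) := fun c => by
      rcases hcon c with rfl | ⟨z, hz, rfl⟩
      · exact ⟨none, rfl⟩
      · exact ⟨some ⟨z, hz⟩, rfl⟩
    have h1 := Nat.card_le_card_of_surjective _ hsurj
    rw [Lie.RankOne.card_omega H.setup, hsz, Finite.card_option] at h1
    nlinarith
  obtain ⟨c, hc⟩ := hB
  have hbig : Nat.card Q + 1 < Nat.card (lGrp E hrz) + (q + 1) := by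
    rw [hsz, card_lGrp E hrz, ← hq]
    have h3 := card_kGrp H
    rw [← hq] at h3
    obtain ⟨e, he⟩ : ∃ e, Nat.card (kGrp a t) = e := ⟨_, rfl⟩
    rw [he] at h3 ⊢
    rw [← h3]
    have : 3 ≤ e := by omega
    nlinarith
  obtain ⟨c', g, l, hc', hg, hl, hlo, hgc⟩ := exists_fix_outside E hrz hbig hc
  obtain ⟨hl2, hlq, hlK, h, -, hhg⟩ := fix_outside_facts E hrz hc' hg hl hlo hgc
  haveI := Fact.mk hl
  have hP : IsPGroup l (Subgroup.zpowers g) := IsPGroup.of_card (n := 1) (by rw [Nat.card_zpowers, hlo, pow_one])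
  have hm := hP.card_modEq_card_fixedPoints Ω
  have hΩ : Nat.card Ω ≡ 2 [MOD l] := by
    rw [Lie.RankOne.card_omega H.setup, hsz]
    have : q ^ 2 + 1 = (q + 1) * (q - 1) + 2 := by
      obtain ⟨p, hp⟩ : ∃ p, q = p + 1 := ⟨q - 1, by omega⟩
      rw [hp, Nat.add_sub_cancel]; ring
    rw [this]
    exact (Nat.modEq_zero_iff_dvd.2 (hlq.mul_right _)).add_right 2 |>.trans (by rw [zero_add])
  have hfix : (Nat.card (fixedPoints (Subgroup.zpowers g) Ω)) % l = 2 % l := hm.symm.trans hΩ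
  have h3 : 3 ≤ l := by have := hl.two_le; omega
  rw [Nat.mod_eq_of_lt (show 2 < l by omega)] at hfix
  have h2 : 1 < Nat.card (fixedPoints (Subgroup.zpowers g) Ω) := by
    have := Nat.mod_le (Nat.card (fixedPoints (Subgroup.zpowers g) Ω)) l
    omega
  obtain ⟨⟨p₁, hp₁⟩, ⟨p₂, hp₂⟩, hne⟩ := Finite.one_lt_card_iff_nontrivial.1 h2
  obtain ⟨f, hf⟩ := real_conj_w E hhg hl hlo hlK (hp₁ ⟨g, Subgroup.mem_zpowers g⟩)
    (hp₂ ⟨g, Subgroup.mem_zpowers g⟩) (fun e => hne (Subtype.ext e))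
  rw [w_bot_square E hQ2 hna hsz, Subgroup.mem_bot, conj_eq_one_iff] at hf
  rw [hf, orderOf_one] at hlo
  omega

end Cfsg.Agent.Transfer.RankOne
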