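import Cfsg.Agent.Lib.Transfer.RankOne.Basic
import Cfsg.Agent.Lib.Fus.ParabolicField

/-!
Field coordinates on `Z₀`: `K` acts by multiplication and `V` by field automorphisms; the resulting homomorphism
from the point stabiliser to the automorphisms of the field, and its transfer.
-/

set_option autoImplicit false
set_option linter.unusedSectionVars false
set_option linter.style.haveILetI false

namespace Cfsg.Agent.Transfer.RankOne

open MulAction
open Cfsg.Agent.Lie.RankOne (b_ne exists_qd invol_mem_Q)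

universe u v

variable {G : Type u} {Ω : Type v} [Group G] [MulAction G Ω]

/-- Coordinates from a field on `Z₀` with `K` as the multiplicative group. -/
structure ZCoord (a : Ω) (t s : G) (F : Type) [Field F] where
  e : F → G
  kap : Fˣ → G
  e_mem : ∀ y, e y ∈ zGrp G a
  e_surj : ∀ z ∈ zGrp G a, ∃ y, e y = z
  e_inj : Function.Injective e
  e_add : ∀ x y, e (x + y) = e x * e y
  e_one : e 1 = s
  kap_mem : ∀ c, kap c ∈ kGrp a t
  kap_surj : ∀ k ∈ kGrp a t, ∃ c, kap c = k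
  kap_inj : Function.Injective kap
  kap_mul : ∀ c d, kap (c * d) = kap c * kap d
  conj : ∀ (c : Fˣ) (y : F), kap c * e y * (kap c)⁻¹ = e ((c : F) * y)

/-- Automorphisms of a finite field commute. -/
theorem ringEquiv_comm {F : Type} [Field F] [Finite F] (φ ψ : F ≃+* F) : φ * ψ = ψ * φ := by
  haveI := Fintype.ofFinite F
  obtain ⟨g, hg⟩ := IsCyclic.exists_generator (α := Fˣ)
  have hpow : ∀ (χ : F ≃+* F), ∃ i : ℕ, χ (g : F) = (g : F) ^ i := fun χ => by
    have h := (mem_powers_iff_mem_zpowers (x := g) (y := Units.map χ.toRingHom.toMonoidHom g)).2 (hg _)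
    obtain ⟨i, hi⟩ := h
    refine ⟨i, ?_⟩
    have h' := congrArg Units.val hi
    simpa using h'.symm
  obtain ⟨i, hi⟩ := hpow φ
  obtain ⟨j, hj⟩ := hpow ψ
  have h1 : φ (ψ (g : F)) = ψ (φ (g : F)) := by
    rw [hj, hi, map_pow, map_pow, hi, hj, ← pow_mul, ← pow_mul, mul_comm]
  refine RingEquiv.ext fun x => ?_
  show φ (ψ x) = ψ (φ x)
  by_cases hx : x = 0
  · simp [hx]
  obtain ⟨k, hk⟩ := (mem_powers_iff_mem_zpowers (x := g) (y := Units.mk0 x hx)).2 (hg _)
  have hk' : (g : F) ^ k = x := by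
    have h' := congrArg Units.val hk
    simpa using h'
  rw [← hk', map_pow, map_pow, map_pow, map_pow, h1]

/-- The automorphisms of a finite field as a commutative group. -/
@[reducible]
def autComm (F : Type) [Field F] [Finite F] : CommGroup (F ≃+* F) :=
  { (inferInstance : Group (F ≃+* F)) with mul_comm := ringEquiv_comm }

variable [Finite G] [FaithfulSMul G Ω] {a : Ω} {t : G} {Q : Subgroup G} (H : Hyp G Ω a t Q)
include H

theorem exists_zcoord {s : G} (hs : s ∈ Cfsg.involutionsIn (stabilizer G a : Set G)) :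
    ∃ (n : ℕ) (F : Type) (_ : Field F) (_ : Fintype F), 2 ≤ n ∧ Fintype.card F = 2 ^ n ∧
      Nat.card (zGrp G a) = 2 ^ n ∧ CharP F 2 ∧ Nonempty (ZCoord a t s F) := by
  classical
  haveI : Fact (Nat.Prime 2) := ⟨Nat.prime_two⟩
  obtain ⟨n, hn, hcard⟩ := exists_card_zGrp H
  have hsz : s ∈ zGrp G a := Subgroup.subset_closure hs
  have hPc : IsMulCommutative (zGrp G a) := ⟨⟨fun x y => Subtype.ext (zGrp_central H x.2 (zGrp_le H y.2))⟩⟩
  have hPe : ∀ x ∈ zGrp G a, x ^ 2 = 1 := fun x hx => by rw [pow_two]; exact ((mem_zGrp H).1 hx).2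
  have hKcyc : IsCyclic (kGrp a t) := by
    obtain ⟨k₀, -, e⟩ := exists_k_gen H
    rw [e]
    exact Subgroup.isCyclic_zpowers k₀
  have hKc : Nat.card (kGrp a t) = (2 ^ n - 1) / (2 - 1) := by
    have := card_kGrp H
    rw [Nat.div_one]
    omega
  have hnorm : ∀ k ∈ kGrp a t, ∀ x ∈ zGrp G a, k * x * k⁻¹ ∈ zGrp G a := fun k hk x hx =>
    conj_zGrp H (kGrp_le_dGrp H hk).1 hx
  have hfree : ∀ k ∈ kGrp a t, ∀ x ∈ zGrp G a, k * x * k⁻¹ = x → k = 1 ∨ x = 1 := fun k hk x hx h => by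
    by_cases hk1 : k = 1
    · exact Or.inl hk1
    · exact Or.inr (kGrp_fpf H hk hk1 (zGrp_le H hx) (mul_inv_eq_iff_eq_mul.1 h))
  have hs2 : Nat.card (Subgroup.zpowers s) = 2 := by
    rw [Nat.card_zpowers]
    exact orderOf_eq_prime (by rw [pow_two, hs.2.2]) hs.2.1
  obtain ⟨F₀, i1, i2, f, ψ, hF₀, hbij, hadd, hψ, hψm, hψi, -⟩ := Fus.ParabolicField.exists_field (p := 2) hn
    hPc hPe hcard hKcyc hKc hnorm hfree ((Subgroup.zpowers_le).2 hsz) hs2
  let F := GaloisField 2 n
  haveI : Fintype F := Fintype.ofFinite F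
  have hF : Fintype.card F = 2 ^ n := by
    rw [← Nat.card_eq_fintype_card]; exact GaloisField.card 2 n (by omega)
  let ε : F ≃+* F₀ := FiniteField.ringEquivOfCardEq (hF.trans hF₀.symm)
  have hf1 : f 1 = 0 := by
    have h := hadd 1 (one_mem _) 1 (one_mem _)
    rw [one_mul] at h
    exact left_eq_add.1 h
  have hfs : f s ≠ 0 := fun h => hs.2.1 (hbij.injOn hsz (one_mem _) (h.trans hf1.symm))
  have hψ1 : ψ 1 = 1 := by
    have h := hψm 1 (one_mem _) 1 (one_mem _)
    rw [one_mul] at h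
    exact (mul_eq_left₀ (hψ 1 (one_mem _)).1).1 h.symm
  have hψsurj : ∀ c : F₀, c ≠ 0 → ∃ k ∈ kGrp a t, ψ k = c := by
    let g : kGrp a t → {c : F₀ // c ≠ 0} := fun k => ⟨ψ k, (hψ k k.2).1⟩
    have hg : Function.Bijective g := by
      refine (Nat.bijective_iff_injective_and_card g).2 ⟨fun k k' h => Subtype.ext (hψi k.2 k'.2 (congrArg Subtype.val h)), ?_⟩
      rw [hKc, Nat.div_one, Nat.card_eq_fintype_card, Fintype.card_subtype_compl, Fintype.card_subtype_eq,
        ← Nat.card_eq_fintype_card, show Nat.card F₀ = 2 ^ n by rw [Nat.card_eq_fintype_card]; exact hF₀]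
    intro c hc
    obtain ⟨k, hk⟩ := hg.2 ⟨c, hc⟩
    exact ⟨k, k.2, congrArg Subtype.val hk⟩
  have hsurj : ∀ y : F, ∃ z ∈ zGrp G a, f z = ε y * f s := fun y => hbij.surjOn (Set.mem_univ _)
  choose e he he' using hsurj
  have hk : ∀ c : Fˣ, ∃ k ∈ kGrp a t, ψ k = ε c := fun c =>
    hψsurj _ ((map_ne_zero ε).2 c.ne_zero)
  choose kap hk hk' using hk
  have einj : ∀ y y', f (e y) = f (e y') → y = y' := fun y y' h =>
    ε.injective (mul_right_cancel₀ hfs (by rw [← he', ← he', h]))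
  refine ⟨n, F, inferInstance, inferInstance, hn, hF, hcard, inferInstance, ⟨{
    e := e
    kap := kap
    e_mem := he
    e_surj := fun z hz => ⟨ε.symm (f z / f s), hbij.injOn (he _) hz (by
      rw [he', RingEquiv.apply_symm_apply, div_mul_cancel₀ _ hfs])⟩
    e_inj := fun y y' h => einj y y' (congrArg f h)
    e_add := fun x y => hbij.injOn (he _) (mul_mem (he x) (he y)) (by
      rw [hadd _ (he x) _ (he y), he', he', he', map_add, add_mul])
    e_one := hbij.injOn (he _) hsz (by rw [he', map_one, one_mul])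
    kap_mem := hk
    kap_surj := fun k hkm => ⟨Units.mk0 (ε.symm (ψ k)) ((map_ne_zero ε.symm).2 (hψ k hkm).1),
      hψi (hk _) hkm (by rw [hk', Units.val_mk0, RingEquiv.apply_symm_apply])⟩
    kap_inj := fun c d h => Units.ext (ε.injective (by rw [← hk' c, ← hk' d, h]))
    kap_mul := fun c d => hψi (hk _) (mul_mem (hk c) (hk d)) (by
      rw [hψm _ (hk c) _ (hk d), hk', hk', hk', Units.val_mul, map_mul])
    conj := fun c y => hbij.injOn (hnorm _ (hk c) _ (he y)) (he _) (by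
      rw [(hψ _ (hk c)).2 _ (he y), he', he', hk', map_mul, mul_assoc]) }⟩⟩

variable {s : G} {F : Type} [Field F] (C : ZCoord a t s F)
include C

omit H in
theorem e_zero : C.e 0 = 1 := by
  have h := C.e_add 0 0
  rw [add_zero] at h
  exact mul_eq_left.1 h.symm

omit H in
theorem e_eq_one {y : F} : C.e y = 1 ↔ y = 0 :=
  ⟨fun h => C.e_inj (h.trans (e_zero C).symm), fun h => h ▸ e_zero C⟩

theorem v_aut {r x : G} (hs : s ∈ Cfsg.involutionsIn (stabilizer G a : Set G)) (hr : r ∈ Q)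
    (e : t * s * t = r⁻¹ * t * r) (hx : x ∈ vGrp a t) :
    ∃ σ : F ≃+* F, (∀ y, x * C.e y * x⁻¹ = C.e (σ y)) ∧
      ∀ c : Fˣ, x * C.kap c * x⁻¹ = C.kap (Units.map σ.toRingHom.toMonoidHom c) := by
  classical
  choose τ hτ using fun y => C.e_surj _ (conj_zGrp H (vGrp_le_dGrp hx).1 (C.e_mem y))
  choose κ hκ using fun c => C.kap_surj _ (conj_kGrp H (vGrp_le_dGrp hx) (C.kap_mem c))
  have h1 : τ 1 = 1 := C.e_inj (by
    rw [hτ, C.e_one, ← (v_dist H hs hr e hx.1).1 hx, mul_inv_cancel_right])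
  have hmul : ∀ (c : Fˣ) (y : F), τ (c * y) = (κ c : F) * τ y := fun c y => C.e_inj (by
    rw [← C.conj (κ c), hτ, hτ, hκ, ← C.conj c]; group)
  have hκτ : ∀ c : Fˣ, (κ c : F) = τ c := fun c => by
    have h := hmul c 1
    rw [mul_one, h1, mul_one] at h
    exact h.symm
  have hadd : ∀ y y', τ (y + y') = τ y + τ y' := fun y y' => C.e_inj (by
    rw [C.e_add, hτ, hτ, hτ, C.e_add]; group)
  have h0 : τ 0 = 0 := C.e_inj (by rw [hτ, e_zero C]; group)
  have hmul' : ∀ y y', τ (y * y') = τ y * τ y' := fun y y' => by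
    by_cases hy : y = 0
    · simp [hy, h0]
    · have h := hmul (Units.mk0 y hy) y'
      rw [hκτ, Units.val_mk0] at h
      exact h
  have hbij : Function.Bijective τ := by
    refine ⟨fun y y' h => C.e_inj ?_, fun y => ?_⟩
    · have h' := congrArg C.e h
      rw [hτ, hτ] at h'
      exact mul_left_cancel (mul_right_cancel h')
    · obtain ⟨y', hy'⟩ := C.e_surj _ (conj_zGrp H (inv_mem (vGrp_le_dGrp hx).1) (C.e_mem y))
      refine ⟨y', C.e_inj ?_⟩
      rw [hτ, hy']; group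
  refine ⟨{ Equiv.ofBijective τ hbij with map_mul' := hmul', map_add' := hadd }, fun y => (hτ y).symm, fun c => ?_⟩
  rw [← hκ]
  exact congrArg C.kap (Units.ext (hκτ c))

theorem stab_aut {r g : G} (hs : s ∈ Cfsg.involutionsIn (stabilizer G a : Set G)) (hr : r ∈ Q)
    (e : t * s * t = r⁻¹ * t * r) (hg : g ∈ stabilizer G a) :
    ∃ (c : Fˣ) (σ : F ≃+* F), ∀ y, g * C.e y * g⁻¹ = C.e ((c : F) * σ y) := by
  obtain ⟨q, hq, d, hd, rfl⟩ := exists_qd H.setup hg
  obtain ⟨k, hk, x, hx, rfl⟩ := exists_decomp H hd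
  obtain ⟨c, rfl⟩ := C.kap_surj k hk
  obtain ⟨σ, hσ, -⟩ := v_aut H C hs hr e hx
  refine ⟨c, σ, fun y => ?_⟩
  calc q * (C.kap c * x) * C.e y * (q * (C.kap c * x))⁻¹
      = q * (C.kap c * (x * C.e y * x⁻¹) * (C.kap c)⁻¹) * q⁻¹ := by group
    _ = q * C.e ((c : F) * σ y) * q⁻¹ := by rw [hσ, C.conj]
    _ = C.e ((c : F) * σ y) := by rw [← zGrp_central H (C.e_mem _) hq, mul_inv_cancel_right]

omit H in
theorem aut_unique {g : G} {c c' : Fˣ} {σ σ' : F ≃+* F} (h : ∀ y, g * C.e y * g⁻¹ = C.e ((c : F) * σ y))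
    (h' : ∀ y, g * C.e y * g⁻¹ = C.e ((c' : F) * σ' y)) : σ = σ' := by
  have hc : ∀ y, (c : F) * σ y = (c' : F) * σ' y := fun y => C.e_inj ((h y).symm.trans (h' y))
  have h1 := hc 1
  simp only [map_one, mul_one] at h1
  exact RingEquiv.ext fun y => mul_left_cancel₀ c'.ne_zero (by rw [← hc y, h1])

/-- The field automorphism induced by an element of the point stabiliser. -/
noncomputable def theta {r : G} (hs : s ∈ Cfsg.involutionsIn (stabilizer G a : Set G)) (hr : r ∈ Q)
    (e : t * s * t = r⁻¹ * t * r) : stabilizer G a →* (F ≃+* F) where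
  toFun g := (stab_aut H C hs hr e g.2).choose_spec.choose
  map_one' := by
    refine aut_unique C (stab_aut H C hs hr e (one_mem _)).choose_spec.choose_spec (c' := 1) fun y => ?_
    simp
  map_mul' g g' := by
    obtain h := (stab_aut H C hs hr e g.2).choose_spec.choose_spec
    obtain h' := (stab_aut H C hs hr e g'.2).choose_spec.choose_spec
    refine aut_unique C (stab_aut H C hs hr e (g * g').2).choose_spec.choose_spec
      (c' := (stab_aut H C hs hr e g.2).choose *
        Units.map (stab_aut H C hs hr e g.2).choose_spec.choose.toRingHom.toMonoidHom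
          (stab_aut H C hs hr e g'.2).choose) fun y => ?_
    calc ((g * g' : stabilizer G a) : G) * C.e y * ((g * g' : stabilizer G a) : G)⁻¹
        = (g : G) * ((g' : G) * C.e y * (g' : G)⁻¹) * (g : G)⁻¹ := by
          rw [Subgroup.coe_mul]; group
      _ = _ := by
          rw [h', h, map_mul, ← mul_assoc]
          rfl

variable {r : G} (hs : s ∈ Cfsg.involutionsIn (stabilizer G a : Set G)) (hr : r ∈ Q)
  (e : t * s * t = r⁻¹ * t * r)

theorem theta_eq {g : stabilizer G a} {c : Fˣ} {σ : F ≃+* F}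
    (h : ∀ y, (g : G) * C.e y * (g : G)⁻¹ = C.e ((c : F) * σ y)) : theta H C hs hr e g = σ :=
  aut_unique C (stab_aut H C hs hr e g.2).choose_spec.choose_spec h

theorem theta_q {g : stabilizer G a} (hg : (g : G) ∈ Q) : theta H C hs hr e g = 1 :=
  theta_eq H C hs hr e (c := 1) fun y => by
    rw [← zGrp_central H (C.e_mem y) hg, mul_inv_cancel_right]; simp

theorem theta_k {g : stabilizer G a} (hg : (g : G) ∈ kGrp a t) : theta H C hs hr e g = 1 := by
  obtain ⟨c, hc⟩ := C.kap_surj _ hg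
  refine theta_eq H C hs hr e (c := c) fun y => ?_
  rw [← hc, C.conj]; rfl

theorem theta_v {x : G} (hx : x ∈ vGrp a t) :
    (∀ y, x * C.e y * x⁻¹ = C.e (theta H C hs hr e ⟨x, hx.1.1⟩ y)) ∧
      ∀ c : Fˣ, x * C.kap c * x⁻¹ =
        C.kap (Units.map (theta H C hs hr e ⟨x, hx.1.1⟩).toRingHom.toMonoidHom c) := by
  obtain ⟨σ, h1, h2⟩ := v_aut H C hs hr e hx
  rw [theta_eq H C hs hr e (g := ⟨x, hx.1.1⟩) (c := 1) (σ := σ) fun y => by rw [h1]; simp]
  exact ⟨h1, h2⟩

theorem theta_eq_one_iff {x : G} (hx : x ∈ vGrp a t) :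
    theta H C hs hr e ⟨x, hx.1.1⟩ = 1 ↔ x ∈ wGrp a t := by
  constructor
  · intro h
    refine (mem_wGrp).2 ⟨hx, fun k hk => ?_⟩
    obtain ⟨c, rfl⟩ := C.kap_surj k hk
    have h2 := (theta_v H C hs hr e hx).2 c
    rw [h, show Units.map (1 : F ≃+* F).toRingHom.toMonoidHom c = c from Units.ext rfl] at h2
    exact (mul_inv_eq_iff_eq_mul.1 h2).symm
  · intro h
    refine RingEquiv.ext fun y => ?_
    by_cases hy : y = 0
    · simp [hy]
    have h2 := (theta_v H C hs hr e hx).2 (Units.mk0 y hy)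
    rw [← ((mem_wGrp).1 h).2 _ (C.kap_mem _), mul_inv_cancel_right] at h2
    exact (congrArg Units.val (C.kap_inj h2)).symm

theorem theta_mem_z_fix {x : G} (hx : x ∈ vGrp a t) {y : F} :
    C.e y * x = x * C.e y ↔ theta H C hs hr e ⟨x, hx.1.1⟩ y = y := by
  constructor
  · intro h
    refine C.e_inj ?_
    rw [← (theta_v H C hs hr e hx).1, ← h, mul_inv_cancel_right]
  · intro h
    have h2 := (theta_v H C hs hr e hx).1 y
    rw [h, mul_inv_eq_iff_eq_mul] at h2
    exact h2.symm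

variable [Finite F]

theorem theta_fusion {g y : G} (hy : y ∈ vGrp a t) (hm : g⁻¹ * y * g ∈ stabilizer G a) :
    theta H C hs hr e ⟨g⁻¹ * y * g, hm⟩ = theta H C hs hr e ⟨y, hy.1.1⟩ := by
  have hfix : y • (g • a) = g • a := by
    have := mem_stabilizer_iff.1 hm
    rwa [mul_smul, mul_smul, inv_smul_eq_iff] at this
  obtain ⟨s', r', -, hr', hr1', -, hrt⟩ := exists_dist H
  have h3 : ∃ b c d : Ω, b ≠ c ∧ b ≠ d ∧ c ≠ d ∧ ∀ x ∈ ({y} : Set G), x • b = b ∧ x • c = c ∧ x • d = d := by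
    refine ⟨a, t • a, r' • (t • a), (b_ne H.setup).symm, (Lie.RankOne.ne_of_q_smul H.setup hr' (b_ne H.setup)).symm,
      fun h => hr1' (Lie.RankOne.q_b H.setup hr' h.symm), ?_⟩
    rintro x rfl
    refine ⟨hy.1.1, hy.1.2, ?_⟩
    rw [← mul_smul, v_comm_r H hr' hrt hy, mul_smul, mem_stabilizer_iff.1 hy.1.2]
  obtain ⟨h, hh, hha⟩ := Lie.RankOne.cent_from_a H.setup (Set.singleton_subset_iff.2 hy.1) h3 (c := g • a)
    (by rintro x rfl; exact hfix)
  have hm' : h⁻¹ * g ∈ stabilizer G a := by rw [mem_stabilizer_iff, mul_smul, ← hha, inv_smul_smul]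
  have e1 : (⟨g⁻¹ * y * g, hm⟩ : stabilizer G a) = (⟨_, hm'⟩ : stabilizer G a)⁻¹ * ⟨y, hy.1.1⟩ * ⟨_, hm'⟩ := by
    refine Subtype.ext ?_
    show g⁻¹ * y * g = (h⁻¹ * g)⁻¹ * y * (h⁻¹ * g)
    calc g⁻¹ * y * g = g⁻¹ * (y * h) * h⁻¹ * g := by group
      _ = _ := by rw [← Subgroup.mem_centralizer_singleton_iff.1 hh]; group
  rw [e1, map_mul, map_mul, map_inv, ringEquiv_comm, mul_inv_cancel_left]

theorem theta_transfer [IsSimpleGroup G] {x : G} (hx : x ∈ vGrp a t) :
    theta H C hs hr e ⟨x, hx.1.1⟩ ^ (Nat.card Q + 1) = 1 := by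
  classical
  letI := autComm F
  haveI := Lie.RankOne.finite_omega H.setup
  have hidx : (stabilizer G a).index = Nat.card Q + 1 := by
    rw [MulAction.index_stabilizer, ← Lie.RankOne.card_omega H.setup, ← Nat.card_coe_set_eq]
    exact Nat.card_congr (Equiv.subtypeUnivEquiv fun c => Lie.RankOne.exists_smul H.setup)
  set φ := MonoidHom.transfer (theta H C hs hr e) with hφ
  have h1 : φ x = 1 := by
    rcases IsSimpleGroup.eq_bot_or_eq_top_of_normal φ.ker inferInstance with h | h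
    · exfalso
      have hinj : Function.Injective φ := (MonoidHom.ker_eq_bot_iff φ).1 h
      refine hs.2.1 (FaithfulSMul.eq_of_smul_eq_smul (α := Ω) fun c => ?_)
      obtain ⟨g, rfl⟩ : ∃ g : G, g • a = c := Lie.RankOne.exists_smul H.setup
      rw [one_smul, ← mul_smul, hinj (show φ (s * g) = φ (g * s) by rw [map_mul, map_mul, mul_comm]), mul_smul,
        mem_stabilizer_iff.1 hs.1]
    · exact MonoidHom.mem_ker.1 (h ▸ Subgroup.mem_top x)
  haveI := (stabilizer G a).fintypeQuotientOfFiniteIndex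
  haveI : Fintype (Quotient (orbitRel (Subgroup.zpowers x) (G ⧸ stabilizer G a))) := Fintype.ofFinite _
  rw [hφ, MonoidHom.transfer_eq_prod_quotient_orbitRel_zpowers_quot] at h1
  rw [← hidx, Subgroup.index_eq_sum_minimalPeriod _ x, ← Finset.prod_pow_eq_pow_sum, ← h1]
  refine Finset.prod_congr rfl fun q _ => ?_
  set l := Function.minimalPeriod (x • ·) q.out
  rw [theta_fusion H C hs hr e (y := x ^ l) (pow_mem hx l), ← map_pow]
  rfl

end Cfsg.Agent.Transfer.RankOne
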